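import Groth.Agent.Magnet.K950.RepZar
import Groth.Agent.Magnet.K951.AttrAff
import Groth.Agent.Magnet.K951.Shf
import Groth.Agent.Magnet.K951.Stab

/-!
# For `X` affine over `S`, the points of an affine `U ⟶ X` lying in the attractor `X^N` are cut out by an ideal
-/

set_option autoImplicit false

universe u

open CategoryTheory MonoidalCategory CartesianMonoidalCategory MonObj AlgebraicGeometry Opposite Limits

namespace K950.AttrIdeal

open Magnet Magnet.MonAct K951.Pts K951.Prd K951.Coact K951.AttrAff K950.RepClosed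

attribute [local instance] isAffine_tensor

variable {S : Scheme.{u}} {M : Type} [AddCommMonoid M] {X : Over S} [IsAffineHom X.hom]
  (a : MonAct (AMonS S M) X) (N : AddSubmonoid M)

/-- The canonical map `X^N ⟶ X` is a monomorphism of functors for `X` affine over `S`. -/
theorem attrToX_injective (T : (Over S)ᵒᵖ) : Function.Injective ((attrToX a N).app T) :=
  K950.ZarAff.app_injective (attrToX a N) (K951.Shf.isSheaf_eqvHom _ _ _)
    (fun _ _ _ _ h => attrToX_injective_of_isAffine N h) (unop T)

omit [IsAffineHom X.hom] in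
theorem isEquivariant_whiskerLeft {T U : Over S} (x : T ⟶ U) : IsEquivariant (aT a T) (aT a U) (X ◁ x) := by
  rw [isEquivariant_iff]
  intro W g z
  rw [← lift_comp_fst_snd z, lift_prod_act_assoc, lift_trivial_act, lift_whiskerLeft, lift_whiskerLeft,
    lift_prod_act, lift_trivial_act]

omit [IsAffineHom X.hom] in
theorem pb_surjective {Y Z : Over S} [IsAffine Z.left] (f : Y ⟶ Z) [IsClosedImmersion f.left] :
    Function.Surjective (pb f) := by
  exact (IsClosedImmersion.isAffine_surjective_of_isAffine f.left).2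

/-- The component of the pull-back along an equivariant morphism. -/
theorem cmp_pb {Y Z : Over S} [IsAffine Y.left] [IsAffine Z.left] {b : MonAct (AMonS S M) Y}
    {c : MonAct (AMonS S M) Z} {f : Y ⟶ Z} (hf : IsEquivariant b c f) (m : M) (h : Fn Z) :
    K951.Coact.cmp b m (pb f h) = pb f (K951.Coact.cmp c m h) := by
  refine homog_induction c (P := fun h => K951.Coact.cmp b m (pb f h) = pb f (K951.Coact.cmp c m h)) ?_ ?_ ?_ h
  · rw [map_zero, cmp_of_isHomog b (isHomog_zero b m), cmp_of_isHomog c (isHomog_zero c m), map_zero]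
  · intro h h' e e'
    rw [map_add, cmp_add, cmp_add, map_add, e, e']
  · intro n h hh
    by_cases hn : m = n
    · subst hn
      rw [cmp_of_isHomog _ hh, cmp_of_isHomog _ (IsHomog.pb hf hh)]
    · rw [cmp_of_isHomog_ne _ hh hn, cmp_of_isHomog_ne _ (IsHomog.pb hf hh) hn, map_zero]

/-- The ideal of `Γ(U)` generated by the values at the graph of `f : U ⟶ X` of the homogeneous functions on `X ×_S U`
of degree outside `N`. -/
noncomputable def idl {U : Over S} [IsAffine U.left] (f : U ⟶ X) : Ideal (Fn U) :=
  Ideal.span {r | ∃ m ∉ N, ∃ h : Fn (X ⊗ U), IsHomog (aT a U) m h ∧ pb (lift f (𝟙 U)) h = r}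

theorem mem_of_closed {U Z : Over S} [IsAffine U.left] [IsAffine Z.left] (f : U ⟶ X) (z : Z ⟶ U)
    [IsClosedImmersion z.left] (hz : idl a N f ≤ RingHom.ker (pb z)) : Mem (attrToX a N) (z ≫ f) := by
  change ∃ φ : (attr a N).obj (op Z), (attrToX a N).app (op Z) φ = z ≫ f
  rw [mem_range_attrToX_iff]
  intro m hm h' hh'
  have hcl : IsClosedImmersion (X ◁ z).left :=
    MorphismProperty.of_isPullback (P := @IsClosedImmersion) (K951.Stab.isPullback_whiskerLeft_left X z) ‹_›
  obtain ⟨h, rfl⟩ := pb_surjective (X ◁ z) h'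
  have e1 := cmp_pb (isEquivariant_whiskerLeft a z) m h
  rw [cmp_of_isHomog _ hh'] at e1
  rw [e1, ← pb_comp_apply, lift_whiskerLeft, Category.id_comp]
  have e2 : lift (z ≫ f) z = z ≫ lift f (𝟙 U) := by rw [comp_lift, Category.comp_id]
  rw [e2, pb_comp_apply]
  exact hz (Ideal.subset_span ⟨m, hm, _, isHomog_cmp _ m h, rfl⟩)

/-- **The points of `U` lying in `X^N` are cut out by the ideal `idl`.** -/
theorem mem_iff {U : Over S} [IsAffine U.left] (f : U ⟶ X) (T : Over S) [IsAffine T.left] (x : T ⟶ U) :
    Mem (attrToX a N) (x ≫ f) ↔ idl a N f ≤ RingHom.ker x.left.appTop.hom := by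
  constructor
  · intro hx
    rw [idl, Ideal.span_le]
    rintro r ⟨m, hm, h, hh, rfl⟩
    change pb x (pb (lift f (𝟙 U)) h) = 0
    have h1 := (mem_range_attrToX_iff N (x ≫ f)).1 hx m hm _ (IsHomog.pb (isEquivariant_whiskerLeft a x) hh)
    rw [← pb_comp_apply, lift_whiskerLeft, Category.id_comp] at h1
    rw [← pb_comp_apply, comp_lift, Category.comp_id]
    exact h1
  · intro hx
    let I := idl a N f
    let D : CommRingCat.{u} := CommRingCat.of (Fn U ⧸ I)
    let q : Γ(U.left, ⊤) ⟶ D := CommRingCat.ofHom (Ideal.Quotient.mk I)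
    let j : Spec D ⟶ U.left := K950.ClosedDescent.specTo U.left q
    have hj : IsClosedImmersion j := by
      have : IsClosedImmersion (Spec.map q) :=
        IsClosedImmersion.spec_of_surjective _ Ideal.Quotient.mk_surjective
      change IsClosedImmersion (Spec.map q ≫ U.left.isoSpec.inv)
      infer_instance
    let Z : Over S := Over.mk (j ≫ U.hom)
    let z : Z ⟶ U := Over.homMk j
    have hZ : IsAffine Z.left := inferInstanceAs (IsAffine (Spec D))
    have hz : IsClosedImmersion z.left := hj
    have hker : RingHom.ker j.appTop.hom = I := by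
      rw [K950.ClosedDescent.ker_specTo]
      exact Ideal.mk_ker
    have hjk : j.ker ≤ x.left.ker := by
      rw [K950.ClosedDescent.le_ker_iff_of_isAffine, Scheme.Hom.ker_apply]
      change RingHom.ker j.appTop.hom ≤ _
      rw [hker]
      exact hx
    let w : T ⟶ Z := Over.homMk (IsClosedImmersion.lift j x.left hjk) (by
      change _ ≫ j ≫ U.hom = T.hom
      rw [IsClosedImmersion.lift_fac_assoc, Over.w])
    have hw : w ≫ z = x := by
      ext
      exact IsClosedImmersion.lift_fac _ _ _
    rw [← hw, Category.assoc]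
    exact Mem.precomp _ (mem_of_closed a N f z hker.ge) w

end K950.AttrIdeal
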