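import Groth.Agent.Magnet.K950.SymC
import Groth.Agent.Magnet.K949.Height
import Mathlib.RingTheory.GradedAlgebra.Basic
import Mathlib.Algebra.MonoidAlgebra.Basic
import Groth.Prelude.Def_Magnet4

/-!
# Attractors of graded formally smooth algebras: `A / (A_m, m ∉ N)` is a symmetric algebra over `A / (A_m, m ∉ Q)`
-/

set_option autoImplicit false

namespace K950.SymD

universe u v w

open DirectSum

section Hom

variable {M : Type} [AddCommGroup M] [DecidableEq M] {A : Type v} [CommRing A] (𝒜 : M → AddSubgroup A) [GradedRing 𝒜]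

/-- Ring maps out of a graded ring, from the homogeneous elements. -/
theorem exists_ringHom {T : Type w} [CommRing T] (f : M → A →+ T) (h1 : f 0 1 = 1)
    (hm : ∀ i j, ∀ a ∈ 𝒜 i, ∀ b ∈ 𝒜 j, f (i + j) (a * b) = f i a * f j b) :
    ∃ F : A →+* T, ∀ m, ∀ a ∈ 𝒜 m, F a = f m a := by
  let F₀ : (⨁ i, 𝒜 i) →+* T := DirectSum.toSemiring (fun i => (f i).comp (𝒜 i).subtype) h1
    (fun {i j} a b => hm i j a a.2 b b.2)
  refine ⟨F₀.comp (decomposeRingEquiv 𝒜).toRingHom, fun m a ha => ?_⟩
  change F₀ (decompose 𝒜 a) = _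
  rw [decompose_of_mem 𝒜 ha]
  exact DirectSum.toSemiring_of (fun i => (f i).comp (𝒜 i).subtype) h1
    (fun {i j} a b => hm i j a a.2 b b.2) m (⟨a, ha⟩ : 𝒜 m)

theorem homog_induction {P : A → Prop} (h0 : P 0) (hadd : ∀ a b, P a → P b → P (a + b))
    (hh : ∀ m, ∀ a ∈ 𝒜 m, P a) (a : A) : P a := by
  classical
  rw [← DirectSum.sum_support_decompose 𝒜 a]
  exact Finset.sum_induction _ _ hadd h0 fun m _ => hh m _ (decompose 𝒜 a m).2

theorem ringHom_ext {T : Type w} [CommRing T] {φ ψ : A →+* T} (h : ∀ m, ∀ a ∈ 𝒜 m, φ a = ψ a) : φ = ψ := by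
  apply RingHom.ext
  intro a
  refine homog_induction 𝒜 (P := fun a => φ a = ψ a) (by rw [map_zero, map_zero]) ?_ h a
  intro a b ha hb
  rw [map_add, map_add, ha, hb]

/-- The ideal generated by the homogeneous elements of degree outside `N`. -/
def idl (N : AddSubmonoid M) : Ideal A := Ideal.span {a | ∃ m ∉ N, a ∈ 𝒜 m}

end Hom

section Smooth

variable {R : Type u} [CommRing R] {M : Type} [AddCommGroup M] [DecidableEq M] {A : Type v} [CommRing A] [Algebra R A]
  (𝒜 : M → AddSubgroup A) [GradedRing 𝒜] (hR : ∀ r, algebraMap R A r ∈ 𝒜 0) (N : AddSubmonoid M)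
  {B : Type w} [CommRing B] [Algebra R B] (p : A →ₐ[R] B) (hp : Function.Surjective p)
  (hker : RingHom.ker p = idl 𝒜 N)

include hR hp hker in
/-- **The attractor of a graded formally smooth algebra is formally smooth.** -/
theorem formallySmooth [Algebra.FormallySmooth R A] : Algebra.FormallySmooth R B := by
  classical
  have hpz : ∀ m ∉ N, ∀ a ∈ 𝒜 m, p a = 0 := by
    intro m hm a ha
    have : a ∈ RingHom.ker p := by rw [hker]; exact Ideal.subset_span ⟨m, hm, ha⟩
    exact this
  apply Algebra.FormallySmooth.of_comp_surjective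
  intro E _ _ I hI f
  -- the graded map to `(E / I)[N]`
  let f₁ : M → A →+ AddMonoidAlgebra (E ⧸ I) N := fun m =>
    if hm : m ∈ N then (AddMonoidAlgebra.singleAddHom (⟨m, hm⟩ : N)).comp ((f : B →+ E ⧸ I).comp (p : A →+ B)) else 0
  have hf₁ : ∀ (m) (hm : m ∈ N) (a : A), f₁ m a = AddMonoidAlgebra.single (⟨m, hm⟩ : N) (f (p a)) := by
    intro m hm a
    simp only [f₁, dif_pos hm]
    rfl
  have hf₁' : ∀ m, m ∉ N → ∀ a : A, f₁ m a = 0 := by
    intro m hm a
    simp only [f₁, dif_neg hm]
    rfl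
  obtain ⟨G, hG⟩ := exists_ringHom 𝒜 f₁ (by
      rw [hf₁ 0 N.zero_mem, map_one, map_one]
      rfl) (by
      intro i j a ha b hb
      by_cases hi : i ∈ N
      · by_cases hj : j ∈ N
        · rw [hf₁ i hi, hf₁ j hj, hf₁ _ (N.add_mem hi hj), AddMonoidAlgebra.single_mul_single, map_mul, map_mul]
          rfl
        · rw [hf₁' j hj, mul_zero]
          by_cases hij : i + j ∈ N
          · rw [hf₁ _ hij, map_mul, hpz j hj b hb, mul_zero, map_zero, AddMonoidAlgebra.single_zero]
          · rw [hf₁' _ hij]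
      · rw [hf₁' i hi, zero_mul]
        by_cases hij : i + j ∈ N
        · rw [hf₁ _ hij, map_mul, hpz i hi a ha, zero_mul, map_zero, AddMonoidAlgebra.single_zero]
        · rw [hf₁' _ hij])
  let GR : A →ₐ[R] AddMonoidAlgebra (E ⧸ I) N :=
    { G with
      commutes' := fun r => by
        change G (algebraMap R A r) = _
        rw [hG 0 _ (hR r), hf₁ 0 N.zero_mem, AlgHom.commutes, AlgHom.commutes]
        rfl }
  let q : AddMonoidAlgebra E N →ₐ[R] AddMonoidAlgebra (E ⧸ I) N :=
    AddMonoidAlgebra.mapAlgHom N (Ideal.Quotient.mkₐ R I)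
  have hqc : ∀ (x : AddMonoidAlgebra E N) (n : N), (q x).coeff n = Ideal.Quotient.mk I (x.coeff n) :=
    fun x n => AddMonoidAlgebra.coeff_mapAlgHom _ _ _
  have hq : Function.Surjective q := by
    intro y
    induction y using AddMonoidAlgebra.induction_linear with
    | zero => exact ⟨0, map_zero _⟩
    | add y z hy hz =>
      obtain ⟨y', rfl⟩ := hy
      obtain ⟨z', rfl⟩ := hz
      exact ⟨y' + z', map_add _ _ _⟩
    | single n e =>
      obtain ⟨e', rfl⟩ := Ideal.Quotient.mk_surjective e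
      exact ⟨AddMonoidAlgebra.single n e', AddMonoidAlgebra.mapAlgHom_single _ _ _⟩
  have hII : ∀ a ∈ I, ∀ b ∈ I, a * b = 0 := by
    intro a ha b hb
    have : a * b ∈ I ^ 2 := by rw [pow_two]; exact Ideal.mul_mem_mul ha hb
    rw [hI] at this
    exact this
  have hqq : ∀ x y, q x = 0 → q y = 0 → x * y = 0 := by
    intro x y hx hy
    have hx' : ∀ n, x.coeff n ∈ I := by
      intro n
      rw [← Ideal.Quotient.eq_zero_iff_mem, ← hqc, hx]
      rfl
    have hy' : ∀ n, y.coeff n ∈ I := by
      intro n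
      rw [← Ideal.Quotient.eq_zero_iff_mem, ← hqc, hy]
      rfl
    ext n
    rw [AddMonoidAlgebra.coeff_mul]
    refine Finset.sum_eq_zero fun a _ => Finset.sum_eq_zero fun b _ => ?_
    dsimp only
    rw [hII _ (hx' _) _ (hy' _), ite_self]
  have hnil : IsNilpotent (RingHom.ker (q : AddMonoidAlgebra E N →+* AddMonoidAlgebra (E ⧸ I) N)) := ⟨2, by
    rw [pow_two, Ideal.zero_eq_bot, eq_bot_iff, Ideal.mul_le]
    intro x hx y hy
    exact hqq x y hx hy⟩
  let F := Algebra.FormallySmooth.liftOfSurjective GR q hq hnil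
  have hF : ∀ a, q (F a) = G a := fun a => Algebra.FormallySmooth.liftOfSurjective_apply GR q hq hnil a
  -- the homogeneous part
  let c : N → AddMonoidAlgebra E N →+ E := fun n =>
    { toFun := fun x => x.coeff n
      map_zero' := rfl
      map_add' := fun x y => rfl }
  let f₂ : M → A →+ E := fun m => if hm : m ∈ N then (c ⟨m, hm⟩).comp (F : A →+ AddMonoidAlgebra E N) else 0
  have hf₂ : ∀ (m) (hm : m ∈ N) (a : A), f₂ m a = (F a).coeff ⟨m, hm⟩ := by
    intro m hm a
    simp only [f₂, dif_pos hm]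
    rfl
  have hf₂' : ∀ m, m ∉ N → ∀ a : A, f₂ m a = 0 := by
    intro m hm a
    simp only [f₂, dif_neg hm]
    rfl
  -- the remainder
  have hrem : ∀ (i) (hi : i ∈ N) (a : A), a ∈ 𝒜 i →
      q (F a - AddMonoidAlgebra.single ⟨i, hi⟩ ((F a).coeff ⟨i, hi⟩)) = 0 := by
    intro i hi a ha
    have e1 : q (F a) = AddMonoidAlgebra.single (⟨i, hi⟩ : N) (f (p a)) := by rw [hF, hG i a ha, hf₁ i hi]
    have e2 := hqc (F a) ⟨i, hi⟩
    rw [e1, AddMonoidAlgebra.coeff_single, Finsupp.single_eq_same] at e2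
    rw [map_sub, e1, e2]
    have e3 : q (AddMonoidAlgebra.single (⟨i, hi⟩ : N) ((F a).coeff ⟨i, hi⟩)) =
        AddMonoidAlgebra.single (⟨i, hi⟩ : N) (Ideal.Quotient.mk I ((F a).coeff ⟨i, hi⟩)) :=
      AddMonoidAlgebra.mapAlgHom_single _ _ _
    rw [e3, sub_self]
  have hrem' : ∀ i, i ∉ N → ∀ a ∈ 𝒜 i, q (F a) = 0 := by
    intro i hi a ha
    rw [hF, hG i a ha, hf₁' i hi]
  -- products
  have hout : ∀ i j, i ∉ N → ∀ (hij : i + j ∈ N), ∀ a ∈ 𝒜 i, ∀ b ∈ 𝒜 j, (F (a * b)).coeff ⟨i + j, hij⟩ = 0 := by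
    intro i j hi hij a ha b hb
    rw [map_mul]
    by_cases hj : j ∈ N
    · have e : F a * F b = F a * AddMonoidAlgebra.single (⟨j, hj⟩ : N) ((F b).coeff ⟨j, hj⟩) +
          F a * (F b - AddMonoidAlgebra.single ⟨j, hj⟩ ((F b).coeff ⟨j, hj⟩)) := by ring
      rw [e, hqq _ _ (hrem' i hi a ha) (hrem j hj b hb), add_zero]
      apply AddMonoidAlgebra.coeff_mul_single_of_forall_add_ne
      intro d hd
      have := congrArg (Subtype.val : N → M) hd
      have h2 : (d : M) + j = i + j := this
      exact hi (add_right_cancel h2 ▸ d.2)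
    · rw [hqq _ _ (hrem' i hi a ha) (hrem' j hj b hb)]
      rfl
  obtain ⟨F', hF'⟩ := exists_ringHom 𝒜 f₂ (by
      rw [hf₂ 0 N.zero_mem, map_one]
      have : (1 : AddMonoidAlgebra E N) = AddMonoidAlgebra.single 0 1 := rfl
      rw [this, AddMonoidAlgebra.coeff_single]
      exact Finsupp.single_eq_same) (by
      intro i j a ha b hb
      by_cases hi : i ∈ N
      · by_cases hj : j ∈ N
        · rw [hf₂ i hi, hf₂ j hj, hf₂ _ (N.add_mem hi hj), map_mul]
          have e : F a * F b =
              AddMonoidAlgebra.single (⟨i, hi⟩ : N) ((F a).coeff ⟨i, hi⟩) * F b +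
              ((F a - AddMonoidAlgebra.single (⟨i, hi⟩ : N) ((F a).coeff ⟨i, hi⟩)) *
                AddMonoidAlgebra.single (⟨j, hj⟩ : N) ((F b).coeff ⟨j, hj⟩) +
              (F a - AddMonoidAlgebra.single (⟨i, hi⟩ : N) ((F a).coeff ⟨i, hi⟩)) *
                (F b - AddMonoidAlgebra.single (⟨j, hj⟩ : N) ((F b).coeff ⟨j, hj⟩))) := by ring
          rw [e, hqq _ _ (hrem i hi a ha) (hrem j hj b hb), add_zero, AddMonoidAlgebra.coeff_add, Finsupp.add_apply]
          have e1 : (AddMonoidAlgebra.single (⟨i, hi⟩ : N) ((F a).coeff ⟨i, hi⟩) * F b).coeff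
              (⟨i + j, N.add_mem hi hj⟩ : N) = (F a).coeff ⟨i, hi⟩ * (F b).coeff ⟨j, hj⟩ :=
            AddMonoidAlgebra.coeff_single_mul_add (F b) _ (⟨i, hi⟩ : N) ⟨j, hj⟩
          have e2 : ((F a - AddMonoidAlgebra.single (⟨i, hi⟩ : N) ((F a).coeff ⟨i, hi⟩)) *
              AddMonoidAlgebra.single (⟨j, hj⟩ : N) ((F b).coeff ⟨j, hj⟩)).coeff (⟨i + j, N.add_mem hi hj⟩ : N) =
              (F a - AddMonoidAlgebra.single (⟨i, hi⟩ : N) ((F a).coeff ⟨i, hi⟩)).coeff ⟨i, hi⟩ *
                (F b).coeff ⟨j, hj⟩ :=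
            AddMonoidAlgebra.coeff_mul_single_add _ _ (⟨j, hj⟩ : N) ⟨i, hi⟩
          rw [e1, e2, AddMonoidAlgebra.coeff_sub, Finsupp.sub_apply, AddMonoidAlgebra.coeff_single,
            Finsupp.single_eq_same, sub_self, zero_mul, add_zero]
        · rw [hf₂' j hj, mul_zero]
          by_cases hij : i + j ∈ N
          · rw [hf₂ _ hij]
            have := hout j i hj (by rwa [add_comm]) b hb a ha
            rw [mul_comm b a] at this
            convert this using 3
            exact add_comm i j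
          · rw [hf₂' _ hij]
      · rw [hf₂' i hi, zero_mul]
        by_cases hij : i + j ∈ N
        · rw [hf₂ _ hij]
          exact hout i j hi hij a ha b hb
        · rw [hf₂' _ hij])
  let F'R : A →ₐ[R] E :=
    { F' with
      commutes' := fun r => by
        change F' (algebraMap R A r) = _
        rw [hF' 0 _ (hR r), hf₂ 0 N.zero_mem, AlgHom.commutes]
        have : algebraMap R (AddMonoidAlgebra E N) r = AddMonoidAlgebra.single 0 (algebraMap R E r) := rfl
        rw [this, AddMonoidAlgebra.coeff_single]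
        exact Finsupp.single_eq_same }
  have hkill : ∀ a, p a = 0 → F'R a = 0 := by
    intro a ha
    have h1 : a ∈ idl 𝒜 N := by rw [← hker]; exact ha
    have h2 : idl 𝒜 N ≤ RingHom.ker F'R := by
      rw [idl, Ideal.span_le]
      rintro b ⟨m, hm, hb⟩
      change F' b = 0
      rw [hF' m b hb, hf₂' m hm]
    exact h2 h1
  have hmk : ∀ a, Ideal.Quotient.mk I (F'R a) = f (p a) := by
    intro a
    refine homog_induction 𝒜 (P := fun a => Ideal.Quotient.mk I (F'R a) = f (p a)) (by simp) ?_ ?_ a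
    · intro a b ha hb
      rw [map_add, map_add, map_add, map_add, ha, hb]
    · intro m a ha
      change Ideal.Quotient.mk I (F' a) = _
      rw [hF' m a ha]
      by_cases hm : m ∈ N
      · rw [hf₂ m hm, ← hqc, hF, hG m a ha, hf₁ m hm, AddMonoidAlgebra.coeff_single, Finsupp.single_eq_same]
      · rw [hf₂' m hm, hpz m hm a ha, map_zero, map_zero]
  let l : (A ⧸ RingHom.ker p) →ₐ[R] E := Ideal.Quotient.liftₐ _ F'R hkill
  let e : (A ⧸ RingHom.ker p) ≃ₐ[R] B := Ideal.quotientKerAlgEquivOfSurjective hp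
  refine ⟨l.comp e.symm.toAlgHom, ?_⟩
  apply AlgHom.ext
  intro b
  obtain ⟨a, rfl⟩ := hp b
  have he : e.symm (p a) = Ideal.Quotient.mk _ a := by
    rw [AlgEquiv.symm_apply_eq]
    rfl
  change Ideal.Quotient.mk I (l (e.symm (p a))) = f (p a)
  rw [he]
  exact hmk a

end Smooth

section Main

variable {R : Type u} [CommRing R] {M : Type} [AddCommGroup M] [DecidableEq M] {A : Type v} [CommRing A] [Algebra R A]
  (𝒜 : M → AddSubgroup A) [GradedRing 𝒜] (hR : ∀ r, algebraMap R A r ∈ 𝒜 0) (N : AddSubmonoid M)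
  {B : Type w} [CommRing B] (p : A →+* B)

include hR in
/-- The attractor algebra has its degrees in a finitely generated submonoid. -/
theorem exists_fg [Algebra.FiniteType R A] (hpz : ∀ m ∉ N, ∀ a ∈ 𝒜 m, p a = 0) :
    ∃ Nc : AddSubmonoid M, Nc.FG ∧ Nc ≤ N ∧ ∀ m ∉ Nc, ∀ a ∈ 𝒜 m, p a = 0 := by
  classical
  obtain ⟨s, hs⟩ := (inferInstance : Algebra.FiniteType R A)
  let E : Finset M := s.biUnion fun a => (decompose 𝒜 a).support
  let Nc : AddSubmonoid M := AddSubmonoid.closure ((E.filter (· ∈ N) : Finset M) : Set M)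
  refine ⟨Nc, ⟨_, rfl⟩, ?_, ?_⟩
  · refine AddSubmonoid.closure_le.2 ?_
    intro m hm
    exact (Finset.mem_filter.1 hm).2
  · let f : M → A →+ AddMonoidAlgebra B M := fun m => (AddMonoidAlgebra.singleAddHom m).comp (p : A →+ B)
    have hf : ∀ m a, f m a = AddMonoidAlgebra.single m (p a) := fun m a => rfl
    obtain ⟨G, hG⟩ := exists_ringHom 𝒜 f (by rw [hf, map_one]; rfl) (by
      intro i j a _ b _
      rw [hf, hf, hf, AddMonoidAlgebra.single_mul_single, map_mul])
    have hGc : ∀ (a : A) (m : M), (G a).coeff m = p (decompose 𝒜 a m) := by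
      intro a m
      refine homog_induction 𝒜 (P := fun a => (G a).coeff m = p (decompose 𝒜 a m)) (by simp) ?_ ?_ a
      · intro a b ha hb
        rw [map_add, AddMonoidAlgebra.coeff_add, Finsupp.add_apply, ha, hb, decompose_add, ← map_add]
        rfl
      · intro i a ha
        rw [hG i a ha, hf, AddMonoidAlgebra.coeff_single]
        by_cases hi : i = m
        · subst hi
          rw [Finsupp.single_eq_same, decompose_of_mem_same 𝒜 ha]
        · rw [Finsupp.single_eq_of_ne (Ne.symm hi), decompose_of_mem_ne 𝒜 ha hi, map_zero]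
    have key : ∀ a : A, ∀ m ∉ Nc, (G a).coeff m = 0 := by
      intro a
      have ha : a ∈ Algebra.adjoin R (s : Set A) := by rw [hs]; trivial
      induction ha using Algebra.adjoin_induction with
      | mem x hx =>
        intro m hm
        rw [hGc]
        by_cases h0 : m ∈ (decompose 𝒜 x).support
        · have hmN : m ∉ N := by
            intro hmN
            exact hm (AddSubmonoid.subset_closure (Finset.mem_filter.2
              ⟨Finset.mem_biUnion.2 ⟨x, hx, h0⟩, hmN⟩))
          exact hpz m hmN _ (decompose 𝒜 x m).2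
        · have : decompose 𝒜 x m = 0 := by
            simpa using h0
          rw [this]
          exact map_zero p
      | algebraMap r =>
        intro m hm
        rw [hG 0 _ (hR r), hf, AddMonoidAlgebra.coeff_single, Finsupp.single_eq_of_ne]
        rintro rfl
        exact hm Nc.zero_mem
      | add x y _ _ hx hy =>
        intro m hm
        rw [map_add, AddMonoidAlgebra.coeff_add, Finsupp.add_apply, hx m hm, hy m hm, add_zero]
      | mul x y _ _ hx hy =>
        intro m hm
        rw [map_mul, AddMonoidAlgebra.coeff_mul]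
        refine Finset.sum_eq_zero fun i _ => Finset.sum_eq_zero fun j _ => ?_
        dsimp only
        split_ifs with hij
        · by_cases hi : i ∈ Nc
          · by_cases hj : j ∈ Nc
            · exact absurd (hij ▸ Nc.add_mem hi hj) hm
            · rw [hy j hj, mul_zero]
          · rw [hx i hi, zero_mul]
        · rfl
    intro m hm a ha
    have := key a m hm
    rwa [hG m a ha, hf, AddMonoidAlgebra.coeff_single, Finsupp.single_eq_same] at this

open Polynomial in
variable (R) in
include hR in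
/-- **The attractor of a graded smooth algebra is a symmetric algebra over the attractor of a face.** -/
theorem exists_symm [Algebra.FormallySmooth R A] [Algebra.FiniteType R A] (Q : AddSubmonoid M) (hQ : Magnet.IsFace N Q)
    {C : Type v} [CommRing C] (hp : Function.Surjective p) (hker : RingHom.ker p = idl 𝒜 N)
    (p0 : A →+* C) (hp0 : Function.Surjective p0) (hker0 : RingHom.ker p0 = idl 𝒜 Q)
    (φ : C →+* B) (hφ : ∀ m ∈ Q, ∀ a ∈ 𝒜 m, φ (p0 a) = p a) :
    ∃ (P : Type w) (_ : AddCommGroup P) (_ : Module C P), Module.Finite C P ∧ Module.Projective C P ∧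
      ∃ e : SymmetricAlgebra C P ≃+* B, ∀ c, e (algebraMap C _ c) = φ c := by
  classical
  have hpz : ∀ m ∉ N, ∀ a ∈ 𝒜 m, p a = 0 := by
    intro m hm a ha
    have : a ∈ RingHom.ker p := by rw [hker]; exact Ideal.subset_span ⟨m, hm, ha⟩
    exact this
  have hpz0 : ∀ m ∉ Q, ∀ a ∈ 𝒜 m, p0 a = 0 := by
    intro m hm a ha
    have : a ∈ RingHom.ker p0 := by rw [hker0]; exact Ideal.subset_span ⟨m, hm, ha⟩
    exact this
  obtain ⟨Nc, hfg, hle, hNc⟩ := exists_fg 𝒜 hR N p hpz
  have hface : Magnet.IsFace Nc (Q ⊓ Nc) :=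
    { le := inf_le_right
      mem_of_add_mem := fun x hx y hy hxy => by
        have h := hQ.mem_of_add_mem x (hle hx) y (hle hy) hxy.1
        exact ⟨⟨h.1, hx⟩, ⟨h.2, hy⟩⟩ }
  obtain ⟨h, hh⟩ := K949.Height.exists_height hfg hface
  let h' : M → ℕ := fun m => if hm : m ∈ Nc then h ⟨m, hm⟩ else 0
  have hh' : ∀ (m) (hm : m ∈ Nc), h' m = h ⟨m, hm⟩ := fun m hm => dif_pos hm
  have hzero : ∀ m ∈ Nc, h' m = 0 → m ∈ Q := by
    intro m hm h0
    rw [hh' m hm, hh] at h0
    exact h0.1
  have hzero' : ∀ m ∈ Nc, m ∈ Q → h' m = 0 := by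
    intro m hm h0
    rw [hh' m hm, hh]
    exact ⟨h0, hm⟩
  -- the grading
  obtain ⟨δA, hδA⟩ := exists_ringHom 𝒜 (T := B[X]) (fun m => ((monomial (h' m)) : B →ₗ[B] B[X]).toAddMonoidHom.comp
      (p : A →+ B)) (by
      change monomial (h' 0) (p 1) = 1
      rw [hzero' 0 Nc.zero_mem Q.zero_mem, map_one]
      rfl) (by
      intro i j a ha b hb
      change monomial (h' (i + j)) (p (a * b)) = monomial (h' i) (p a) * monomial (h' j) (p b)
      rw [monomial_mul_monomial, map_mul]
      by_cases hi : i ∈ Nc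
      · by_cases hj : j ∈ Nc
        · rw [hh' i hi, hh' j hj, hh' _ (Nc.add_mem hi hj), ← map_add]
          rfl
        · rw [hNc j hj b hb, mul_zero, map_zero, map_zero]
      · rw [hNc i hi a ha, zero_mul, map_zero, map_zero])
  have hδA' : ∀ m, ∀ a ∈ 𝒜 m, δA a = monomial (h' m) (p a) := hδA
  let e : (A ⧸ RingHom.ker p) ≃+* B := RingHom.quotientKerEquivOfSurjective hp
  have he : ∀ a, e.symm (p a) = Ideal.Quotient.mk _ a := by
    intro a
    rw [RingEquiv.symm_apply_eq]
    rfl
  have hδk : ∀ a ∈ RingHom.ker p, δA a = 0 := by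
    intro a ha
    rw [hker] at ha
    have h2 : idl 𝒜 N ≤ RingHom.ker δA := by
      rw [idl, Ideal.span_le]
      rintro b ⟨m, hm, hb⟩
      change δA b = 0
      rw [hδA' m b hb, hpz m hm b hb, map_zero]
    exact h2 ha
  have hπk : ∀ a ∈ RingHom.ker p, p0 a = 0 := by
    intro a ha
    rw [hker] at ha
    have h2 : idl 𝒜 N ≤ RingHom.ker p0 := by
      rw [idl, Ideal.span_le]
      rintro b ⟨m, hm, hb⟩
      exact hpz0 m (fun h => hm (hQ.le h)) b hb
    exact h2 ha
  let δ : B →+* B[X] := (Ideal.Quotient.lift (RingHom.ker p) δA hδk).comp e.symm.toRingHom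
  have hδ : ∀ a, δ (p a) = δA a := by
    intro a
    change Ideal.Quotient.lift _ δA hδk (e.symm (p a)) = _
    rw [he, Ideal.Quotient.lift_mk]
  let π : B →+* C := (Ideal.Quotient.lift (RingHom.ker p) p0 hπk).comp e.symm.toRingHom
  have hπ : ∀ a, π (p a) = p0 a := by
    intro a
    change Ideal.Quotient.lift _ p0 hπk (e.symm (p a)) = _
    rw [he, Ideal.Quotient.lift_mk]
  -- the algebra structures
  let algCB : Algebra C B := φ.toAlgebra
  let algRB : Algebra R B := (p.comp (algebraMap R A)).toAlgebra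
  let algRC : Algebra R C := (p0.comp (algebraMap R A)).toAlgebra
  have : IsScalarTower R C B := .of_algebraMap_eq fun r => (hφ 0 Q.zero_mem _ (hR r)).symm
  have hπφ : ∀ c, π (φ c) = c := by
    intro c
    obtain ⟨a, rfl⟩ := hp0 c
    refine homog_induction 𝒜 (P := fun a => π (φ (p0 a)) = p0 a) (by simp) ?_ ?_ a
    · intro a b ha hb
      rw [map_add, map_add, map_add, ha, hb]
    · intro m a ha
      by_cases hm : m ∈ Q
      · rw [hφ m hm a ha, hπ]
      · rw [hpz0 m hm a ha, map_zero, map_zero]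
  have hδφ : ∀ c, δ (φ c) = Polynomial.C (φ c) := by
    intro c
    obtain ⟨a, rfl⟩ := hp0 c
    refine homog_induction 𝒜 (P := fun a => δ (φ (p0 a)) = Polynomial.C (φ (p0 a))) (by simp) ?_ ?_ a
    · intro a b ha hb
      rw [map_add, map_add, map_add, map_add, ha, hb]
    · intro m a ha
      by_cases hm : m ∈ Q
      · rw [hφ m hm a ha, hδ, hδA' m a ha]
        by_cases hmc : m ∈ Nc
        · rw [hzero' m hmc hm]
          rfl
        · rw [hNc m hmc a ha, map_zero, map_zero]
      · rw [hpz0 m hm a ha, map_zero, map_zero, map_zero]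
  let πC : B →ₐ[C] C := { π with commutes' := hπφ }
  let δC : B →ₐ[C] B[X] := { δ with commutes' := hδφ }
  let pR : A →ₐ[R] B := { p with commutes' := fun r => rfl }
  have hsm : Algebra.FormallySmooth R B := formallySmooth 𝒜 hR N pR hp hker
  have hft : Algebra.FiniteType R B := Algebra.FiniteType.of_surjective pR hp
  have hftC : Algebra.FiniteType C B := Algebra.FiniteType.of_restrictScalars_finiteType R C B
  have hδp : ∀ m, ∀ a ∈ 𝒜 m, δC (p a) = monomial (h' m) (p a) := fun m a ha => (hδ a).trans (hδA' m a ha)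
  have ind : ∀ {P : B → Prop}, P 0 → (∀ a b, P a → P b → P (a + b)) → (∀ m, ∀ a ∈ 𝒜 m, P (p a)) → ∀ b, P b := by
    intro P h0 hadd hhom b
    obtain ⟨a, rfl⟩ := hp b
    refine homog_induction 𝒜 (P := fun a => P (p a)) (by rwa [map_zero]) ?_ hhom a
    intro a b ha hb
    rw [map_add]
    exact hadd _ _ ha hb
  obtain ⟨h1, h2, ⟨E⟩⟩ := K950.SymC.exists_equiv R πC δC (by
      intro b
      refine ind (P := fun b => (δC b).eval 1 = b) (by simp) ?_ ?_ b
      · intro a b ha hb
        rw [map_add, eval_add, ha, hb]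
      · intro m a ha
        rw [hδp m a ha, eval_monomial, one_pow, mul_one]) (by
      intro b k
      refine ind (P := fun b => δC ((δC b).coeff k) = monomial k ((δC b).coeff k)) (by simp) ?_ ?_ b
      · intro a b ha hb
        rw [map_add, coeff_add, map_add, map_add, ha, hb]
      · intro m a ha
        rw [hδp m a ha, coeff_monomial]
        split_ifs with hk
        · rw [hδp m a ha, hk]
        · rw [map_zero, map_zero]) (by
      intro b
      refine ind (P := fun b => (δC b).coeff 0 = algebraMap C B (πC b)) (by simp) ?_ ?_ b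
      · intro a b ha hb
        rw [map_add, coeff_add, map_add, map_add, ha, hb]
      · intro m a ha
        rw [hδp m a ha, coeff_monomial]
        change _ = φ (π (p a))
        rw [hπ]
        by_cases hmc : m ∈ Nc
        · split_ifs with hk
          · exact (hφ m (hzero m hmc hk) a ha).symm
          · have hmQ : m ∉ Q := fun hmQ => hk (hzero' m hmc hmQ)
            rw [hpz0 m hmQ a ha, map_zero]
        · rw [hNc m hmc a ha, ite_self]
          by_cases hmQ : m ∈ Q
          · rw [hφ m hmQ a ha, hNc m hmc a ha]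
          · rw [hpz0 m hmQ a ha, map_zero])
  exact ⟨SymA.Cn πC, inferInstance, inferInstance, h1, h2, E.toRingEquiv, fun c => E.commutes c⟩

end Main

end K950.SymD
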