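import Groth.Agent.Magnet.K950.AttrIdeal
import Groth.Agent.Magnet.K950.SymD
import Mathlib.AlgebraicGeometry.Morphisms.Smooth

/-!
# Attractors of affine charts: `P` affine over an arbitrary base, with an invariant map to an affine scheme over the base
-/

set_option autoImplicit false

universe u

open CategoryTheory MonoidalCategory CartesianMonoidalCategory MonObj AlgebraicGeometry Opposite Limits

namespace K950.Chart

open Magnet Magnet.MonAct K951.Pts K951.Prd K951.Coact K951.AttrAff K950.RepClosed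

section Grade

variable {S : Scheme.{u}} {M : Type} [AddCommGroup M] {P : Over S} [IsAffine P.left] (b : MonAct (AMonS S M) P)

/-- The homogeneous functions. -/
noncomputable def gr (m : M) : AddSubgroup (Fn P) where
  carrier := {f | IsHomog b m f}
  zero_mem' := isHomog_zero b m
  add_mem' := fun hf hg => IsHomog.add b hf hg
  neg_mem' := fun {f} hf => by
    change K951.Coact.coact b (-f) = _
    have hf' : K951.Coact.coact b f = _ := hf
    rw [map_neg, hf', ← MonoidAlgebra.single_neg]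

theorem mem_gr {m : M} {f : Fn P} : f ∈ gr b m ↔ IsHomog b m f := Iff.rfl

instance gradedMonoid : SetLike.GradedMonoid (gr b) where
  one_mem := isHomog_one b
  mul_mem := fun _ _ _ _ hf hg => IsHomog.mul b hf hg

theorem isInternal [DecidableEq M] : DirectSum.IsInternal (gr b) := by
  have hcmp : ∀ (x : DirectSum M fun m => gr b m) (m : M),
      K951.Coact.cmp b m (DirectSum.coeAddMonoidHom (gr b) x) = x m := by
    intro x m
    induction x using DirectSum.induction_on with
    | zero =>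
      rw [map_zero]
      exact cmp_of_isHomog b (isHomog_zero b m)
    | of i y =>
      rw [DirectSum.coeAddMonoidHom_of]
      by_cases hi : i = m
      · subst hi
        rw [DirectSum.of_eq_same]
        exact cmp_of_isHomog b y.2
      · rw [DirectSum.of_eq_of_ne _ _ _ (Ne.symm hi)]
        exact cmp_of_isHomog_ne b y.2 (Ne.symm hi)
    | add x y hx hy =>
      rw [map_add, cmp_add, hx, hy]
      rfl
  constructor
  · intro x y hxy
    apply DFinsupp.ext
    intro m
    apply Subtype.ext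
    rw [← hcmp x m, ← hcmp y m]
    exact congrArg _ hxy
  · intro f
    refine homog_induction b (P := fun f => ∃ x, DirectSum.coeAddMonoidHom (gr b) x = f) ⟨0, map_zero _⟩ ?_ ?_ f
    · rintro f g ⟨x, rfl⟩ ⟨y, rfl⟩
      exact ⟨x + y, map_add _ _ _⟩
    · intro m f hf
      exact ⟨DirectSum.of (fun m => gr b m) m ⟨f, hf⟩, DirectSum.coeAddMonoidHom_of _ _ _⟩

/-- The functions on `P` form a graded ring. -/
@[reducible]
noncomputable def gradedRing [DecidableEq M] : GradedRing (gr b) where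
  toDecomposition := (isInternal b).chooseDecomposition

end Grade

section Chart

variable {S : Scheme.{u}} {M : Type} [AddCommGroup M] {P T₁ : Over S} [IsAffine P.left] [IsAffine T₁.left]
  (b : MonAct (AMonS S M) P) (N : AddSubmonoid M)

theorem isHomog_pb {p : P ⟶ T₁} (hp : IsEquivariant b (MonAct.trivial (AMonS S M) T₁) p) (c : Fn T₁) :
    IsHomog b 0 (pb p c) := IsHomog.pb hp (isHomog_trivial c)

section Fam

attribute [local instance] isAffine_source

variable {b} {T : Over S} [IsAffine T.left]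

theorem pb_fam {φ : AMonS S N ⊗ T ⟶ P} (hφ : IsEquivariant (rho N T) b φ) (m : N) {f : Fn P}
    (hf : IsHomog b (m : M) f) :
    pb φ f = gam T N (MonoidAlgebra.single (Multiplicative.ofAdd m) (pb (uSec N T ≫ φ) f)) := by
  rw [pb_comp_apply]
  exact eq_of_isHomog N T (IsHomog.pb hφ hf)

theorem pb_fam_zero {φ : AMonS S N ⊗ T ⟶ P} (hφ : IsEquivariant (rho N T) b φ) {m : M} (hm : m ∉ N) {f : Fn P}
    (hf : IsHomog b m f) : pb φ f = 0 :=
  eq_zero_of_isHomog N T hm (IsHomog.pb hφ hf)

theorem eq_of_uSec {φ φ' : AMonS S N ⊗ T ⟶ P} (hφ : IsEquivariant (rho N T) b φ)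
    (hφ' : IsEquivariant (rho N T) b φ') (h : uSec N T ≫ φ = uSec N T ≫ φ') : φ = φ' := by
  apply hom_ext_pb
  apply ringHom_ext_homog b
  intro m f hf
  by_cases hm : m ∈ N
  · rw [pb_fam N hφ ⟨m, hm⟩ hf, pb_fam N hφ' ⟨m, hm⟩ hf, h]
  · rw [pb_fam_zero N hφ hm hf, pb_fam_zero N hφ' hm hf]

variable (b) in
theorem exists_fam {p : P ⟶ T₁} (hp : IsEquivariant b (MonAct.trivial (AMonS S M) T₁) p) (x : T ⟶ P)
    (hx : ∀ m ∉ N, ∀ f : Fn P, IsHomog b m f → pb x f = 0) :
    ∃ φ : AMonS S N ⊗ T ⟶ P, IsEquivariant (rho N T) b φ ∧ uSec N T ≫ φ = x := by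
  let io : MonoidAlgebra (Fn T) (Multiplicative N) →+* MonoidAlgebra (Fn T) (Multiplicative M) :=
    MonoidAlgebra.mapDomainRingHom (Fn T) (AddMonoidHom.toMultiplicative N.subtype)
  have hio : Function.Injective io :=
    MonoidAlgebra.mapDomain_injective fun _ _ h =>
      Multiplicative.toAdd.injective (Subtype.ext (Multiplicative.ofAdd.injective h))
  let θ : Fn P →+* MonoidAlgebra (Fn T) (Multiplicative M) :=
    (MonoidAlgebra.mapRingHom (Multiplicative M) (pb x)).comp (coact b)
  have hθ : ∀ m f, IsHomog b m f → θ f = MonoidAlgebra.single (Multiplicative.ofAdd m) (pb x f) := by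
    intro m f hf
    simp only [θ, RingHom.comp_apply]
    rw [hf, MonoidAlgebra.mapRingHom_single]
  have hr : ∀ f, ∃ y, io y = θ f := by
    intro f
    refine homog_induction b (P := fun f => ∃ y, io y = θ f) ⟨0, by rw [map_zero, map_zero]⟩ ?_ ?_ f
    · rintro f g ⟨y, hy⟩ ⟨z, hz⟩
      exact ⟨y + z, by rw [map_add, map_add, hy, hz]⟩
    · intro m f hf
      rw [hθ m f hf]
      by_cases hm : m ∈ N
      · refine ⟨MonoidAlgebra.single (Multiplicative.ofAdd ⟨m, hm⟩) (pb x f), ?_⟩
        simp [io]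
      · refine ⟨0, ?_⟩
        rw [map_zero, hx m hm f hf, MonoidAlgebra.single_zero]
  obtain ⟨ψ, hψ⟩ := exists_lift_of_range_le io hio θ hr
  have hψh : ∀ (m : N) f, IsHomog b (m : M) f →
      ψ f = MonoidAlgebra.single (Multiplicative.ofAdd m) (pb x f) := by
    intro m f hf
    apply hio
    rw [hψ, hθ _ f hf]
    simp [io]
  have hψ0 : ∀ m ∉ N, ∀ f, IsHomog b m f → ψ f = 0 := by
    intro m hm f hf
    apply hio
    rw [hψ, hθ _ f hf, hx m hm f hf, MonoidAlgebra.single_zero, map_zero]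
  have hbase : ((gam T N).comp ψ).comp (pb p) = pb (snd (AMonS S N) T ≫ x ≫ p) := by
    apply RingHom.ext
    intro c
    rw [RingHom.comp_apply, RingHom.comp_apply, hψh 0 _ (isHomog_pb b hp c), gam_single]
    have : chi (fst (AMonS S N) T) (Multiplicative.ofAdd (0 : N)) = 1 := map_one _
    rw [this, _root_.mul_one, pb_comp_apply, pb_comp_apply]
  let Φ : AMonS S N ⊗ T ⟶ P := ofRing p (snd (AMonS S N) T ≫ x ≫ p) ((gam T N).comp ψ) hbase
  have hΦ : pb Φ = (gam T N).comp ψ := pb_ofRing _ _ _ _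
  have hΦeq : IsEquivariant (rho N T) b Φ := by
    apply isEquivariant_of_homog
    intro m f hf
    rw [hΦ, RingHom.comp_apply]
    by_cases hm : m ∈ N
    · rw [hψh ⟨m, hm⟩ f hf]
      exact isHomog_gam_single N T ⟨m, hm⟩ _
    · rw [hψ0 m hm f hf, map_zero]
      exact isHomog_zero _ m
  refine ⟨Φ, hΦeq, ?_⟩
  apply hom_ext_pb
  apply ringHom_ext_homog b
  intro m f hf
  rw [pb_comp_apply, hΦ, RingHom.comp_apply]
  by_cases hm : m ∈ N
  · rw [hψh ⟨m, hm⟩ f hf, pb_uSec_gam, MonoidAlgebra.coeff_single, Finsupp.sum_single_index rfl]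
  · rw [hψ0 m hm f hf, map_zero, map_zero, hx m hm f hf]

/-- The points of the attractor of a chart. -/
theorem mem_iff {p : P ⟶ T₁} (hp : IsEquivariant b (MonAct.trivial (AMonS S M) T₁) p) (x : T ⟶ P) :
    Mem (attrToX b N) x ↔ ∀ m ∉ N, ∀ f : Fn P, IsHomog b m f → pb x f = 0 := by
  constructor
  · rintro ⟨φ, rfl⟩ m hm f hf
    change pb (uSec N T ≫ φ.1) f = 0
    rw [pb_comp_apply, pb_fam_zero N φ.2 hm hf, map_zero]
  · intro hx
    obtain ⟨φ, h1, h2⟩ := exists_fam b N hp x hx
    exact ⟨⟨φ, h1⟩, h2⟩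

end Fam

theorem attrToX_injective (T : (Over S)ᵒᵖ) : Function.Injective ((attrToX b N).app T) :=
  K950.ZarAff.app_injective (attrToX b N) (K951.Shf.isSheaf_eqvHom _ _ _)
    (fun _ _ _ _ h => Subtype.ext (eq_of_uSec N (Subtype.prop _) (Subtype.prop _) h)) (unop T)

section Rep

variable {p : P ⟶ T₁} (hp : IsEquivariant b (MonAct.trivial (AMonS S M) T₁) p)

/-- The canonical map of a representing object to `P`. -/
noncomputable abbrev toP {Z : Over S} (e : (attr b N).RepresentableBy Z) : Z ⟶ P :=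
  (attrToX b N).app (op Z) (e.homEquiv (𝟙 Z))

omit [IsAffine P.left] in
theorem app_homEquiv {Z : Over S} (e : (attr b N).RepresentableBy Z) {T : Over S} (z : T ⟶ Z) :
    (attrToX b N).app (op T) (e.homEquiv z) = z ≫ toP b N e := by
  have h1 := NatTrans.naturality_apply (attrToX b N) z.op (e.homEquiv (𝟙 Z))
  have h2 : (attr b N).map z.op (e.homEquiv (𝟙 Z)) = e.homEquiv z := by
    rw [← e.homEquiv_comp, Category.comp_id]
  rw [h2] at h1
  exact h1

include hp in
/-- **The representing object of the attractor of a chart is the closed subscheme of the ideal generated by the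
homogeneous functions of degree outside `N`.** -/
theorem rep_facts {Z : Over S} (e : (attr b N).RepresentableBy Z) :
    IsClosedImmersion (toP b N e).left ∧ IsAffine Z.left ∧ Function.Surjective (pb (toP b N e)) ∧
      RingHom.ker (pb (toP b N e)) = K950.SymD.idl (gr b) N := by
  obtain ⟨Z', i', e', hcl, hi'⟩ := K950.RepZar.exists_representableBy (attrToX b N) (attrToX_injective b N)
    (K951.Shf.isSheaf_eqvHom _ _ _) (fun U f _ _ => ⟨(K950.SymD.idl (gr b) N).map (pb f), by
      intro T _ x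
      rw [mem_iff N hp, Ideal.map_le_iff_le_comap, K950.SymD.idl, Ideal.span_le]
      constructor
      · rintro h g ⟨m, hm, hg⟩
        have := h m hm g hg
        rw [pb_comp_apply] at this
        exact this
      · intro h m hm g hg
        rw [pb_comp_apply]
        exact h ⟨m, hm, hg⟩⟩)
  let c : Z ⟶ Z' := e'.homEquiv.symm (e.homEquiv (𝟙 Z))
  let c' : Z' ⟶ Z := e.homEquiv.symm (e'.homEquiv (𝟙 Z'))
  have hc : c ≫ i' = toP b N e := by
    rw [← hi']
    change (attrToX b N).app (op Z) (e'.homEquiv (e'.homEquiv.symm (e.homEquiv (𝟙 Z)))) = _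
    rw [Equiv.apply_symm_apply]
  have hc' : c' ≫ toP b N e = i' := by
    rw [← app_homEquiv]
    change (attrToX b N).app (op Z') (e.homEquiv (e.homEquiv.symm (e'.homEquiv (𝟙 Z')))) = _
    rw [Equiv.apply_symm_apply, hi', Category.id_comp]
  have hmono : Mono i' := Over.mono_of_mono_left i'
  have h1 : c' ≫ c = 𝟙 _ := by
    rw [← cancel_mono i', Category.assoc, hc, hc', Category.id_comp]
  have h2 : c ≫ c' = 𝟙 _ := by
    apply e.homEquiv.injective
    apply attrToX_injective b N
    rw [app_homEquiv, Category.assoc, hc', hc]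
  have hiso : IsIso c := ⟨c', h2, h1⟩
  have hclosed : IsClosedImmersion (toP b N e).left := by
    rw [← hc, Over.comp_left]
    have : IsIso c.left := inferInstanceAs (IsIso ((Over.forget S).map c))
    infer_instance
  obtain ⟨haff, hsurj⟩ := IsClosedImmersion.isAffine_surjective_of_isAffine (toP b N e).left
  refine ⟨hclosed, haff, hsurj, le_antisymm ?_ ?_⟩
  · intro f hf
    let I := K950.SymD.idl (gr b) N
    let D : CommRingCat.{u} := CommRingCat.of (Fn P ⧸ I)
    let q : Γ(P.left, ⊤) ⟶ D := CommRingCat.ofHom (Ideal.Quotient.mk I)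
    let j : Spec D ⟶ P.left := K950.ClosedDescent.specTo P.left q
    let T : Over S := Over.mk (j ≫ P.hom)
    let x : T ⟶ P := Over.homMk j
    have hT : IsAffine T.left := inferInstanceAs (IsAffine (Spec D))
    have hker : RingHom.ker (pb x) = I := by
      change RingHom.ker j.appTop.hom = I
      rw [K950.ClosedDescent.ker_specTo]
      exact Ideal.mk_ker
    obtain ⟨φ, hφ⟩ : Mem (attrToX b N) x := by
      rw [mem_iff N hp]
      intro m hm g hg
      have : g ∈ RingHom.ker (pb x) := by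
        rw [hker]
        exact Ideal.subset_span ⟨m, hm, hg⟩
      exact this
    have hx : e.homEquiv.symm φ ≫ toP b N e = x := by
      rw [← app_homEquiv, Equiv.apply_symm_apply, hφ]
    change f ∈ I
    rw [← hker, RingHom.mem_ker, ← hx, pb_comp_apply]
    have hf' : pb (toP b N e) f = 0 := hf
    rw [hf', map_zero]
  · rw [K950.SymD.idl, Ideal.span_le]
    rintro g ⟨m, hm, hg⟩
    exact (mem_iff N hp (toP b N e)).1 ⟨_, rfl⟩ m hm g hg

variable {N}

/-- The map of attractors on functions. -/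
theorem pb_face {Q : AddSubmonoid M} (hQ : IsFace N Q) {ZN ZQ : Over S} [IsAffine ZN.left]
    (eN : (attr b N).RepresentableBy ZN)
    (eQ : (attr b Q).RepresentableBy ZQ) (j : ZN ⟶ ZQ)
    (hj : ∀ (T : Over S) (z : T ⟶ ZN), eQ.homEquiv (z ≫ j) = (attrFace b hQ).app (op T) (eN.homEquiv z))
    (m : M) (hm : m ∈ Q) (f : Fn P) (hf : IsHomog b m f) :
    pb j (pb (toP b Q eQ) f) = pb (toP b N eN) f := by
  classical
  have h1 : j ≫ toP b Q eQ = lift (toUnit ZN ≫ η[AMonS S Q] ≫ AMonS.faceMap S hQ) (𝟙 ZN) ≫ (eN.homEquiv (𝟙 ZN)).1 := by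
    rw [← app_homEquiv]
    have h2 := hj ZN (𝟙 ZN)
    rw [Category.id_comp] at h2
    rw [h2]
    change lift (toUnit ZN ≫ η[AMonS S Q]) (𝟙 ZN) ≫ (AMonS.faceMap S hQ ▷ ZN) ≫ (eN.homEquiv (𝟙 ZN)).1 = _
    rw [lift_whiskerRight_assoc, Category.assoc]
  rw [← pb_comp_apply, h1, pb_comp_apply, pb_fam N (eN.homEquiv (𝟙 ZN)).2 ⟨m, hQ.le hm⟩ hf, pb_lift_gam_apply,
    evl_single, pb_id, RingHom.id_apply]
  have h3 : chi (toUnit ZN ≫ η[AMonS S Q] ≫ AMonS.faceMap S hQ) (Multiplicative.ofAdd (⟨m, hQ.le hm⟩ : N)) = 1 := by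
    have h4 : toUnit ZN ≫ η[AMonS S Q] ≫ AMonS.faceMap S hQ = (1 : ZN ⟶ AMonS S Q) ≫ AMonS.faceMap S hQ := by
      rw [Hom.one_def, Category.assoc]
    have h5 := chi_faceMap hQ (1 : ZN ⟶ AMonS S Q) ⟨m, hQ.le hm⟩
    rw [h4, h5, dif_pos hm, chi_one, MonoidHom.one_apply]
  rw [h3, _root_.mul_one]
  rfl

include hp in
/-- **The attractor of a smooth chart is a vector bundle over the attractor of a face.** -/
theorem exists_symm [Smooth p.left] {Q : AddSubmonoid M} (hQ : IsFace N Q) {ZN ZQ : Over S}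
    (eN : (attr b N).RepresentableBy ZN) (eQ : (attr b Q).RepresentableBy ZQ) (j : ZN ⟶ ZQ)
    (hj : ∀ (T : Over S) (z : T ⟶ ZN), eQ.homEquiv (z ≫ j) = (attrFace b hQ).app (op T) (eN.homEquiv z))
    {C B : Type u} [CommRing C] [CommRing B] (εC : Fn ZQ ≃+* C) (εB : Fn ZN ≃+* B) (φ : C →+* B)
    (hφ : ∀ x, φ (εC x) = εB (pb j x)) :
    IsAffine ZQ.left ∧ IsAffine ZN.left ∧
    ∃ (E : Type u) (_ : AddCommGroup E) (_ : Module C E), Module.Finite C E ∧ Module.Projective C E ∧
      ∃ e : SymmetricAlgebra C E ≃+* B, ∀ c, e (algebraMap C _ c) = φ c := by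
  classical
  let _ := gradedRing b
  obtain ⟨-, hN1, hN2, hN3⟩ := rep_facts b N hp eN
  obtain ⟨-, hQ1, hQ2, hQ3⟩ := rep_facts b Q hp eQ
  refine ⟨hQ1, hN1, ?_⟩
  let _ : Algebra (Fn T₁) (Fn P) := (pb p).toAlgebra
  have hsm : (pb p).Smooth :=
    (HasRingHomProperty.iff_of_isAffine (P := @Smooth) (f := p.left)).1 inferInstance
  have hsm' : Algebra.Smooth (Fn T₁) (Fn P) := hsm
  have hft : Algebra.FiniteType (Fn T₁) (Fn P) := inferInstance
  refine K950.SymD.exists_symm (Fn T₁) (gr b) (fun r => isHomog_pb b hp r) N (εB.toRingHom.comp (pb (toP b N eN))) Q hQ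
    (εB.surjective.comp hN2) ?_ (εC.toRingHom.comp (pb (toP b Q eQ))) (εC.surjective.comp hQ2) ?_ φ ?_
  · rw [← hN3]
    ext x
    change εB (pb (toP b N eN) x) = 0 ↔ pb (toP b N eN) x = 0
    rw [map_eq_zero_iff εB εB.injective]
  · rw [← hQ3]
    ext x
    change εC (pb (toP b Q eQ) x) = 0 ↔ pb (toP b Q eQ) x = 0
    rw [map_eq_zero_iff εC εC.injective]
  · intro m hm a ha
    change φ (εC (pb (toP b Q eQ) a)) = εB (pb (toP b N eN) a)
    rw [hφ, pb_face b hQ eN eQ j hj m hm a ha]

end Rep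

end Chart

end K950.Chart
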