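import Mathlib.AlgebraicGeometry.Sites.Fpqc
import Mathlib.AlgebraicGeometry.IdealSheaf.Functorial
import Mathlib.AlgebraicGeometry.Morphisms.SchemeTheoreticallyDominant
import Mathlib.RingTheory.Flat.FaithfullyFlat.Algebra
import Mathlib.RingTheory.Flat.Basic

/-!
# Descent of closed subfunctors along flat, locally finitely presented surjections

`K950.ClosedDescent.exists_idealSheafData`: let `P` be a property of morphisms to a scheme `X`, stable under
precomposition and local for the Zariski and fppf topologies, `f : U ⟶ X` flat, surjective and locally of finite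
presentation (for instance an etale surjection, or a Zariski covering), such that `P (g ≫ f)` holds if and only if
`g` factors through a closed subscheme of `U`.  Then there is an ideal sheaf `I` on `X` with `P g ↔ I ≤ g.ker`.
-/

universe u

open CategoryTheory CategoryTheory.Limits AlgebraicGeometry TopologicalSpace
open scoped TensorProduct

namespace K950.ClosedDescent

section Ring

/-- Descent of ideals along a flat ring map: if the two extensions of `J` to `B ⊗ B` satisfy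
`right J ≤ left J`, then `J` is extended from `A`. -/
theorem le_map_comap {A B : Type u} [CommRing A] [CommRing B] [Algebra A B] [Module.Flat A B] (J : Ideal B)
    (h : ∀ b ∈ J, (1 : B) ⊗ₜ[A] b ∈
      J.map (Algebra.TensorProduct.includeLeft : B →ₐ[A] B ⊗[A] B)) :
    J ≤ (J.comap (algebraMap A B)).map (algebraMap A B) := by
  intro b hb
  set I := J.comap (algebraMap A B) with hI
  let φ : (A ⧸ I) →ₐ[A] (B ⧸ J) := Ideal.quotientMapₐ J (Algebra.ofId A B) le_rfl
  have hφ : Function.Injective φ := Ideal.quotientMap_injective (I := J) (f := algebraMap A B)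
  have hψ : Function.Injective (φ.toLinearMap.rTensor B) :=
    Module.Flat.rTensor_preserves_injective_linearMap φ.toLinearMap hφ
  have h0 : (1 : A ⧸ I) ⊗ₜ[A] b = 0 := by
    apply hψ
    rw [map_zero, LinearMap.rTensor_tmul, AlgHom.toLinearMap_apply, map_one]
    let π : B ⊗[A] B →ₐ[A] (B ⧸ J) ⊗[A] B :=
      Algebra.TensorProduct.map (Ideal.Quotient.mkₐ A J) (AlgHom.id A B)
    have hker : J.map (Algebra.TensorProduct.includeLeft : B →ₐ[A] B ⊗[A] B) ≤ RingHom.ker π := by
      rw [Ideal.map_le_iff_le_comap]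
      intro x hx
      rw [Ideal.mem_comap, RingHom.mem_ker]
      change (Ideal.Quotient.mkₐ A J x) ⊗ₜ[A] (1 : B) = 0
      rw [Ideal.Quotient.mkₐ_eq_mk, Ideal.Quotient.eq_zero_iff_mem.2 hx, TensorProduct.zero_tmul]
    have := hker (h b hb)
    rw [RingHom.mem_ker] at this
    change (Ideal.Quotient.mkₐ A J 1) ⊗ₜ[A] b = 0 at this
    rwa [map_one] at this
  let χ : (A ⧸ I) ⊗[A] B →ₐ[A] B ⧸ I.map (algebraMap A B) :=
    Algebra.TensorProduct.lift
      (Ideal.Quotient.liftₐ I (Algebra.ofId A (B ⧸ I.map (algebraMap A B))) (fun a ha => by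
        rw [Algebra.ofId_apply, IsScalarTower.algebraMap_apply A B, Ideal.Quotient.algebraMap_eq,
          Ideal.Quotient.eq_zero_iff_mem]
        exact Ideal.mem_map_of_mem _ ha))
      (Ideal.Quotient.mkₐ A _) (fun _ _ => Commute.all _ _)
  have h1 := congrArg χ h0
  rw [map_zero, Algebra.TensorProduct.lift_tmul, map_one, one_mul, Ideal.Quotient.mkₐ_eq_mk,
    Ideal.Quotient.eq_zero_iff_mem] at h1
  exact h1

end Ring

/-- Flat and surjective morphisms are injective on functions. -/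
theorem app_injective {X Y : Scheme.{u}} (f : X ⟶ Y) [Flat f] [Surjective f] (U : Y.Opens) :
    Function.Injective (f.app U) := by
  rw [injective_iff_map_eq_zero]
  intro s hs
  apply TopCat.Presheaf.section_ext Y.sheaf U
  intro y hy
  obtain ⟨x, rfl⟩ := f.surjective y
  have hinj : Function.Injective (f.stalkMap x) := by
    algebraize [(f.stalkMap x).hom]
    have : Module.FaithfullyFlat (Y.presheaf.stalk (f x)) (X.presheaf.stalk x) :=
      @Module.FaithfullyFlat.of_flat_of_isLocalHom _ _ _ _ _ _ _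
        (Flat.stalkMap f x) (f.toLRSHom.prop x)
    exact ‹RingHom.FaithfullyFlat _›.injective
  apply hinj
  have h1 := Scheme.Hom.germ_stalkMap_apply f U x hy s
  have h2 : X.presheaf.germ (f ⁻¹ᵁ U) x hy (f.app U s) = 0 := by rw [hs, map_zero]
  have h3 : (f.stalkMap x) ((Y.presheaf.germ U (f x) hy) 0) = 0 := by rw [map_zero, map_zero]
  exact (h1.trans h2).trans h3.symm

/-- A property of morphisms to `X` that is stable under precomposition and local for the Zariski topology and for flat,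
locally finitely presented surjections. -/
structure IsLocalPred {X : Scheme.{u}} (P : ∀ T : Scheme.{u}, (T ⟶ X) → Prop) : Prop where
  precomp : ∀ {T' T : Scheme.{u}} (h : T' ⟶ T) (g : T ⟶ X), P _ g → P _ (h ≫ g)
  zariski : ∀ {T : Scheme.{u}} (g : T ⟶ X) (𝒰 : Scheme.OpenCover.{u} T), (∀ i, P _ (𝒰.f i ≫ g)) → P _ g
  fppf : ∀ {T' T : Scheme.{u}} (h : T' ⟶ T) [Flat h] [LocallyOfFinitePresentation h] [Surjective h] (g : T ⟶ X),
    P _ (h ≫ g) → P _ g

/-- The morphism to an affine scheme defined by a ring map out of its ring of functions. -/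
noncomputable def specTo (V : Scheme.{u}) [IsAffine V] {D : CommRingCat.{u}} (φ : Γ(V, ⊤) ⟶ D) : Spec D ⟶ V :=
  Spec.map φ ≫ V.isoSpec.inv

theorem specTo_appTop (V : Scheme.{u}) [IsAffine V] {D : CommRingCat.{u}} (φ : Γ(V, ⊤) ⟶ D) :
    (specTo V φ).appTop = φ ≫ (Scheme.ΓSpecIso D).inv := by
  have h : V.isoSpec.inv.appTop = (Scheme.ΓSpecIso Γ(V, ⊤)).inv := by
    have h1 : V.isoSpec.inv.appTop ≫ V.isoSpec.hom.appTop = 𝟙 _ := by
      rw [← Scheme.Hom.comp_appTop, Iso.hom_inv_id, Scheme.Hom.id_appTop]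
    have h2 : V.isoSpec.hom.appTop = (Scheme.ΓSpecIso Γ(V, ⊤)).hom := Scheme.toSpecΓ_appTop V
    rw [h2] at h1
    rw [← cancel_mono (Scheme.ΓSpecIso Γ(V, ⊤)).hom, h1, Iso.inv_hom_id]
  rw [specTo, Scheme.Hom.comp_appTop, h, Scheme.ΓSpecIso_inv_naturality]

theorem specTo_comp {U V : Scheme.{u}} [IsAffine U] [IsAffine V] (f : U ⟶ V) {D : CommRingCat.{u}}
    (φ : Γ(U, ⊤) ⟶ D) : specTo U φ ≫ f = specTo V (f.appTop ≫ φ) := by
  rw [specTo, specTo, Category.assoc, ← Scheme.isoSpec_inv_naturality, Spec.map_comp, Category.assoc]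

theorem ker_specTo (V : Scheme.{u}) [IsAffine V] {D : CommRingCat.{u}} (φ : Γ(V, ⊤) ⟶ D) :
    RingHom.ker (specTo V φ).appTop.hom = RingHom.ker φ.hom := by
  rw [specTo_appTop, CommRingCat.hom_comp]
  ext x
  rw [RingHom.mem_ker, RingHom.mem_ker, RingHom.comp_apply]
  exact map_eq_zero_iff _ ((ConcreteCategory.bijective_of_isIso (Scheme.ΓSpecIso D).inv).1)

/-- The affine case: `f : U ⟶ V` a flat, locally finitely presented surjection of affine schemes. -/
theorem affine_case {U V : Scheme.{u}} [IsAffine U] [IsAffine V] (f : U ⟶ V) [Flat f]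
    [LocallyOfFinitePresentation f] [Surjective f] (P : ∀ T : Scheme.{u}, (T ⟶ V) → Prop)
    (hP : IsLocalPred P) (J : Ideal Γ(U, ⊤))
    (hJ : ∀ {T : Scheme.{u}} (g : T ⟶ U), P _ (g ≫ f) ↔ J ≤ RingHom.ker g.appTop.hom)
    {T : Scheme.{u}} (g : T ⟶ V) :
    P _ g ↔ J.comap f.appTop.hom ≤ RingHom.ker g.appTop.hom := by
  let _ : Algebra Γ(V, ⊤) Γ(U, ⊤) := f.appTop.hom.toAlgebra
  have : Module.Flat Γ(V, ⊤) Γ(U, ⊤) := f.flat_appTop
  -- `J` is extended from `V`
  have hJe : J ≤ (J.comap f.appTop.hom).map f.appTop.hom := by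
    refine le_map_comap (A := Γ(V, ⊤)) J fun b hb => ?_
    set L := J.map (Algebra.TensorProduct.includeLeft : Γ(U, ⊤) →ₐ[Γ(V, ⊤)] Γ(U, ⊤) ⊗[Γ(V, ⊤)] Γ(U, ⊤)) with hL
    let D := (Γ(U, ⊤) ⊗[Γ(V, ⊤)] Γ(U, ⊤)) ⧸ L
    let l : Γ(U, ⊤) →+* D := (Ideal.Quotient.mk L).comp
      (Algebra.TensorProduct.includeLeft : Γ(U, ⊤) →ₐ[Γ(V, ⊤)] Γ(U, ⊤) ⊗[Γ(V, ⊤)] Γ(U, ⊤)).toRingHom
    let r : Γ(U, ⊤) →+* D := (Ideal.Quotient.mk L).comp
      (Algebra.TensorProduct.includeRight : Γ(U, ⊤) →ₐ[Γ(V, ⊤)] Γ(U, ⊤) ⊗[Γ(V, ⊤)] Γ(U, ⊤)).toRingHom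
    have hlr : l.comp f.appTop.hom = r.comp f.appTop.hom := by
      ext a
      change Ideal.Quotient.mk L (algebraMap Γ(V, ⊤) Γ(U, ⊤) a ⊗ₜ[Γ(V, ⊤)] 1) =
        Ideal.Quotient.mk L (1 ⊗ₜ[Γ(V, ⊤)] algebraMap Γ(V, ⊤) Γ(U, ⊤) a)
      rw [Algebra.TensorProduct.tmul_one_eq_one_tmul]
    have h1 : P _ (specTo U (CommRingCat.ofHom l) ≫ f) := by
      rw [hJ, ker_specTo]
      intro x hx
      rw [RingHom.mem_ker]
      change Ideal.Quotient.mk L _ = 0
      rw [Ideal.Quotient.eq_zero_iff_mem]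
      exact Ideal.mem_map_of_mem _ hx
    have h2 : specTo U (CommRingCat.ofHom l) ≫ f = specTo U (CommRingCat.ofHom r) ≫ f := by
      rw [specTo_comp, specTo_comp]
      congr 1
      ext1
      exact hlr
    rw [h2, hJ, ker_specTo] at h1
    have h3 := h1 hb
    rw [RingHom.mem_ker] at h3
    exact Ideal.Quotient.eq_zero_iff_mem.1 h3
  -- base change of `g` along `f`
  have hcomm : g.appTop ≫ (pullback.fst g f).appTop = f.appTop ≫ (pullback.snd g f).appTop := by
    rw [← Scheme.Hom.comp_appTop, ← Scheme.Hom.comp_appTop, pullback.condition]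
  have hcomm' : ∀ a, (pullback.fst g f).appTop.hom (g.appTop.hom a) =
      (pullback.snd g f).appTop.hom (f.appTop.hom a) := fun a =>
    congrArg (fun φ : Γ(V, ⊤) ⟶ _ => φ.hom a) hcomm
  constructor
  · intro hg
    have h1 := hP.precomp (pullback.fst g f) g hg
    rw [pullback.condition, hJ] at h1
    intro a ha
    rw [RingHom.mem_ker]
    apply app_injective (pullback.fst g f) ⊤
    rw [map_zero]
    exact (hcomm' a).trans (RingHom.mem_ker.1 (h1 ha))
  · intro hg
    apply hP.fppf (pullback.fst g f)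
    rw [pullback.condition, hJ]
    refine hJe.trans ?_
    rw [Ideal.map_le_iff_le_comap]
    intro a ha
    rw [Ideal.mem_comap, RingHom.mem_ker, ← hcomm', RingHom.mem_ker.1 (hg ha), map_zero]

/-- A flat, locally finitely presented surjection onto an affine scheme is refined by one with affine source. -/
theorem exists_affine_refinement {U V : Scheme.{u}} [IsAffine V] (f : U ⟶ V) [Flat f]
    [LocallyOfFinitePresentation f] [Surjective f] :
    ∃ (U' : Scheme.{u}) (h : U' ⟶ U), IsAffine U' ∧ Flat (h ≫ f) ∧ LocallyOfFinitePresentation (h ≫ f) ∧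
      Surjective (h ≫ f) := by
  let P : MorphismProperty Scheme.{u} := @Flat ⊓ @LocallyOfFinitePresentation
  let 𝒰 : V.Cover (Scheme.precoverage P) := f.cover (P := P) ⟨‹_›, ‹_›⟩
  have : QuasiCompactCover 𝒰.toPreZeroHypercover :=
    QuasiCompactCover.of_isOpenMap fun i => f.isOpenMap
  obtain ⟨𝒱, φ, hfin, hφ⟩ := QuasiCompactCover.exists_hom.{u} 𝒰
  have := hfin
  let U' : Scheme.{u} := ∐ fun j : 𝒱.I₀ => Spec (𝒱.X j)
  let h : U' ⟶ U := Sigma.desc fun j => φ.h₀ j
  have hhf : h ≫ f = Sigma.desc fun j => 𝒱.f j := by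
    refine Sigma.hom_ext _ _ fun j => ?_
    rw [Sigma.ι_desc, Sigma.ι_desc_assoc]
    exact φ.w₀ j
  have hP : P (h ≫ f) := by
    rw [hhf]
    exact ⟨IsZariskiLocalAtSource.sigmaDesc fun j => (𝒱.map_prop j).1,
      IsZariskiLocalAtSource.sigmaDesc fun j => (𝒱.map_prop j).2⟩
  refine ⟨U', h, inferInstance, hP.1, hP.2, ⟨fun v => ?_⟩⟩
  obtain ⟨x, hx⟩ := 𝒱.covers v
  refine ⟨Sigma.ι (fun j : 𝒱.I₀ => Spec (𝒱.X j)) (𝒱.idx v) x, ?_⟩
  rw [← Scheme.Hom.comp_apply, hhf, Sigma.ι_desc]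
  exact hx

variable {X : Scheme.{u}}

theorem le_ker_iff_of_isAffine [IsAffine X] {T : Scheme.{u}} (g : T ⟶ X) (I : X.IdealSheafData) :
    I ≤ g.ker ↔ I.ideal ⟨⊤, isAffineOpen_top X⟩ ≤ RingHom.ker g.appTop.hom := by
  constructor
  · intro h
    exact (h ⟨⊤, isAffineOpen_top X⟩).trans (g.ideal_ker_le _)
  · intro h
    rw [Scheme.ker_of_isAffine]
    apply Scheme.IdealSheafData.le_of_isAffine
    refine h.trans ?_
    rw [Scheme.IdealSheafData.ofIdealTop_ideal]
    intro x hx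
    have := Ideal.mem_map_of_mem (X.presheaf.map (homOfLE (le_top (a := (⊤ : X.Opens)))).op).hom hx
    convert this
    rw [show (homOfLE (le_top (a := (⊤ : X.Opens)))).op = 𝟙 _ from rfl, X.presheaf.map_id]
    rfl

/-- `I` cuts out the property `P` over the open subset `V`. -/
def CutOut (P : ∀ T : Scheme.{u}, (T ⟶ X) → Prop) (V : X.Opens) (I : Ideal Γ(X, V)) : Prop :=
  ∀ {T : Scheme.{u}} (g : T ⟶ V.toScheme), P _ (g ≫ V.ι) ↔ I ≤ RingHom.ker (V.topIso.inv ≫ g.appTop).hom

/-- Over every affine open subset `V`, some ideal cuts out `P`. -/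
theorem exists_cutOut {U : Scheme.{u}} (P : ∀ T : Scheme.{u}, (T ⟶ X) → Prop) (hP : IsLocalPred P)
    (f : U ⟶ X) [Flat f] [LocallyOfFinitePresentation f] [Surjective f] (K : U.IdealSheafData)
    (hK : ∀ {T : Scheme.{u}} (g : T ⟶ U), P _ (g ≫ f) ↔ K ≤ g.ker) (V : X.affineOpens) :
    ∃ I : Ideal Γ(X, V), CutOut P V.1 I := by
  have : IsAffine V.1.toScheme := V.2
  have : Surjective (f ∣_ V.1) := IsZariskiLocalAtTarget.restrict (P := @Surjective) ‹_› V.1
  obtain ⟨U', h, h1, h2, h3, h4⟩ := exists_affine_refinement (f ∣_ V.1)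
  let P' : ∀ T : Scheme.{u}, (T ⟶ V.1.toScheme) → Prop := fun T g => P T (g ≫ V.1.ι)
  have hP' : IsLocalPred P' :=
    { precomp := fun h g hg => by
        change P _ ((h ≫ g) ≫ V.1.ι)
        rw [Category.assoc]
        exact hP.precomp h _ hg
      zariski := fun g 𝒰 hg => hP.zariski _ 𝒰 fun i => by
        rw [← Category.assoc]
        exact hg i
      fppf := fun h _ _ _ g hg => hP.fppf h _ (by
        rw [← Category.assoc]
        exact hg) }
  let k : U' ⟶ U := h ≫ (f ⁻¹ᵁ V.1).ι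
  let J : Ideal Γ(U', ⊤) := (K.comap k).ideal ⟨⊤, isAffineOpen_top U'⟩
  have hJ : ∀ {T : Scheme.{u}} (g : T ⟶ U'), P' _ (g ≫ h ≫ f ∣_ V.1) ↔ J ≤ RingHom.ker g.appTop.hom := by
    intro T g
    change P _ ((g ≫ h ≫ f ∣_ V.1) ≫ V.1.ι) ↔ _
    rw [Category.assoc, Category.assoc, morphismRestrict_ι,
      show g ≫ h ≫ (f ⁻¹ᵁ V.1).ι ≫ f = (g ≫ k) ≫ f by simp [k], hK, ← Scheme.IdealSheafData.map_ker,
      Scheme.IdealSheafData.le_map_iff_comap_le, le_ker_iff_of_isAffine]
  refine ⟨(J.comap (h ≫ f ∣_ V.1).appTop.hom).comap V.1.topIso.inv.hom, fun {T} g => ?_⟩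
  have key := affine_case (h ≫ f ∣_ V.1) P' hP' J hJ g
  refine key.trans ?_
  rw [CommRingCat.hom_comp, ← RingHom.comap_ker]
  have hsurj : Function.Surjective V.1.topIso.inv.hom :=
    (ConcreteCategory.bijective_of_isIso V.1.topIso.inv).2
  exact (Ideal.comap_le_comap_iff_of_surjective _ hsurj _ _).symm

theorem CutOut.unique {P : ∀ T : Scheme.{u}, (T ⟶ X) → Prop} {V : X.Opens} (hV : IsAffineOpen V)
    {I I' : Ideal Γ(X, V)} (h : CutOut P V I) (h' : CutOut P V I') : I = I' := by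
  have : IsAffine V.toScheme := hV
  have key : ∀ {I I' : Ideal Γ(X, V)}, CutOut P V I → CutOut P V I' → I' ≤ I := by
    intro I I' h h'
    let φ : Γ(V.toScheme, ⊤) ⟶ CommRingCat.of (Γ(X, V) ⧸ I) :=
      V.topIso.hom ≫ CommRingCat.ofHom (Ideal.Quotient.mk I)
    have e : V.topIso.inv ≫ (specTo V.toScheme φ).appTop =
        CommRingCat.ofHom (Ideal.Quotient.mk I) ≫ (Scheme.ΓSpecIso _).inv := by
      rw [specTo_appTop]
      change V.topIso.inv ≫ (V.topIso.hom ≫ _) ≫ _ = _
      rw [Category.assoc, Iso.inv_hom_id_assoc]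
    have e' : RingHom.ker (V.topIso.inv ≫ (specTo V.toScheme φ).appTop).hom = I := by
      rw [e]
      ext x
      rw [CommRingCat.hom_comp, RingHom.mem_ker, RingHom.comp_apply]
      rw [map_eq_zero_iff _ ((ConcreteCategory.bijective_of_isIso
        (Scheme.ΓSpecIso (CommRingCat.of (Γ(X, V) ⧸ I))).inv).1)]
      exact Ideal.Quotient.eq_zero_iff_mem
    have h1 := (h (specTo V.toScheme φ)).2 e'.ge
    exact ((h' _).1 h1).trans e'.le
  exact le_antisymm (key h' h) (key h h')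

theorem CutOut.restrict {P : ∀ T : Scheme.{u}, (T ⟶ X) → Prop} {V W : X.Opens} (hWV : W ≤ V)
    {I : Ideal Γ(X, V)} (h : CutOut P V I) : CutOut P W (I.map (X.presheaf.map (homOfLE hWV).op).hom) := by
  intro T g
  rw [Ideal.map_le_iff_le_comap, RingHom.comap_ker]
  have h1 := h (g ≫ X.homOfLE hWV)
  rw [Category.assoc, Scheme.homOfLE_ι] at h1
  refine h1.trans ?_
  rw [← CommRingCat.hom_comp, Scheme.Hom.comp_appTop, ← Category.assoc, ← Category.assoc]
  have e : V.topIso.inv ≫ (X.homOfLE hWV).appTop = X.presheaf.map (homOfLE hWV).op ≫ W.topIso.inv := by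
    rw [Scheme.homOfLE_appTop, Scheme.Opens.topIso_inv, Scheme.Opens.topIso_inv]
    change X.presheaf.map _ ≫ X.presheaf.map _ = X.presheaf.map _ ≫ X.presheaf.map _
    rw [← X.presheaf.map_comp, ← X.presheaf.map_comp]
    rfl
  rw [e]

theorem topIso_inv_restrict {T : Scheme.{u}} (g : T ⟶ X) (V : X.Opens) :
    V.topIso.inv ≫ (g ∣_ V).appTop = g.app V ≫ (g ⁻¹ᵁ V).topIso.inv := by
  have h := g.resLE_app_top (U := V) (V := g ⁻¹ᵁ V) le_rfl
  rw [Scheme.Hom.resLE_eq_morphismRestrict, Scheme.Hom.appLE_eq_app] at h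
  rw [Scheme.Hom.appTop, h, Iso.inv_hom_id_assoc]

/-- **Descent of closed subfunctors.**  Let `P` be a property of morphisms to `X`, stable under precomposition and local
for the Zariski topology and for flat, locally finitely presented surjections, and `f : U ⟶ X` flat, surjective and
locally of finite presentation such that `P _ (g ≫ f)` holds if and only if `g` factors through the closed subscheme of
`U` with ideal `K`.  Then `P` is cut out by an ideal sheaf of `X`. -/
theorem exists_idealSheafData {U : Scheme.{u}} (P : ∀ T : Scheme.{u}, (T ⟶ X) → Prop) (hP : IsLocalPred P)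
    (f : U ⟶ X) [Flat f] [LocallyOfFinitePresentation f] [Surjective f] (K : U.IdealSheafData)
    (hK : ∀ {T : Scheme.{u}} (g : T ⟶ U), P _ (g ≫ f) ↔ K ≤ g.ker) :
    ∃ I : X.IdealSheafData, ∀ {T : Scheme.{u}} (g : T ⟶ X), P _ g ↔ I ≤ g.ker := by
  choose I hI using exists_cutOut P hP f K hK
  refine ⟨⟨I, fun V s => ?_, _, rfl⟩, fun {T} g => ?_⟩
  · exact CutOut.unique (X.affineBasicOpen s).2 (CutOut.restrict _ (hI V)) (hI _)
  · have hker : ∀ V : X.affineOpens, P _ ((g ⁻¹ᵁ V.1).ι ≫ g) ↔ I V ≤ RingHom.ker (g.app V.1).hom := by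
      intro V
      rw [← morphismRestrict_ι, hI V, topIso_inv_restrict]
      have e : RingHom.ker (g.app V.1 ≫ (g ⁻¹ᵁ V.1).topIso.inv).hom = RingHom.ker (g.app V.1).hom := by
        ext x
        rw [CommRingCat.hom_comp, RingHom.mem_ker, RingHom.comp_apply, RingHom.mem_ker,
          map_eq_zero_iff _ ((ConcreteCategory.bijective_of_isIso (g ⁻¹ᵁ V.1).topIso.inv).1)]
      rw [e]
    refine Iff.trans ?_ Scheme.IdealSheafData.le_ofIdeals_iff.symm
    constructor
    · intro hg V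
      exact (hker V).1 (hP.precomp _ g hg)
    · intro hg
      have hcov : IsOpenCover fun V : X.affineOpens => g ⁻¹ᵁ V.1 :=
        (X.isBasis_affineOpens.isOpenCover).comap g.base.hom
      exact hP.zariski g (T.openCoverOfIsOpenCover _ hcov) fun V => (hker V).2 (hg V)

/-- The same with closed immersions in place of ideals. -/
theorem exists_isClosedImmersion {U W' : Scheme.{u}} (P : ∀ T : Scheme.{u}, (T ⟶ X) → Prop) (hP : IsLocalPred P)
    (f : U ⟶ X) [Flat f] [LocallyOfFinitePresentation f] [Surjective f] (i' : W' ⟶ U) [IsClosedImmersion i']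
    (hi' : ∀ {T : Scheme.{u}} (g : T ⟶ U), P _ (g ≫ f) ↔ ∃ w : T ⟶ W', w ≫ i' = g) :
    ∃ (W : Scheme.{u}) (i : W ⟶ X), IsClosedImmersion i ∧ ∀ {T : Scheme.{u}} (g : T ⟶ X),
      P _ g ↔ ∃ w : T ⟶ W, w ≫ i = g := by
  have key : ∀ {W X : Scheme.{u}} (i : W ⟶ X) [IsClosedImmersion i] {T : Scheme.{u}} (g : T ⟶ X),
      i.ker ≤ g.ker ↔ ∃ w : T ⟶ W, w ≫ i = g := by
    intro W X i _ T g
    constructor
    · intro h
      exact ⟨IsClosedImmersion.lift i g h, IsClosedImmersion.lift_fac i g h⟩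
    · rintro ⟨w, rfl⟩
      exact Scheme.Hom.le_ker_comp w i
  obtain ⟨I, hI⟩ := exists_idealSheafData P hP f i'.ker fun g => (hi' g).trans (key i' g).symm
  refine ⟨I.subscheme, I.subschemeι, inferInstance, fun g => (hI g).trans ?_⟩
  rw [← key, Scheme.IdealSheafData.ker_subschemeι]

end K950.ClosedDescent
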