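import Groth.Agent.Magnet.K950.FlatMap
import Groth.Agent.Magnet.K951.Pts
import Groth.Agent.Magnet.K951.Stab

/-!
# Descent of equivariant maps along fpqc coverings
-/

set_option autoImplicit false

universe v₁ u₁ u

open CategoryTheory MonoidalCategory CartesianMonoidalCategory MonObj AlgebraicGeometry Opposite Limits

namespace K950.Descend

open Magnet Magnet.MonAct K951.Pts K950.FlatMap

section General

variable {C : Type u₁} [Category.{v₁} C] [CartesianMonoidalCategory C] {A P Q X : C} [MonObj A]

/-- Equivariance may be checked after an epimorphism. -/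
theorem isEquivariant_of_epi {aP : MonAct A P} {aQ : MonAct A Q} {aX : MonAct A X} {p : P ⟶ Q}
    (hp : IsEquivariant aP aQ p) [Epi (A ◁ p)] {Φ : P ⟶ X} (hΦ : IsEquivariant aP aX Φ) {Ψ : Q ⟶ X}
    (h : p ≫ Ψ = Φ) : IsEquivariant aQ aX Ψ := by
  unfold IsEquivariant at hp hΦ ⊢
  rw [← cancel_epi (A ◁ p), ← reassoc_of% hp, h, hΦ, ← MonoidalCategory.whiskerLeft_comp_assoc, h]

end General

/-- Whiskering on the left of an fpqc covering is an epimorphism. -/
theorem epi_whiskerLeft {S : Scheme.{u}} (A : Over S) {P Q : Over S} (p : P ⟶ Q) [Flat p.left] [Surjective p.left]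
    [QuasiCompact p.left] : Epi (A ◁ p) := by
  have h := K951.Stab.isPullback_whiskerLeft_left A p
  have : Flat (A ◁ p).left := MorphismProperty.of_isPullback (P := @Flat) h ‹_›
  have : Surjective (A ◁ p).left := MorphismProperty.of_isPullback (P := @Surjective) h ‹_›
  have : QuasiCompact (A ◁ p).left := MorphismProperty.of_isPullback (P := @QuasiCompact) h ‹_›
  exact epi_of_fpqc (A ◁ p)

/-- Equivariant families over an fpqc covering of `A(N)_S ×_S T` descend. -/
theorem exists_equivariant_desc {S : Scheme.{u}} {A P Q X : Over S} [MonObj A] {aP : MonAct A P} {aQ : MonAct A Q}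
    {aX : MonAct A X} {p : P ⟶ Q} [Flat p.left] [Surjective p.left] [QuasiCompact p.left]
    (hp : IsEquivariant aP aQ p) {Φ : P ⟶ X} (hΦ : IsEquivariant aP aX Φ)
    (h : ∀ (W : Over S) (u v : W ⟶ P), u ≫ p = v ≫ p → u ≫ Φ = v ≫ Φ) :
    ∃ Ψ : Q ⟶ X, IsEquivariant aQ aX Ψ ∧ p ≫ Ψ = Φ := by
  obtain ⟨Ψ, hΨ⟩ := exists_desc p Φ h
  have := epi_whiskerLeft A p
  exact ⟨Ψ, isEquivariant_of_epi hp hΦ hΨ, hΨ⟩

/-- The orbit map of a point. -/
theorem isEquivariant_orbit {C : Type u₁} [Category.{v₁} C] [CartesianMonoidalCategory C] {A X : C} [MonObj A]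
    (a : MonAct A X) {T : C} (x : T ⟶ X) :
    IsEquivariant ((regular A).prod (MonAct.trivial A T)) a ((A ◁ x) ≫ a.act) :=
  ((eqvHom.ofPoint a).app (op T) x).2

section Chi

variable {S : Scheme.{u}} {M M' : Type} [AddCommGroup M] [AddCommGroup M']

theorem chi_add_neg {W : Over S} (g : W ⟶ AMonS S M) (m : M) :
    chi g (Multiplicative.ofAdd m) * chi g (Multiplicative.ofAdd (-m)) = 1 := by
  rw [← map_mul, ← ofAdd_add, add_neg_cancel, ofAdd_zero, map_one]

/-- Two points of `D(M)_S` whose characters agree on the kernel of a surjection `f : M →+ M'` differ by a point of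
`D(M')_S`. -/
theorem exists_eq_mul {f : M →+ M'} (hf : Function.Surjective f) {W : Over S} (g g' : W ⟶ AMonS S M)
    (h : ∀ m, f m = 0 → chi g (Multiplicative.ofAdd m) = chi g' (Multiplicative.ofAdd m)) :
    ∃ k : W ⟶ AMonS S M', g' = g * (k ≫ AMonS.map S f) := by
  let c : Multiplicative M →* Γ(W.left, ⊤) :=
    { toFun := fun m => chi g' m * chi g (Multiplicative.ofAdd (-(Multiplicative.toAdd m)))
      map_one' := by
        change chi g' 1 * chi g (Multiplicative.ofAdd (-(0 : M))) = 1
        rw [neg_zero, ofAdd_zero, map_one, map_one, _root_.one_mul]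
      map_mul' := fun m n => by
        change chi g' (m * n) * chi g (Multiplicative.ofAdd (-(Multiplicative.toAdd m + Multiplicative.toAdd n))) = _
        rw [neg_add, ofAdd_add, map_mul, map_mul]
        ring }
  have hc : ∀ m, f m = 0 → c (Multiplicative.ofAdd m) = 1 := by
    intro m hm
    change chi g' (Multiplicative.ofAdd m) * chi g (Multiplicative.ofAdd (-m)) = 1
    rw [← h m hm]
    exact chi_add_neg g m
  have hc' : ∀ m n, f m = f n → c (Multiplicative.ofAdd m) = c (Multiplicative.ofAdd n) := by
    intro m n hmn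
    have : Multiplicative.ofAdd m = Multiplicative.ofAdd n * Multiplicative.ofAdd (m - n) := by
      rw [← ofAdd_add]; congr 1; abel
    rw [this, map_mul, hc (m - n) (by rw [map_sub, hmn, sub_self]), _root_.mul_one]
  let d : Multiplicative M' →* Γ(W.left, ⊤) :=
    { toFun := fun m' => c (Multiplicative.ofAdd (Function.surjInv hf (Multiplicative.toAdd m')))
      map_one' := hc _ (Function.surjInv_eq hf 0)
      map_mul' := fun m n => by
        rw [← map_mul, ← ofAdd_add]
        apply hc'
        rw [Function.surjInv_eq hf, map_add, Function.surjInv_eq hf, Function.surjInv_eq hf]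
        rfl }
  refine ⟨ofChi d, ?_⟩
  apply chi_injective
  rw [chi_mul, chi_map, chi_ofChi]
  refine MonoidHom.ext fun m => ?_
  change chi g' m = chi g m * c (Multiplicative.ofAdd (Function.surjInv hf (f (Multiplicative.toAdd m))))
  rw [hc' _ (Multiplicative.toAdd m) (Function.surjInv_eq hf _)]
  change chi g' m = chi g m * (chi g' m * chi g (Multiplicative.ofAdd (-(Multiplicative.toAdd m))))
  have := chi_add_neg g (Multiplicative.toAdd m)
  rw [ofAdd_toAdd] at this
  rw [_root_.mul_left_comm, this, _root_.mul_one]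

end Chi

end K950.Descend
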