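import Groth.Agent.Magnet.K951.Prod
import Groth.Agent.Magnet.K949.Dominant
import Mathlib.AlgebraicGeometry.AffineTransitionLimit
import Mathlib.CategoryTheory.Limits.Constructions.Over.Connected

/-!
# `A(⋃ Nᵢ)_S ×_S T` is the limit of the `A(Nᵢ)_S ×_S T` over a directed family of submonoids
-/

set_option autoImplicit false

universe u

open CategoryTheory MonoidalCategory CartesianMonoidalCategory MonObj AlgebraicGeometry Opposite Limits

namespace K950.DirLim

open Magnet K951.Pts

variable {S : Scheme.{u}} {M : Type} [AddCommMonoid M] {J : Type} [Preorder J] (N : J → AddSubmonoid M)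
  (hN : Monotone N) (T : Over S)

/-- The diagram of the `A(Nᵢ)_S ×_S T`. -/
noncomputable def dg : (ULift.{u} J)ᵒᵖ ⥤ Over S where
  obj i := AMonS S (N i.unop.down) ⊗ T
  map {i j} f := AMonS.map S (AddSubmonoid.inclusion (hN (ULift.down_le.2 (leOfHom f.unop)))) ▷ T
  map_id i := by
    rw [← id_whiskerRight]
    congr 1
    have h : AMonS.map S (AddSubmonoid.inclusion (le_refl (N i.unop.down))) = 𝟙 _ := by
      have h1 : ∀ w : AMonS S (N i.unop.down) ⟶ AMonS S (N i.unop.down),
          w ≫ AMonS.map S (AddSubmonoid.inclusion (le_refl (N i.unop.down))) = w := by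
        intro w
        apply chi_injective
        rw [chi_map]
        rfl
      simpa using h1 (𝟙 _)
    exact h
  map_comp f g := by
    rw [← comp_whiskerRight, ← AMonS.map_comp]
    rfl

/-- The cone with vertex `A(⋃ Nᵢ)_S ×_S T`. -/
noncomputable def cn : Cone (dg N hN T) where
  pt := AMonS S (⨆ i, N i : AddSubmonoid M) ⊗ T
  π :=
    { app := fun i => AMonS.map S (AddSubmonoid.inclusion (le_iSup N i.unop.down)) ▷ T
      naturality := fun i j f => by
        change 𝟙 _ ≫ _ = _
        rw [Category.id_comp]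
        dsimp only [dg]
        rw [← comp_whiskerRight, ← AMonS.map_comp]
        rfl }

section Glue

variable [IsDirected J (· ≤ ·)] [Nonempty J]

include hN in
theorem mem_iSup {m : M} (hm : m ∈ (⨆ i, N i : AddSubmonoid M)) : ∃ i, m ∈ N i :=
  (AddSubmonoid.mem_iSup_of_directed (fun i j => by
    obtain ⟨k, hik, hjk⟩ := exists_ge_ge i j
    exact ⟨k, hN hik, hN hjk⟩)).1 hm

variable {B : Type*} [MulZeroClass B]

include hN in
/-- Characters of the `Nᵢ` glue to a character of `⋃ Nᵢ`. -/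
theorem exists_glue {B : Type*} [Monoid B] (χ : ∀ i, Multiplicative (N i) →* B)
    (h : ∀ (i j : J) (hij : i ≤ j) (n : N i),
      χ j (Multiplicative.ofAdd (AddSubmonoid.inclusion (hN hij) n)) = χ i (Multiplicative.ofAdd n)) :
    ∃ ψ : Multiplicative (⨆ i, N i : AddSubmonoid M) →* B, ∀ (i : J) (n : N i),
      ψ (Multiplicative.ofAdd (AddSubmonoid.inclusion (le_iSup N i) n)) = χ i (Multiplicative.ofAdd n) := by
  choose i hi using fun n : (⨆ i, N i : AddSubmonoid M) => mem_iSup N hN n.2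
  have key : ∀ (j k : J) (m : M) (hj : m ∈ N j) (hk : m ∈ N k),
      χ j (Multiplicative.ofAdd ⟨m, hj⟩) = χ k (Multiplicative.ofAdd ⟨m, hk⟩) := by
    intro j k m hj hk
    obtain ⟨l, hjl, hkl⟩ := exists_ge_ge j k
    rw [← h j l hjl ⟨m, hj⟩, ← h k l hkl ⟨m, hk⟩]
    rfl
  let f : Multiplicative (⨆ i, N i : AddSubmonoid M) → B := fun n =>
    χ (i (Multiplicative.toAdd n)) (Multiplicative.ofAdd ⟨_, hi (Multiplicative.toAdd n)⟩)
  have hf : ∀ (j : J) (n : (⨆ i, N i : AddSubmonoid M)) (hj : (n : M) ∈ N j),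
      f (Multiplicative.ofAdd n) = χ j (Multiplicative.ofAdd ⟨n, hj⟩) := fun j n hj => key _ _ _ _ _
  refine ⟨{ toFun := f, map_one' := ?_, map_mul' := ?_ }, ?_⟩
  · have j : J := Classical.arbitrary J
    have h1 := hf j 0 (N j).zero_mem
    exact h1.trans (map_one (χ j))
  · intro m n
    obtain ⟨l, hml, hnl⟩ := exists_ge_ge (i (Multiplicative.toAdd m)) (i (Multiplicative.toAdd n))
    have hm : ((Multiplicative.toAdd m : (⨆ i, N i : AddSubmonoid M)) : M) ∈ N l := hN hml (hi _)
    have hn : ((Multiplicative.toAdd n : (⨆ i, N i : AddSubmonoid M)) : M) ∈ N l := hN hnl (hi _)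
    have h1 := hf l (Multiplicative.toAdd m) hm
    have h2 := hf l (Multiplicative.toAdd n) hn
    have h3 := hf l (Multiplicative.toAdd m + Multiplicative.toAdd n) ((N l).add_mem hm hn)
    refine h3.trans ?_
    refine Eq.trans ?_ (congrArg₂ (· * ·) h1 h2).symm
    rw [← map_mul]
    rfl
  · intro j n
    exact hf j _ n.2

end Glue

/-- The legs of a cone. -/
noncomputable def leg (s : Cone (dg N hN T)) (i : J) : s.pt ⟶ AMonS S (N i) ⊗ T := s.π.app (op ⟨i⟩)

theorem leg_w (s : Cone (dg N hN T)) {i j : J} (hij : i ≤ j) :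
    leg N hN T s j ≫ (AMonS.map S (AddSubmonoid.inclusion (hN hij)) ▷ T) = leg N hN T s i :=
  s.w (homOfLE (show (⟨i⟩ : ULift.{u} J) ≤ ⟨j⟩ from hij)).op

variable [IsDirected J (· ≤ ·)] [Nonempty J]

omit [Nonempty J] in
theorem leg_snd (s : Cone (dg N hN T)) (i j : J) :
    leg N hN T s i ≫ snd _ _ = leg N hN T s j ≫ snd _ _ := by
  obtain ⟨k, hik, hjk⟩ := exists_ge_ge i j
  rw [← leg_w N hN T s hik, ← leg_w N hN T s hjk, Category.assoc, Category.assoc, whiskerRight_snd, whiskerRight_snd]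

theorem exists_lift (s : Cone (dg N hN T)) :
    ∃ l : s.pt ⟶ AMonS S (⨆ i, N i : AddSubmonoid M) ⊗ T,
      ∀ i, l ≫ (AMonS.map S (AddSubmonoid.inclusion (le_iSup N i)) ▷ T) = leg N hN T s i := by
  have i₀ : J := Classical.arbitrary J
  obtain ⟨ψ, hψ⟩ := exists_glue N hN (fun i => chi (leg N hN T s i ≫ fst _ _)) (by
    intro i j hij n
    rw [← leg_w N hN T s hij, Category.assoc, whiskerRight_fst, ← Category.assoc, chi_map_apply])
  refine ⟨lift (ofChi ψ) (leg N hN T s i₀ ≫ snd _ _), fun i => ?_⟩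
  rw [lift_whiskerRight]
  apply CartesianMonoidalCategory.hom_ext
  · rw [lift_fst]
    apply chi_injective
    rw [chi_map, chi_ofChi]
    refine MonoidHom.ext fun n => ?_
    exact hψ i (Multiplicative.toAdd n)
  · rw [lift_snd]
    exact leg_snd N hN T s _ _

include hN in
theorem hom_ext {W : Over S} {f g : W ⟶ AMonS S (⨆ i, N i : AddSubmonoid M) ⊗ T}
    (h : ∀ i, f ≫ (AMonS.map S (AddSubmonoid.inclusion (le_iSup N i)) ▷ T) =
      g ≫ (AMonS.map S (AddSubmonoid.inclusion (le_iSup N i)) ▷ T)) : f = g := by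
  apply CartesianMonoidalCategory.hom_ext
  · apply chi_injective
    refine MonoidHom.ext fun n => ?_
    obtain ⟨i, hi⟩ := mem_iSup N hN (Multiplicative.toAdd n : (⨆ i, N i : AddSubmonoid M)).2
    have h1 := chi_map_apply (f ≫ fst _ _) (AddSubmonoid.inclusion (le_iSup N i)) ⟨_, hi⟩
    have h2 := chi_map_apply (g ≫ fst _ _) (AddSubmonoid.inclusion (le_iSup N i)) ⟨_, hi⟩
    have h3 : (f ≫ fst _ _) ≫ AMonS.map S (AddSubmonoid.inclusion (le_iSup N i)) =
        (g ≫ fst _ _) ≫ AMonS.map S (AddSubmonoid.inclusion (le_iSup N i)) := by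
      have h4 := congrArg (fun k => k ≫ fst _ _) (h i)
      simpa only [Category.assoc, whiskerRight_fst] using h4
    rw [h3] at h1
    exact h1.symm.trans h2
  · have h4 := congrArg (fun k => k ≫ snd _ _) (h (Classical.arbitrary J))
    simpa only [Category.assoc, whiskerRight_snd] using h4

/-- **The cone is a limit cone.** -/
theorem nonempty_isLimit_cn : Nonempty (IsLimit (cn N hN T)) := by
  choose l hl using exists_lift N hN T
  exact ⟨{ lift := fun s => l s, fac := fun s i => hl s i.unop.down, uniq := fun s m hm =>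
    hom_ext N hN T fun i => (hm (op ⟨i⟩)).trans (hl s i).symm }⟩

include hN in
/-- **Factorisation.**  A morphism `A(⋃ Nᵢ)_S ×_S T ⟶ X` over `S`, with `T` affine and `X` locally of finite
presentation over `S`, comes from some `A(Nᵢ)_S ×_S T`. -/
theorem exists_factor [IsAffine T.left] {X : Over S} [LocallyOfFinitePresentation X.hom]
    (φ : AMonS S (⨆ i, N i : AddSubmonoid M) ⊗ T ⟶ X) :
    ∃ (i : J) (ψ : AMonS S (N i) ⊗ T ⟶ X), (AMonS.map S (AddSubmonoid.inclusion (le_iSup N i)) ▷ T) ≫ ψ = φ := by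
  obtain ⟨hlim⟩ := nonempty_isLimit_cn N hN T
  have hdir : IsDirectedOrder (ULift.{u} J) := ⟨fun i j => by
    obtain ⟨k, hik, hjk⟩ := exists_ge_ge i.down j.down
    exact ⟨⟨k⟩, hik, hjk⟩⟩
  have hcof : IsCofiltered (ULift.{u} J)ᵒᵖ := inferInstance
  have hconn : CategoryTheory.IsConnected (ULift.{u} J)ᵒᵖ := IsCofiltered.isConnected _
  have haff : ∀ i, IsAffine ((dg N hN T ⋙ Over.forget S).obj i) := fun i => K951.Prd.isAffine_prod _ T
  have hlim' := isLimitOfPreserves (Over.forget S) hlim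
  have hah : ∀ {i j : (ULift.{u} J)ᵒᵖ} (f : i ⟶ j), IsAffineHom ((dg N hN T ⋙ Over.forget S).map f) :=
    fun f => K949.Dominant.isAffineHom_map _ T
  let t : dg N hN T ⋙ Over.forget S ⟶ (Functor.const _).obj S :=
    { app := fun i => ((dg N hN T).obj i).hom
      naturality := fun i j f => by
        change ((dg N hN T).map f).left ≫ ((dg N hN T).obj j).hom = ((dg N hN T).obj i).hom ≫ 𝟙 _
        rw [Over.w, Category.comp_id] }
  obtain ⟨i, g, hg1, hg2⟩ := Scheme.exists_π_app_comp_eq_of_locallyOfFinitePresentation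
    (dg N hN T ⋙ Over.forget S) t X.hom ((Over.forget S).mapCone (cn N hN T)) hlim' φ.left (by
      ext i : 2
      change ((cn N hN T).π.app i).left ≫ ((dg N hN T).obj i).hom = φ.left ≫ X.hom
      rw [Over.w, Over.w]
      rfl)
  refine ⟨i.unop.down, Over.homMk g hg2, ?_⟩
  ext
  exact hg1

end K950.DirLim
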