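import Groth.Agent.Magnet.K950.HNbd
import Groth.Agent.AlgSp.K635.EtLift

/-!
# Extension of equivariant maps from `A(Q)_T` to `A(N)_T` along etale morphisms, `Q` a face of `N` with a height function
-/

set_option autoImplicit false

universe u

open CategoryTheory MonoidalCategory CartesianMonoidalCategory MonObj AlgebraicGeometry Opposite Limits

namespace K950.EtExt

open Magnet Magnet.MonAct K951.Pts K951.Prd K951.Coact K951.AttrAff K951.ClSub K950.HNbd K950.StabG K951.Stab

attribute [local instance] isAffine_source isAffine_tensor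

variable {S : Scheme.{u}} {M : Type} [AddCommGroup M] {N Q : AddSubmonoid M} (lam : N →+ ℕ) (T : Over S)
  [IsAffine T.left] (hQ : IsFace N Q) (hlam : ∀ n : N, lam n = 0 ↔ (n : M) ∈ Q)

include hQ hlam in
/-- **Uniqueness.**  Equivariant maps out of `A(N)_T` agreeing on all the neighbourhoods of `A(Q)_T` are equal. -/
theorem eq_of_forall_V [AddGroup.FG M] {X : Over S} (a : MonAct (AMonS S M) X) (p q : AMonS S N ⊗ T ⟶ X)
    (hp : IsEquivariant (rho N T) a p) (hq : IsEquivariant (rho N T) a q)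
    (h : ∀ k, Vι lam T k ≫ p = Vι lam T k ≫ q) : p = q := by
  obtain ⟨z, hz⟩ := exists_z lam T 0 hQ hlam
  have h0 : (AMonS.faceMap S hQ ▷ T) ≫ p = (AMonS.faceMap S hQ ▷ T) ≫ q := by
    rw [← hz, Category.assoc, Category.assoc, h 0]
  have hcl := isClosedImmersion_eqz a hQ p q hp hq h0
  have hker : (eqzι p q).left.ker ≤ (𝟙 (AMonS S N ⊗ T).left : _ ⟶ _).ker := by
    rw [K950.ClosedDescent.le_ker_iff_of_isAffine, Scheme.Hom.ker_apply]
    intro f hf
    have hf' : pb (eqzι p q) f = 0 := hf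
    have hf0 : f = 0 := by
      apply eq_zero_of_forall_mem lam T
      intro k
      rw [← pb_Vι_eq_zero_iff]
      obtain ⟨s, hs⟩ := exists_eqz p q (Vι lam T k) (h k)
      rw [← hs, pb_comp_apply, hf', map_zero]
    rw [hf0]
    exact Ideal.zero_mem _
  have hl := IsClosedImmersion.lift_fac (eqzι p q).left (𝟙 _) hker
  have hc : (eqzι p q).left ≫ p.left = (eqzι p q).left ≫ q.left :=
    congrArg CommaMorphism.left (eqzι_condition p q)
  ext1
  rw [← Category.id_comp p.left, ← Category.id_comp q.left, ← hl, Category.assoc, Category.assoc, hc]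

variable {X U : Over S} (aX : MonAct (AMonS S M) X) (aU : MonAct (AMonS S M) U) (f : U ⟶ X) [Etale f.left]

section Uniq

variable {aX aU f}

include hQ hlam in
/-- Uniqueness of the extension. -/
theorem eq_of_comp_eq [AddGroup.FG M] (φ φ' : AMonS S N ⊗ T ⟶ U)
    (hφ : IsEquivariant (rho N T) aU φ) (hφ' : IsEquivariant (rho N T) aU φ') (h1 : φ ≫ f = φ' ≫ f)
    (h2 : (AMonS.faceMap S hQ ▷ T) ≫ φ = (AMonS.faceMap S hQ ▷ T) ≫ φ') : φ = φ' := by
  refine eq_of_forall_V lam T hQ hlam aU φ φ' hφ hφ' fun k => ?_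
  obtain ⟨z, hz⟩ := exists_z lam T k hQ hlam
  obtain ⟨hz1, hz2⟩ := isThick_z lam T k hQ hlam z hz
  have key := K635.EtLift.over_existsUnique_lift f z ((AMonS.faceMap S hQ ▷ T) ≫ φ) (Vι lam T k ≫ φ ≫ f) (by
    rw [← hz, Category.assoc, Category.assoc])
  refine key.unique ⟨?_, ?_⟩ ⟨?_, ?_⟩
  · rw [← Category.assoc, hz]
  · rw [Category.assoc]
  · rw [← Category.assoc, hz, h2]
  · rw [Category.assoc, h1]

end Uniq

variable [IsAffineHom U.hom]

include hQ hlam in
/-- **Existence.**  Let `f : U ⟶ X` be etale and equivariant with `U` affine over `S`, `ψ : A(N)_T ⟶ X` and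
`v : A(Q)_T ⟶ U` equivariant with `f ∘ v = ψ` on `A(Q)_T`.  Then `v` extends to an equivariant `φ : A(N)_T ⟶ U` with
`f ∘ φ = ψ`. -/
theorem exists_ext [AddGroup.FG M] (hf : IsEquivariant aU aX f) (ψ : AMonS S N ⊗ T ⟶ X)
    (hψ : IsEquivariant (rho N T) aX ψ) (v : AMonS S Q ⊗ T ⟶ U)
    (hv : IsEquivariant (rho Q T) aU v) (hvψ : v ≫ f = (AMonS.faceMap S hQ ▷ T) ≫ ψ) :
    ∃ φ : AMonS S N ⊗ T ⟶ U, IsEquivariant (rho N T) aU φ ∧ φ ≫ f = ψ ∧ (AMonS.faceMap S hQ ▷ T) ≫ φ = v := by
  -- the lifts to the neighbourhoods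
  choose z hz using fun k => exists_z lam T k hQ hlam
  have hw : ∀ k, ∃! w : V lam T k ⟶ U, z k ≫ w = v ∧ w ≫ f = Vι lam T k ≫ ψ := by
    intro k
    obtain ⟨hz1, hz2⟩ := isThick_z lam T k hQ hlam (z k) (hz k)
    exact K635.EtLift.over_existsUnique_lift f (z k) v (Vι lam T k ≫ ψ) (by
      rw [hvψ, ← hz k, Category.assoc])
  choose w hw1 hw2 using hw
  -- compatibility
  have hcomp : ∀ {k l : ℕ} (hkl : k ≤ l) (t : V lam T k ⟶ V lam T l), t ≫ Vι lam T l = Vι lam T k →
      t ≫ w l = w k := by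
    intro k l hkl t ht
    apply hw2 k
    have hm := mono_Vι lam T l
    have e : z k ≫ t = z l := by
      rw [← cancel_mono (Vι lam T l), Category.assoc, ht, hz, hz]
    exact ⟨by rw [← Category.assoc, e, (hw1 l).1], by rw [Category.assoc, (hw1 l).2, ← Category.assoc, ht]⟩
  -- equivariance
  have heq : ∀ k, IsEquivariant (bk lam T k) aU (w k) := by
    intro k
    obtain ⟨hz1, hz2⟩ := isThick_z lam T k hQ hlam (z k) (hz k)
    have hm := mono_Vι lam T k
    have hi1 : IsClosedImmersion (AMonS S M ◁ z k).left :=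
      MorphismProperty.of_isPullback (P := @IsClosedImmersion) (isPullback_whiskerLeft_left (AMonS S M) (z k)) hz1
    have hi2 : Surjective (AMonS S M ◁ z k).left :=
      MorphismProperty.of_isPullback (P := @Surjective) (isPullback_whiskerLeft_left (AMonS S M) (z k)) hz2
    have hzeq : IsEquivariant (rho Q T) (bk lam T k) (z k) := by
      have hV := isEquivariant_Vι lam T k
      unfold IsEquivariant at hV ⊢
      rw [← cancel_mono (Vι lam T k), Category.assoc, Category.assoc, hz, hV,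
        ← MonoidalCategory.whiskerLeft_comp_assoc, hz]
      have hface := Magnet.isEquivariant_faceMapS S hQ
      apply hom_ext_lift₂
      intro W g y
      rw [lift_whiskerLeft_assoc, lift_rho, ← Category.assoc, lift_rho, lift_whiskerRight]
      conv_rhs => rw [← lift_comp_fst_snd y]
      rw [lift_whiskerRight, lift_fst, lift_snd]
      congr 1
      rw [isEquivariant_iff] at hface
      have h1 := hface W g (y ≫ fst _ _)
      rw [← Category.assoc] at h1
      have h2 : ∀ (P : AddSubmonoid M) (c : W ⟶ AMonS S P), lift g c ≫ (subAct S M P).act =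
          g ≫ AMonS.map S P.subtype * c := by
        intro P c
        change lift g c ≫ ((MonAct.regular _).restrict _).act = _
        rw [lift_restrict_act, lift_regular_act]
      rw [h2, h2] at h1
      exact h1
    have key := K635.EtLift.over_existsUnique_lift f (AMonS S M ◁ z k) ((AMonS S M ◁ v) ≫ aU.act)
      ((AMonS S M ◁ (w k ≫ f)) ≫ aX.act) (by
        rw [Category.assoc, hf, ← MonoidalCategory.whiskerLeft_comp_assoc, ← MonoidalCategory.whiskerLeft_comp_assoc,
          ← Category.assoc (z k), (hw1 k).1])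
    refine key.unique ⟨?_, ?_⟩ ⟨?_, ?_⟩
    · have h1 := hzeq
      unfold IsEquivariant at h1
      rw [← reassoc_of% h1, (hw1 k).1]
      exact hv
    · have h1 := isEquivariant_Vι lam T k
      unfold IsEquivariant at h1 hψ
      rw [Category.assoc, (hw1 k).2, reassoc_of% h1, hψ, ← MonoidalCategory.whiskerLeft_comp_assoc]
    · rw [← MonoidalCategory.whiskerLeft_comp_assoc, (hw1 k).1]
    · rw [Category.assoc, hf, ← MonoidalCategory.whiskerLeft_comp_assoc]
  -- the maps to `U × T`
  let W : ∀ k, V lam T k ⟶ U ⊗ T := fun k => lift (w k) (Vι lam T k ≫ snd _ _)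
  have hWeq : ∀ k, IsEquivariant (bk lam T k) (aT aU T) (W k) := by
    intro k
    have h1 := heq k
    have h2 := isEquivariant_Vι lam T k
    rw [isEquivariant_iff] at h1 h2 ⊢
    intro P g y
    simp only [W]
    rw [comp_lift, comp_lift, comp_lift, h1, lift_prod_act, lift_trivial_act]
    congr 1
    have h3 := congrArg (fun m => m ≫ snd _ _) (h2 P g y)
    rw [lift_rho, lift_snd] at h3
    simpa only [Category.assoc] using h3
  have hWt : ∀ {k l : ℕ} (hkl : k ≤ l) (t : V lam T k ⟶ V lam T l), t ≫ Vι lam T l = Vι lam T k →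
      t ≫ W l = W k := by
    intro k l hkl t ht
    simp only [W]
    rw [comp_lift, hcomp hkl t ht, ← Category.assoc, ht]
  -- homogeneous functions
  have hmon : ∀ (m : N) (b : Fn (U ⊗ T)), IsHomog (aT aU T) (m : M) b →
      ∃ r : Fn T, ∀ k, pb (W k) b = pb (Vι lam T k) (mon T m r) := by
    intro m b hb
    have h1 : ∀ k, ∃ r : Fn T, pb (W k) b = pb (Vι lam T k) (mon T m r) := fun k =>
      exists_mon lam T k (IsHomog.pb (hWeq k) hb)
    obtain ⟨r, hr⟩ := h1 (lam m)
    refine ⟨r, fun k => ?_⟩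
    rcases le_total k (lam m) with hk | hk
    · obtain ⟨t, ht⟩ := exists_trans lam T hk
      rw [← hWt hk t ht, pb_comp_apply, hr, ← pb_comp_apply, ht]
    · obtain ⟨t, ht⟩ := exists_trans lam T hk
      obtain ⟨r', hr'⟩ := h1 k
      have h2 : pb (Vι lam T (lam m)) (mon T m r') = pb (Vι lam T (lam m)) (mon T m r) := by
        rw [← hr, ← hWt hk t ht, pb_comp_apply, hr', ← pb_comp_apply, ht]
      have h3 : mon T m r' - mon T m r ∈ Ik lam T (lam m) := by
        rw [← pb_Vι_eq_zero_iff, map_sub, h2, sub_self]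
      have h4 := h3 m le_rfl
      have h5 : mon T m r' - mon T m r = mon T m (r' - r) := by
        rw [mon, mon, mon, ← map_sub, MonoidAlgebra.single_sub]
      rw [h5, cf_mon, sub_eq_zero] at h4
      rw [hr', h4]
  have hzero : ∀ (m : M) (_ : m ∉ N) (b : Fn (U ⊗ T)), IsHomog (aT aU T) m b → ∀ k, pb (W k) b = 0 :=
    fun m hm b hb k => eq_zero_of_not_mem lam T k hm (IsHomog.pb (hWeq k) hb)
  -- the ring map
  let io : MonoidAlgebra (Fn T) (Multiplicative N) →+* ∀ k, Fn (V lam T k) :=
    RingHom.pi fun k => (pb (Vι lam T k)).comp (gam T N)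
  have hio : Function.Injective io := by
    intro p q hpq
    apply (gam_bijective N T).1
    apply eq_of_pb_Vι lam T
    intro k
    exact congrFun hpq k
  let θ : Fn (U ⊗ T) →+* ∀ k, Fn (V lam T k) := RingHom.pi fun k => pb (W k)
  have hr : ∀ b, ∃ y, io y = θ b := by
    intro b
    refine homog_induction (aT aU T) (P := fun b => ∃ y, io y = θ b) ⟨0, by rw [map_zero, map_zero]⟩ ?_ ?_ b
    · rintro b c ⟨y, hy⟩ ⟨y', hy'⟩
      exact ⟨y + y', by rw [map_add, map_add, hy, hy']⟩
    · intro m b hb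
      by_cases hm : m ∈ N
      · obtain ⟨r, hr⟩ := hmon ⟨m, hm⟩ b hb
        exact ⟨MonoidAlgebra.single (Multiplicative.ofAdd ⟨m, hm⟩) r, funext fun k => (hr k).symm⟩
      · exact ⟨0, by rw [map_zero]; exact (funext fun k => (hzero m hm b hb k).symm)⟩
  obtain ⟨Ψ, hΨ⟩ := exists_lift_of_range_le io hio θ hr
  have hΨk : ∀ k b, pb (Vι lam T k) (gam T N (Ψ b)) = pb (W k) b := fun k b => congrFun (hΨ b) k
  have hbase : ((gam T N).comp Ψ).comp (pb (snd U T)) = pb (snd (AMonS S N) T) := by
    apply RingHom.ext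
    intro c
    apply eq_of_pb_Vι lam T
    intro k
    rw [RingHom.comp_apply, RingHom.comp_apply, hΨk, ← pb_comp_apply, ← pb_comp_apply, lift_snd]
  let Φ : AMonS S N ⊗ T ⟶ U ⊗ T := ofRing (snd U T) (snd (AMonS S N) T) ((gam T N).comp Ψ) hbase
  have hΦ : pb Φ = (gam T N).comp Ψ := pb_ofRing _ _ _ _
  have hΦV : ∀ k, Vι lam T k ≫ Φ = W k := by
    intro k
    apply hom_ext_pb
    apply RingHom.ext
    intro b
    rw [pb_comp_apply, hΦ, RingHom.comp_apply, hΨk]
  have hΦeq : IsEquivariant (rho N T) (aT aU T) Φ := by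
    apply isEquivariant_of_homog
    intro m b hb
    rw [hΦ, RingHom.comp_apply]
    by_cases hm : m ∈ N
    · obtain ⟨r, hr⟩ := hmon ⟨m, hm⟩ b hb
      have h1 : gam T N (Ψ b) = mon T ⟨m, hm⟩ r := by
        apply eq_of_pb_Vι lam T
        intro k
        rw [hΨk, hr]
      rw [h1]
      exact isHomog_gam_single N T ⟨m, hm⟩ _
    · have h1 : gam T N (Ψ b) = 0 := by
        apply eq_of_pb_Vι lam T
        intro k
        rw [hΨk, hzero m hm b hb, map_zero]
      rw [h1]
      exact isHomog_zero _ m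
  have hφeq : IsEquivariant (rho N T) aU (Φ ≫ fst U T) := hΦeq.comp (isEquivariant_prod_fst _ _)
  have hφV : ∀ k, Vι lam T k ≫ Φ ≫ fst U T = w k := by
    intro k
    rw [← Category.assoc, hΦV]
    exact lift_fst _ _
  refine ⟨Φ ≫ fst U T, hφeq, ?_, ?_⟩
  · refine eq_of_forall_V lam T hQ hlam aX _ _ (hφeq.comp hf) hψ fun k => ?_
    rw [← Category.assoc, hφV, (hw1 k).2]
  · rw [← hz 0, Category.assoc, hφV, (hw1 0).1]

end K950.EtExt
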