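import Groth.Agent.S18302
import Groth.Agent.S18289
import Groth.Agent.Magnet.K951.MemLoc

/-!
# Consequences of the etale base change square for attractors; lifting families to a fixed-point reflecting atlas
-/

set_option autoImplicit false

universe u

open CategoryTheory MonoidalCategory CartesianMonoidalCategory MonObj AlgebraicGeometry Opposite Limits

namespace K950.EtSq

open Magnet Magnet.MonAct

variable {S : Scheme.{u}} {M : Type} [AddCommGroup M] [AddGroup.FG M] {X U : Over S}
  {aX : MonAct (AMonS S M) X} {aU : MonAct (AMonS S M) U} [IsAffineHom U.hom] {f : U ⟶ X} [Etale f.left]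
  (hf : IsEquivariant aU aX f) {N Q : AddSubmonoid M} (hQ : IsFace N Q)

/-- The etale base change square (S18302), for actions of monoid objects. -/
theorem isPullback (h : N.FG ∨ (IsSeparated X.hom ∧ LocallyOfFinitePresentation X.hom)) :
    IsPullback (eqvHom.postcomp (subAct S M N) f hf) (attrFace aU hQ) (attrFace aX hQ)
      (eqvHom.postcomp (subAct S M Q) f hf) := by
  refine K950.ZarPull.isPullback_of_affine ?_ (K951.Shf.isSheaf_eqvHom _ _ _) (K951.Shf.isSheaf_eqvHom _ _ _)
    (K951.Shf.isSheaf_eqvHom _ _ _) ?_ ?_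
  · ext T φ
    apply Subtype.ext
    change (AMonS.faceMap S hQ ▷ unop T) ≫ φ.1 ≫ f = ((AMonS.faceMap S hQ ▷ unop T) ≫ φ.1) ≫ f
    rw [Category.assoc]
  · intro T hT φ φ' h1 h2
    rcases h with h | ⟨h, h'⟩
    · exact Groth.Agent.S18302.inj_fg hf hQ h T φ φ' (congrArg Subtype.val h1) (congrArg Subtype.val h2)
    · exact Groth.Agent.S18302.inj_lfp hf hQ T φ φ' (congrArg Subtype.val h1) (congrArg Subtype.val h2)
  · intro T hT ψ v hv
    have hv' : v.1 ≫ f = (AMonS.faceMap S hQ ▷ T) ≫ ψ.1 := (congrArg Subtype.val hv).symm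
    rcases h with h | ⟨h, h'⟩
    · obtain ⟨φ, h1, h2⟩ := Groth.Agent.S18302.surj_fg hf hQ h T ψ v hv'
      exact ⟨φ, Subtype.ext h1, Subtype.ext h2⟩
    · obtain ⟨φ, h1, h2⟩ := Groth.Agent.S18302.surj_lfp hf hQ T ψ v hv'
      exact ⟨φ, Subtype.ext h1, Subtype.ext h2⟩

section Fixed

omit [AddGroup.FG M]

/-- Families out of `A(Z)` for a subgroup `Z` are the points fixed by `D(M/Z)`. -/
theorem exists_attr_iso [AddGroup.FG M] (b : MonAct (AMonS S M) X) (Z : AddSubgroup M) :
    ∃ e : attr b Z.toAddSubmonoid ≅ fixedPsh (b.restrict (AMonS.map S (QuotientAddGroup.mk' Z))),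
      e.hom ≫ fixedPshι _ = attrToX b Z.toAddSubmonoid :=
  Groth.Agent.S18289.result S M Z X (MonAct.toAction (G := Red.DS S M) b)

theorem attrToX_injective_subgroup [AddGroup.FG M] (b : MonAct (AMonS S M) X) (Z : AddSubgroup M) (T : (Over S)ᵒᵖ) :
    Function.Injective ((attrToX b Z.toAddSubmonoid).app T) := by
  obtain ⟨e, he⟩ := exists_attr_iso b Z
  intro φ ψ h
  rw [← he] at h
  have h1 : (fixedPshι _).app T (e.hom.app T φ) = (fixedPshι _).app T (e.hom.app T ψ) := h
  have h2 : e.hom.app T φ = e.hom.app T ψ := Subtype.ext h1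
  have h3 : Function.Injective (e.hom.app T) := (ConcreteCategory.bijective_of_isIso (e.hom.app T)).1
  exact h3 h2

end Fixed

omit [AddGroup.FG M] [IsAffineHom U.hom] in
theorem attrToX_postcomp {aX : MonAct (AMonS S M) X} {aU : MonAct (AMonS S M) U} {f : U ⟶ X}
    (hf : IsEquivariant aU aX f) (P : AddSubmonoid M) (T : Over S) (u : (attr aU P).obj (op T)) :
    (attrToX aX P).app (op T) ((eqvHom.postcomp (subAct S M P) f hf).app (op T) u) =
      (attrToX aU P).app (op T) u ≫ f := by
  change lift _ _ ≫ u.1 ≫ f = (lift _ _ ≫ u.1) ≫ f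
  rw [Category.assoc]

theorem attrFace_map (b : MonAct (AMonS S M) X) {P P' : AddSubmonoid M} (hP : IsFace P P') {T T' : Over S}
    (t : T' ⟶ T) (x : (attr b P).obj (op T)) :
    (attrFace b hP).app (op T') ((attr b P).map t.op x) = (attr b P').map t.op ((attrFace b hP).app (op T) x) := by
  apply Subtype.ext
  change (AMonS.faceMap S hP ▷ T') ≫ (AMonS S P ◁ t) ≫ x.1 = (AMonS S P' ◁ t) ≫ (AMonS.faceMap S hP ▷ T) ≫ x.1
  rw [whisker_exchange_assoc]

theorem attrMap_map (b : MonAct (AMonS S M) X) {P P' : AddSubmonoid M} (hP : P ≤ P') {T T' : Over S}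
    (t : T' ⟶ T) (x : (attr b P).obj (op T)) :
    (attrMap b hP).app (op T') ((attr b P).map t.op x) = (attr b P').map t.op ((attrMap b hP).app (op T) x) := by
  apply Subtype.ext
  change (AMonS.map S (AddSubmonoid.inclusion hP) ▷ T') ≫ (AMonS S P ◁ t) ≫ x.1 =
    (AMonS S P' ◁ t) ≫ (AMonS.map S (AddSubmonoid.inclusion hP) ▷ T) ≫ x.1
  rw [whisker_exchange_assoc]

theorem attrToX_attrMap (b : MonAct (AMonS S M) X) {P P' : AddSubmonoid M} (hP : P ≤ P') {T : Over S}
    (x : (attr b P).obj (op T)) :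
    (attrToX b P').app (op T) ((attrMap b hP).app (op T) x) = (attrToX b P).app (op T) x := by
  change lift (toUnit T ≫ η[AMonS S P']) (𝟙 T) ≫ (AMonS.map S (AddSubmonoid.inclusion hP) ▷ T) ≫ x.1 =
    lift (toUnit T ≫ η[AMonS S P]) (𝟙 T) ≫ x.1
  rw [lift_whiskerRight_assoc, Category.assoc, IsMonHom.one_hom]

section FPR

variable {Z : AddSubgroup M}
  (hfZ : IsEquivariant (aU.restrict (AMonS.map S (QuotientAddGroup.mk' Z)))
    (aX.restrict (AMonS.map S (QuotientAddGroup.mk' Z))) f)
  (hfpr : IsPullback (fixedPsh.map f hfZ)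
    (fixedPshι (aU.restrict (AMonS.map S (QuotientAddGroup.mk' Z))))
    (fixedPshι (aX.restrict (AMonS.map S (QuotientAddGroup.mk' Z)))) (yoneda.map f))

include hfpr in
omit [IsAffineHom U.hom] [Etale f.left] in
/-- Over a fixed-point reflecting map, families out of `A(Z)` lift as soon as their unit points do. -/
theorem exists_lift_unit {T : Over S} (x : (attr aX Z.toAddSubmonoid).obj (op T)) (v : T ⟶ U)
    (hv : v ≫ f = (attrToX aX Z.toAddSubmonoid).app (op T) x) :
    ∃ u : (attr aU Z.toAddSubmonoid).obj (op T), (attrToX aU Z.toAddSubmonoid).app (op T) u = v ∧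
      (eqvHom.postcomp (subAct S M Z.toAddSubmonoid) f hf).app (op T) u = x := by
  obtain ⟨eX, heX⟩ := exists_attr_iso aX Z
  obtain ⟨eU, heU⟩ := exists_attr_iso aU Z
  have h1 : (fixedPshι (aX.restrict (AMonS.map S (QuotientAddGroup.mk' Z)))).app (op T) (eX.hom.app (op T) x) =
      (yoneda.map f).app (op T) v := by
    have := congrArg (fun k => k.app (op T) x) heX
    exact this.trans hv.symm
  obtain ⟨z, -, hz⟩ := (K951.Psh.exists_of_isPullback hfpr (op T)).2 _ _ h1
  refine ⟨eU.inv.app (op T) z, ?_, ?_⟩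
  · have h2 := congrArg (fun k => k.app (op T) (eU.inv.app (op T) z)) heU
    refine h2.symm.trans ?_
    have h3 : eU.hom.app (op T) (eU.inv.app (op T) z) = z := by
      have := congrArg (fun k => k.app (op T) z) eU.inv_hom_id
      exact this
    change (fixedPshι _).app (op T) (eU.hom.app (op T) (eU.inv.app (op T) z)) = v
    rw [h3]
    exact hz
  · apply attrToX_injective_subgroup aX Z (op T)
    rw [attrToX_postcomp]
    have h2 := congrArg (fun k => k.app (op T) (eU.inv.app (op T) z)) heU
    have h3 : eU.hom.app (op T) (eU.inv.app (op T) z) = z := by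
      have := congrArg (fun k => k.app (op T) z) eU.inv_hom_id
      exact this
    have h4 : (attrToX aU Z.toAddSubmonoid).app (op T) (eU.inv.app (op T) z) = v := by
      refine h2.symm.trans ?_
      change (fixedPshι _).app (op T) (eU.hom.app (op T) (eU.inv.app (op T) z)) = v
      rw [h3]
      exact hz
    rw [h4, hv]

end FPR

omit [AddGroup.FG M] in
/-- The subgroup of the units is a face. -/
theorem isFace_units {N : AddSubmonoid M} {Z : AddSubgroup M} (hZ : ∀ m : M, m ∈ Z ↔ (m ∈ N ∧ -m ∈ N)) :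
    IsFace N Z.toAddSubmonoid where
  le m hm := ((hZ m).1 hm).1
  mem_of_add_mem x hx y hy hxy := by
    have h1 : -(x + y) ∈ N := ((hZ _).1 hxy).2
    constructor
    · refine (hZ x).2 ⟨hx, ?_⟩
      have : -x = y + -(x + y) := by abel
      rw [this]
      exact N.add_mem hy h1
    · refine (hZ y).2 ⟨hy, ?_⟩
      have : -y = x + -(x + y) := by abel
      rw [this]
      exact N.add_mem hx h1

section Cover

variable [Surjective f.left] {Z : AddSubgroup M} (hZ : ∀ m : M, m ∈ Z ↔ (m ∈ N ∧ -m ∈ N))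
  (hfZ : IsEquivariant (aU.restrict (AMonS.map S (QuotientAddGroup.mk' Z)))
    (aX.restrict (AMonS.map S (QuotientAddGroup.mk' Z))) f)
  (hfpr : IsPullback (fixedPsh.map f hfZ)
    (fixedPshι (aU.restrict (AMonS.map S (QuotientAddGroup.mk' Z))))
    (fixedPshι (aX.restrict (AMonS.map S (QuotientAddGroup.mk' Z)))) (yoneda.map f))
  (h : N.FG ∨ (IsSeparated X.hom ∧ LocallyOfFinitePresentation X.hom))

include hZ hfpr h in
/-- **Families of `X^N` lift to `U^N` after an etale surjection**, for a fixed-point reflecting atlas. -/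
theorem exists_lift_cover (T : Over S) (x : (attr aX N).obj (op T)) :
    ∃ (T' : Over S) (t : T' ⟶ T) (u : (attr aU N).obj (op T')), Etale t.left ∧ Surjective t.left ∧
      (eqvHom.postcomp (subAct S M N) f hf).app (op T') u = (attr aX N).map t.op x := by
  have hQ := isFace_units hZ
  let x₀ : T ⟶ X := (attrToX aX Z.toAddSubmonoid).app (op T) ((attrFace aX hQ).app (op T) x)
  let T' : Over S := pullback x₀ f
  let t : T' ⟶ T := pullback.fst x₀ f
  let v : T' ⟶ U := pullback.snd x₀ f
  have hsq : IsPullback v.left t.left f.left x₀.left :=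
    ((IsPullback.of_hasPullback x₀ f).map (Over.forget S)).flip
  have ht1 : Etale t.left := MorphismProperty.of_isPullback (P := @Etale) hsq inferInstance
  have ht2 : Surjective t.left := MorphismProperty.of_isPullback (P := @Surjective) hsq inferInstance
  have hv : v ≫ f = (attrToX aX Z.toAddSubmonoid).app (op T')
      ((attr aX Z.toAddSubmonoid).map t.op ((attrFace aX hQ).app (op T) x)) := by
    rw [K951.MemLoc.attrToX_map]
    exact pullback.condition.symm
  obtain ⟨u₀, -, hu₀⟩ := exists_lift_unit hf hfZ hfpr _ v hv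
  have hnat := attrFace_map aX hQ t x
  obtain ⟨u, hu, -⟩ := (K951.Psh.exists_of_isPullback (isPullback hf hQ h) (op T')).2
    ((attr aX N).map t.op x) u₀ (by rw [hu₀, hnat])
  exact ⟨T', t, u, ht1, ht2, hu⟩

end Cover

end K950.EtSq
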