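import Groth.Agent.Magnet.K950.StabG
import Groth.Agent.Magnet.K950.AttrIdeal
import Groth.Agent.Magnet.K951.ClSub

/-!
# The neighbourhoods of `A(Q)_T` in `A(N)_T` defined by a height function `N → ℕ` vanishing exactly on the face `Q`
-/

set_option autoImplicit false

universe u

open CategoryTheory MonoidalCategory CartesianMonoidalCategory MonObj AlgebraicGeometry Opposite Limits

namespace K950.HNbd

open Magnet Magnet.MonAct K951.Pts K951.Prd K951.Coact K951.AttrAff K951.ClSub

section Mono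

variable {C : Type*} [Category C] [CartesianMonoidalCategory C] {A X Z : C} [MonObj A]

/-- An action restricts to a subobject through which it factors. -/
theorem exists_monAct_of_mono (a : MonAct A X) (i : Z ⟶ X) [Mono i] (k : A ⊗ Z ⟶ Z)
    (hk : k ≫ i = (A ◁ i) ≫ a.act) : ∃ b : MonAct A Z, b.act = k ∧ IsEquivariant b a i := by
  refine ⟨MonAct.mk' k ?_ ?_, rfl, hk⟩
  · intro T x
    rw [← cancel_mono i, Category.assoc, hk, lift_whiskerLeft_assoc, a.lift_one_act]
  · intro T g h x
    rw [← cancel_mono i, Category.assoc, Category.assoc, hk, lift_whiskerLeft_assoc, lift_whiskerLeft_assoc,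
      a.lift_mul_act, Category.assoc, hk, lift_whiskerLeft_assoc]

end Mono

variable {S : Scheme.{u}} {M : Type} [AddCommMonoid M] {N : AddSubmonoid M} (lam : N →+ ℕ) (T : Over S)
  [IsAffine T.left]

attribute [local instance] isAffine_source isAffine_tensor

/-- The coefficient of a function on `A(N)_T`. -/
noncomputable def cf (n : N) (f : Fn (AMonS S N ⊗ T)) : Fn T :=
  ((gamE T N).symm f).coeff (Multiplicative.ofAdd n)

/-- The monomial `r Xⁿ`. -/
noncomputable abbrev mon (n : N) (r : Fn T) : Fn (AMonS S N ⊗ T) :=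
  gam T N (MonoidAlgebra.single (Multiplicative.ofAdd n) r)

theorem cf_gam (n : N) (p : MonoidAlgebra (Fn T) (Multiplicative N)) :
    cf T n (gam T N p) = p.coeff (Multiplicative.ofAdd n) := by
  rw [cf, ← gamE_apply, RingEquiv.symm_apply_apply]

theorem cf_add (n : N) (f g : Fn (AMonS S N ⊗ T)) : cf T n (f + g) = cf T n f + cf T n g := by
  rw [cf, map_add]; rfl

theorem cf_zero (n : N) : cf T n (0 : Fn (AMonS S N ⊗ T)) = 0 := by
  rw [cf, map_zero]; rfl

theorem cf_mon (n : N) (r : Fn T) : cf T n (mon T n r) = r := by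
  rw [mon, cf_gam, MonoidAlgebra.coeff_single, Finsupp.single_eq_same]

theorem cf_mon_ne {n m : N} (h : n ≠ m) (r : Fn T) : cf T n (mon T m r) = 0 := by
  rw [mon, cf_gam, MonoidAlgebra.coeff_single, Finsupp.single_eq_of_ne]
  exact fun h' => h (Multiplicative.ofAdd.injective h')

theorem eq_sum (f : Fn (AMonS S N ⊗ T)) : f = ((gamE T N).symm f).coeff.sum fun n r =>
    mon T (Multiplicative.toAdd n) r := by
  conv_lhs => rw [← (gamE T N).apply_symm_apply f, ← MonoidAlgebra.sum_coeff_single ((gamE T N).symm f)]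
  rw [Finsupp.sum, map_sum]
  rfl

theorem eq_zero_of_cf (f : Fn (AMonS S N ⊗ T)) (h : ∀ n, cf T n f = 0) : f = 0 := by
  rw [eq_sum T f, Finsupp.sum]
  refine Finset.sum_eq_zero fun n _ => ?_
  have h1 : ((gamE T N).symm f).coeff n = 0 := h (Multiplicative.toAdd n)
  rw [h1, mon, MonoidAlgebra.single_zero, map_zero]

/-- Induction on functions on `A(N)_T` whose nonzero coefficients satisfy a condition. -/
theorem induction_cf {c : N → Prop} {P : Fn (AMonS S N ⊗ T) → Prop} (h0 : P 0) (hadd : ∀ f g, P f → P g → P (f + g))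
    (hm : ∀ n r, c n → P (mon T n r)) (f : Fn (AMonS S N ⊗ T)) (hf : ∀ n, cf T n f ≠ 0 → c n) : P f := by
  rw [eq_sum T f, Finsupp.sum]
  refine Finset.sum_induction _ _ hadd h0 fun n hn => hm _ _ (hf _ ?_)
  exact Finsupp.mem_support_iff.1 hn

theorem cf_mon_mul (n m : N) (r : Fn T) (f : Fn (AMonS S N ⊗ T)) (h : ∀ l, m + l = n → cf T l f = 0) :
    cf T n (mon T m r * f) = 0 := by
  classical
  refine induction_cf T (c := fun l => m + l ≠ n) (P := fun f => cf T n (mon T m r * f) = 0) ?_ ?_ ?_ f ?_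
  · rw [mul_zero, cf_zero]
  · intro f g hf hg
    rw [mul_add, cf_add, hf, hg, add_zero]
  · intro l s hl
    rw [mon, mon, ← map_mul, MonoidAlgebra.single_mul_single, ← ofAdd_add]
    exact cf_mon_ne T (Ne.symm hl) _
  · intro l hl h'
    exact hl (h l h')

variable (k : ℕ)

/-- The ideal of the functions whose coefficients of height `≤ k` vanish. -/
noncomputable def Ik : Ideal (Fn (AMonS S N ⊗ T)) where
  carrier := {f | ∀ n, lam n ≤ k → cf T n f = 0}
  add_mem' {f g} hf hg n hn := by rw [cf_add, hf n hn, hg n hn, add_zero]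
  zero_mem' n _ := cf_zero T n
  smul_mem' a f hf := by
    intro n hn
    refine induction_cf T (c := fun _ => True) (P := fun a => cf T n (a * f) = 0) ?_ ?_ ?_ a (fun _ _ => trivial)
    · rw [zero_mul, cf_zero]
    · intro a b ha hb
      rw [add_mul, cf_add, ha, hb, add_zero]
    · intro m r _
      refine cf_mon_mul T n m r f fun l hl => hf l ?_
      rw [← hl, map_add] at hn
      omega

theorem mem_Ik_iff (f : Fn (AMonS S N ⊗ T)) : f ∈ Ik lam T k ↔ ∀ n, lam n ≤ k → cf T n f = 0 := Iff.rfl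

theorem mon_mem_Ik {n : N} (hn : k < lam n) (r : Fn T) : mon T n r ∈ Ik lam T k := by
  intro m hm
  apply cf_mon_ne
  rintro rfl
  omega

theorem eq_zero_of_forall_mem (f : Fn (AMonS S N ⊗ T)) (h : ∀ k, f ∈ Ik lam T k) : f = 0 :=
  eq_zero_of_cf T f fun n => h (lam n) n le_rfl

/-- The `k`-th neighbourhood. -/
noncomputable abbrev V : Over S := cl (AMonS S N ⊗ T) (Ik lam T k)

/-- Its inclusion. -/
noncomputable abbrev Vι : V lam T k ⟶ AMonS S N ⊗ T := clι (AMonS S N ⊗ T) (Ik lam T k)

theorem isClosedImmersion_Vι : IsClosedImmersion (Vι lam T k).left := isClosedImmersion_clι _ _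

theorem mono_Vι : Mono (Vι lam T k) := by
  have := isClosedImmersion_Vι lam T k
  exact Over.mono_of_mono_left _

theorem pb_Vι_eq_zero_iff (f : Fn (AMonS S N ⊗ T)) : pb (Vι lam T k) f = 0 ↔ f ∈ Ik lam T k := by
  rw [pb_spι, map_eq_zero_iff _ (spE_bijective _ _).1, Ideal.Quotient.eq_zero_iff_mem]

theorem eq_of_pb_Vι {f g : Fn (AMonS S N ⊗ T)} (h : ∀ k, pb (Vι lam T k) f = pb (Vι lam T k) g) : f = g := by
  rw [← sub_eq_zero]
  apply eq_zero_of_forall_mem lam T
  intro k
  rw [← pb_Vι_eq_zero_iff, map_sub, h k, sub_self]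

omit [IsAffine T.left] in
theorem pb_mon {W : Over S} (w : W ⟶ AMonS S N ⊗ T) (n : N) (r : Fn T) :
    pb w (mon T n r) = pb (w ≫ snd _ _) r * chi (w ≫ fst _ _) (Multiplicative.ofAdd n) := by
  rw [← lift_comp_fst_snd w, mon, pb_lift_gam_apply, evl_single, lift_fst, lift_snd]

/-- The points of the neighbourhood: the monomials of height `> k` vanish. -/
theorem factor_iff {W : Over S} (w : W ⟶ AMonS S N ⊗ T) :
    (∃ z : W ⟶ V lam T k, z ≫ Vι lam T k = w) ↔ ∀ n, k < lam n → chi (w ≫ fst _ _) (Multiplicative.ofAdd n) = 0 := by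
  rw [exists_factor_cl_iff]
  constructor
  · intro h n hn
    have h1 := h _ (mon_mem_Ik lam T k hn 1)
    rw [pb_mon, map_one, _root_.one_mul] at h1
    exact h1
  · intro h f hf
    refine induction_cf T (c := fun n => k < lam n) (P := fun f => pb w f = 0) (map_zero _) ?_ ?_ f ?_
    · intro f g hf hg
      rw [map_add, hf, hg, add_zero]
    · intro n r hn
      rw [pb_mon, h n hn, mul_zero]
    · intro n hn
      by_contra h'
      exact hn (hf n (not_lt.1 h'))

omit [IsAffine T.left] in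
theorem lift_rho {W : Over S} (g : W ⟶ AMonS S M) (w : W ⟶ AMonS S N ⊗ T) :
    lift g w ≫ (rho N T).act = lift (g ≫ AMonS.map S N.subtype * (w ≫ fst _ _)) (w ≫ snd _ _) := by
  conv_lhs => rw [← lift_comp_fst_snd w]
  rw [lift_prod_act, lift_trivial_act]
  congr 1
  change lift g _ ≫ ((MonAct.regular _).restrict _).act = _
  rw [lift_restrict_act, lift_regular_act]

/-- The action on the neighbourhood. -/
theorem exists_act : ∃ b : MonAct (AMonS S M) (V lam T k), IsEquivariant b (rho N T) (Vι lam T k) := by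
  have := mono_Vι lam T k
  obtain ⟨z, hz⟩ := (factor_iff lam T k ((AMonS S M ◁ Vι lam T k) ≫ (rho N T).act)).2 (by
    intro n hn
    have h1 : (AMonS S M ◁ Vι lam T k) = lift (fst _ _) (snd _ _ ≫ Vι lam T k) := by
      apply CartesianMonoidalCategory.hom_ext <;> simp
    have h2 := (factor_iff lam T k (snd (AMonS S M) (V lam T k) ≫ Vι lam T k)).1 ⟨_, rfl⟩ n hn
    rw [h1, lift_rho, lift_fst, chi_mul, MonoidHom.mul_apply, h2, mul_zero])
  obtain ⟨b, -, hb⟩ := exists_monAct_of_mono (rho N T) (Vι lam T k) z hz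
  exact ⟨b, hb⟩

/-- The chosen action. -/
noncomputable def bk : MonAct (AMonS S M) (V lam T k) := (exists_act lam T k).choose

theorem isEquivariant_Vι : IsEquivariant (bk lam T k) (rho N T) (Vι lam T k) := (exists_act lam T k).choose_spec

/-- The transition maps. -/
theorem exists_trans {k l : ℕ} (h : k ≤ l) : ∃ t : V lam T k ⟶ V lam T l, t ≫ Vι lam T l = Vι lam T k := by
  rw [factor_iff]
  intro n hn
  have h2 := (factor_iff lam T k (Vι lam T k)).1 ⟨𝟙 _, Category.id_comp _⟩ n (h.trans_lt hn)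
  exact h2

/-- **Homogeneous functions on a neighbourhood are monomials.** -/
theorem exists_mon {m : N} {β : Fn (V lam T k)} (hβ : IsHomog (bk lam T k) (m : M) β) :
    ∃ r : Fn T, β = pb (Vι lam T k) (mon T m r) := by
  have hc := isClosedImmersion_Vι lam T k
  obtain ⟨p, rfl⟩ := K950.AttrIdeal.pb_surjective (Vι lam T k) β
  have h1 := K950.AttrIdeal.cmp_pb (isEquivariant_Vι lam T k) (m : M) p
  rw [cmp_of_isHomog _ hβ] at h1
  obtain ⟨r, hr⟩ := exists_single_of_isHomog N T (isHomog_cmp (rho N T) (m : M) p)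
  exact ⟨r, by rw [h1, hr]⟩

theorem eq_zero_of_not_mem {m : M} (hm : m ∉ N) {β : Fn (V lam T k)} (hβ : IsHomog (bk lam T k) m β) : β = 0 := by
  have hc := isClosedImmersion_Vι lam T k
  obtain ⟨p, rfl⟩ := K950.AttrIdeal.pb_surjective (Vι lam T k) β
  have h1 := K950.AttrIdeal.cmp_pb (isEquivariant_Vι lam T k) m p
  rw [cmp_of_isHomog _ hβ] at h1
  rw [h1, eq_zero_of_isHomog N T hm (isHomog_cmp (rho N T) m p), map_zero]

section Face

variable {Q : AddSubmonoid M} (hQ : IsFace N Q)

omit [IsAffine T.left] in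
theorem faceMap_section : (AMonS.faceMap S hQ ▷ T) ≫ (AMonS.map S (AddSubmonoid.inclusion hQ.le) ▷ T) = 𝟙 _ := by
  rw [← comp_whiskerRight, AMonS.faceMap_comp_map, id_whiskerRight]

omit [IsAffine T.left] in
theorem isClosedImmersion_faceMap : IsClosedImmersion (AMonS.faceMap S hQ ▷ T).left := by
  have h1 := congrArg CommaMorphism.left (faceMap_section T hQ)
  have h1' : (AMonS.faceMap S hQ ▷ T).left ≫ (AMonS.map S (AddSubmonoid.inclusion hQ.le) ▷ T).left = 𝟙 _ := h1
  have h2 := K949.Dominant.isAffineHom_map (S := S) (AddSubmonoid.inclusion hQ.le) T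
  have h3 : IsClosedImmersion ((AMonS.faceMap S hQ ▷ T).left ≫
      (AMonS.map S (AddSubmonoid.inclusion hQ.le) ▷ T).left) := by
    rw [h1']
    infer_instance
  exact IsClosedImmersion.of_comp _ (AMonS.map S (AddSubmonoid.inclusion hQ.le) ▷ T).left

omit [IsAffine T.left] in
/-- A point of `A(N)` killing the monomials outside the face comes from the face. -/
theorem factor_faceMap {W : Over S} (w : W ⟶ AMonS S N)
    (h : ∀ n : N, (n : M) ∉ Q → chi w (Multiplicative.ofAdd n) = 0) :
    (w ≫ AMonS.map S (AddSubmonoid.inclusion hQ.le)) ≫ AMonS.faceMap S hQ = w := by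
  classical
  apply chi_injective
  refine MonoidHom.ext fun n => ?_
  have h2 := chi_faceMap hQ (w ≫ AMonS.map S (AddSubmonoid.inclusion hQ.le)) (Multiplicative.toAdd n)
  rw [ofAdd_toAdd] at h2
  rw [h2]
  by_cases hn : ((Multiplicative.toAdd n : N) : M) ∈ Q
  · rw [dif_pos hn, chi_map_apply]
    rfl
  · rw [dif_neg hn]
    exact (h (Multiplicative.toAdd n) hn).symm

variable (hlam : ∀ n : N, lam n = 0 ↔ (n : M) ∈ Q)

include hlam in
theorem exists_z : ∃ z : AMonS S Q ⊗ T ⟶ V lam T k, z ≫ Vι lam T k = AMonS.faceMap S hQ ▷ T := by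
  classical
  rw [factor_iff]
  intro n hn
  rw [whiskerRight_fst, chi_faceMap, dif_neg]
  rw [← hlam]
  omega

include hlam in
theorem isThick_z (z : AMonS S Q ⊗ T ⟶ V lam T k) (hz : z ≫ Vι lam T k = AMonS.faceMap S hQ ▷ T) :
    IsClosedImmersion z.left ∧ Surjective z.left := by
  have hc := isClosedImmersion_Vι lam T k
  have hm := mono_Vι lam T k
  constructor
  · have h1 : z.left ≫ (Vι lam T k).left = (AMonS.faceMap S hQ ▷ T).left := congrArg CommaMorphism.left hz
    have h2 : IsClosedImmersion (z.left ≫ (Vι lam T k).left) := by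
      rw [h1]
      exact isClosedImmersion_faceMap T hQ
    exact IsClosedImmersion.of_comp _ (Vι lam T k).left
  · refine ⟨fun y => ?_⟩
    let W := K951.Stab.resOver (V lam T k) y
    let v : W ⟶ V lam T k := K951.Stab.resMap (V lam T k) y
    obtain ⟨pt, hpt⟩ : y ∈ Set.range v.left := by
      change _ ∈ Set.range ((V lam T k).left.fromSpecResidueField _)
      rw [Scheme.range_fromSpecResidueField]
      rfl
    have hdom : IsDomain Γ(W.left, ⊤) := by
      change IsDomain Γ(Spec ((V lam T k).left.residueField y), ⊤)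
      infer_instance
    have h1 : ∀ n : N, (n : M) ∉ Q → chi ((v ≫ Vι lam T k) ≫ fst _ _) (Multiplicative.ofAdd n) = 0 := by
      intro n hn
      have h2 := (factor_iff lam T k (v ≫ Vι lam T k)).1 ⟨v, rfl⟩ ((k + 1) • n) (by
        have h3 : lam n ≠ 0 := fun h => hn ((hlam n).1 h)
        rw [map_nsmul, smul_eq_mul]
        have : 1 ≤ lam n := Nat.one_le_iff_ne_zero.2 h3
        nlinarith)
      rw [ofAdd_nsmul, map_pow] at h2
      exact pow_eq_zero_iff (Nat.succ_ne_zero k) |>.1 h2
    have h4 := factor_faceMap hQ _ h1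
    have h5 : lift (((v ≫ Vι lam T k) ≫ fst _ _) ≫ AMonS.map S (AddSubmonoid.inclusion hQ.le))
        ((v ≫ Vι lam T k) ≫ snd _ _) ≫ z = v := by
      rw [← cancel_mono (Vι lam T k), Category.assoc, hz, lift_whiskerRight, h4, lift_comp_fst_snd]
    rw [← hpt, ← h5]
    exact ⟨_, rfl⟩

end Face

end K950.HNbd
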