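import Groth.Agent.Magnet.K951.FacePush
import Groth.Agent.Magnet.K950.HNbd

/-!
# Ferrand pushouts of affine objects over `S` and actions of `A(M)_S` on them
-/

set_option autoImplicit false

universe u

open CategoryTheory MonoidalCategory CartesianMonoidalCategory MonObj AlgebraicGeometry Opposite Limits

namespace K950.Ferr

open Magnet Magnet.MonAct K951.Pts K951.Prd K951.Coact K951.AttrAff K951.FacePush K951.ClSub

/-- Cartesian squares of commutative rings, on elements. -/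
theorem isPullback_ring {A A' B C : Type u} [CommRing A] [CommRing A'] [CommRing B] [CommRing C]
    (α : B →+* A') (β : B →+* C) (p : A' →+* A) (q : C →+* A) (hw : p.comp α = q.comp β)
    (hinj : ∀ b b', α b = α b' → β b = β b' → b = b') (h : ∀ a c, p a = q c → ∃ b, α b = a ∧ β b = c) :
    IsPullback (CommRingCat.ofHom β) (CommRingCat.ofHom α) (CommRingCat.ofHom q) (CommRingCat.ofHom p) := by
  have hs : ∀ s : PullbackCone (CommRingCat.ofHom q) (CommRingCat.ofHom p), ∀ x : s.pt,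
      p (s.snd.hom x) = q (s.fst.hom x) := fun s x => congr($(s.condition).hom x).symm
  let io : B →+* A' × C := α.prod β
  have hio : Function.Injective io := fun b b' hb => hinj b b' (congrArg Prod.fst hb) (congrArg Prod.snd hb)
  have h1 : ∀ s : PullbackCone (CommRingCat.ofHom q) (CommRingCat.ofHom p), ∃ ψ : s.pt →+* B,
      ∀ x, io (ψ x) = (s.snd.hom x, s.fst.hom x) := fun s =>
    exists_lift_of_range_le io hio (s.snd.hom.prod s.fst.hom) fun x => by
      obtain ⟨b, hb, hb'⟩ := h _ _ (hs s x)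
      exact ⟨b, Prod.ext hb hb'⟩
  choose ψ hψ using h1
  refine ⟨⟨?_⟩, ⟨PullbackCone.IsLimit.mk _ (fun s => CommRingCat.ofHom (ψ s)) ?_ ?_ ?_⟩⟩
  · ext x
    exact congr($hw.symm x)
  · intro s
    ext x
    exact congrArg Prod.snd (hψ s x)
  · intro s
    ext x
    exact congrArg Prod.fst (hψ s x)
  · intro s m h1 h2
    ext x
    apply hio
    rw [← RingHom.comp_apply]
    refine Eq.trans ?_ (hψ s x).symm
    exact Prod.ext congr($(h2).hom x) congr($(h1).hom x)

variable {S : Scheme.{u}}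

/-- A commutative square of affine objects over `S` that is cartesian on functions, with `Y₀ ⟶ Y₂` a closed
immersion: `P` is obtained from `Y₂` by pinching `Y₀` along `Y₀ ⟶ Y₁`. -/
structure IsFerr {Y₀ Y₁ Y₂ P : Over S} (p : Y₀ ⟶ Y₁) (q : Y₀ ⟶ Y₂) (i : Y₁ ⟶ P) (j : Y₂ ⟶ P) : Prop where
  w : p ≫ i = q ≫ j
  aff₀ : IsAffine Y₀.left
  aff₁ : IsAffine Y₁.left
  aff₂ : IsAffine Y₂.left
  aff : IsAffine P.left
  surj : Function.Surjective (pb q)
  inj : ∀ f g : Fn P, pb i f = pb i g → pb j f = pb j g → f = g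
  glue : ∀ (f : Fn Y₁) (g : Fn Y₂), pb p f = pb q g → ∃ h, pb i h = f ∧ pb j h = g

theorem isPushout_of_affine {Y₀ Y₁ Y₂ P : Scheme.{u}} [IsAffine Y₀] [IsAffine Y₁] [IsAffine Y₂] [IsAffine P]
    (p : Y₀ ⟶ Y₁) (q : Y₀ ⟶ Y₂) (i : Y₁ ⟶ P) (j : Y₂ ⟶ P)
    (h : IsPushout (Spec.map p.appTop) (Spec.map q.appTop) (Spec.map i.appTop) (Spec.map j.appTop)) :
    IsPushout p q i j :=
  IsPushout.of_iso h Y₀.isoSpec.symm Y₁.isoSpec.symm Y₂.isoSpec.symm P.isoSpec.symm
    (Scheme.isoSpec_inv_naturality p) (Scheme.isoSpec_inv_naturality q) (Scheme.isoSpec_inv_naturality i)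
    (Scheme.isoSpec_inv_naturality j)

/-- **Ferrand squares are pushouts.** -/
theorem IsFerr.isPushout {Y₀ Y₁ Y₂ P : Over S} {p : Y₀ ⟶ Y₁} {q : Y₀ ⟶ Y₂} {i : Y₁ ⟶ P} {j : Y₂ ⟶ P}
    (h : IsFerr p q i j) : IsPushout p q i j := by
  have h0 := h.aff₀
  have h1 := h.aff₁
  have h2 := h.aff₂
  have h3 := h.aff
  have hw : (pb q).comp (pb j) = (pb p).comp (pb i) := by rw [← pb_comp, ← pb_comp, h.w]
  have h4 := isPushout_Spec_of_isPullback h.surj (isPullback_ring (pb j) (pb i) (pb q) (pb p) hw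
    (fun b b' e1 e2 => h.inj b b' e2 e1) (fun a c e => by
      obtain ⟨b, hb1, hb2⟩ := h.glue c a e.symm
      exact ⟨b, hb2, hb1⟩))
  have h5 : IsPushout q.left p.left j.left i.left := isPushout_of_affine q.left p.left j.left i.left h4
  exact (IsPushout.of_map (Over.forget S) h.w.symm h5).flip

section Whisker

variable {M : Type} [AddCommMonoid M]

theorem isAffine_amon (Y : Over S) [IsAffine Y.left] : IsAffine (AMonS S M ⊗ Y).left := K951.Prd.isAffine_prod _ Y

theorem pb_whiskerLeft_gam {Y Y' : Over S} (f : Y ⟶ Y') (p : MonoidAlgebra (Fn Y') (Multiplicative M)) :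
    pb (AMonS S M ◁ f) (gam Y' M p) = gam Y M (MonoidAlgebra.mapRingHom (Multiplicative M) (pb f) p) := by
  have e : AMonS S M ◁ f = lift (fst _ _) (snd _ _ ≫ f) := by
    apply CartesianMonoidalCategory.hom_ext <;> simp
  rw [e, pb_lift_gam_apply, gam]
  have h1 : evl (N := M) (fst (AMonS S M) Y) (snd (AMonS S M) Y ≫ f) =
      (evl (fst (AMonS S M) Y) (snd (AMonS S M) Y)).comp (MonoidAlgebra.mapRingHom (Multiplicative M) (pb f)) := by
    apply MonoidAlgebra.ringHom_ext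
    · intro b
      rw [evl_single, RingHom.comp_apply, MonoidAlgebra.mapRingHom_single, evl_single, pb_comp_apply]
    · intro n
      rw [evl_single, RingHom.comp_apply, MonoidAlgebra.mapRingHom_single, evl_single, pb_comp_apply]
  rw [h1]
  rfl

/-- Ferrand squares are preserved by `A(M)_S ×_S -`. -/
theorem IsFerr.whisker {Y₀ Y₁ Y₂ P : Over S} {p : Y₀ ⟶ Y₁} {q : Y₀ ⟶ Y₂} {i : Y₁ ⟶ P} {j : Y₂ ⟶ P}
    (h : IsFerr p q i j) (M : Type) [AddCommMonoid M] :
    IsFerr (AMonS S M ◁ p) (AMonS S M ◁ q) (AMonS S M ◁ i) (AMonS S M ◁ j) := by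
  classical
  have h0 := h.aff₀
  have h1 := h.aff₁
  have h2 := h.aff₂
  have h3 := h.aff
  refine ⟨?_, isAffine_amon _, isAffine_amon _, isAffine_amon _, isAffine_amon _, ?_, ?_, ?_⟩
  · rw [← MonoidalCategory.whiskerLeft_comp, ← MonoidalCategory.whiskerLeft_comp, h.w]
  · intro f
    obtain ⟨r, rfl⟩ := (gam_bijective M Y₀).2 f
    induction r using MonoidAlgebra.induction_linear with
    | zero => exact ⟨0, by rw [map_zero, map_zero]⟩
    | add a b ha hb =>
      obtain ⟨a', ha'⟩ := ha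
      obtain ⟨b', hb'⟩ := hb
      exact ⟨a' + b', by rw [map_add, map_add, ha', hb']⟩
    | single m r =>
      obtain ⟨s, rfl⟩ := h.surj r
      exact ⟨gam Y₂ M (MonoidAlgebra.single m s), by rw [pb_whiskerLeft_gam, MonoidAlgebra.mapRingHom_single]⟩
  · intro f g e1 e2
    obtain ⟨r, rfl⟩ := (gam_bijective M P).2 f
    obtain ⟨s, rfl⟩ := (gam_bijective M P).2 g
    rw [pb_whiskerLeft_gam, pb_whiskerLeft_gam] at e1 e2
    have e1' := (gam_bijective M Y₁).1 e1
    have e2' := (gam_bijective M Y₂).1 e2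
    congr 1
    apply MonoidAlgebra.coeff_injective
    ext m
    apply h.inj
    · have := congrArg (fun r => r.coeff m) e1'
      simpa only [MonoidAlgebra.coeff_mapRingHom] using this
    · have := congrArg (fun r => r.coeff m) e2'
      simpa only [MonoidAlgebra.coeff_mapRingHom] using this
  · intro f g e
    obtain ⟨r, rfl⟩ := (gam_bijective M Y₁).2 f
    obtain ⟨s, rfl⟩ := (gam_bijective M Y₂).2 g
    rw [pb_whiskerLeft_gam, pb_whiskerLeft_gam] at e
    have e' := (gam_bijective M Y₀).1 e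
    have hc : ∀ m, ∃ c, pb i c = r.coeff m ∧ pb j c = s.coeff m ∧ (r.coeff m = 0 → s.coeff m = 0 → c = 0) := by
      intro m
      obtain ⟨c, hc1, hc2⟩ := h.glue (r.coeff m) (s.coeff m) (by
        have := congrArg (fun r => r.coeff m) e'
        simpa only [MonoidAlgebra.coeff_mapRingHom] using this)
      refine ⟨c, hc1, hc2, fun h1 h2 => ?_⟩
      apply h.inj
      · rw [hc1, h1, map_zero]
      · rw [hc2, h2, map_zero]
    choose c hc1 hc2 hc3 using hc
    let t : Multiplicative M →₀ Fn P := Finsupp.onFinset (r.coeff.support ∪ s.coeff.support) c (by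
      intro m hm
      rw [Finset.mem_union, Finsupp.mem_support_iff, Finsupp.mem_support_iff]
      by_contra h'
      push Not at h'
      exact hm (hc3 m h'.1 h'.2))
    refine ⟨gam P M (MonoidAlgebra.ofCoeff t), ?_, ?_⟩
    · rw [pb_whiskerLeft_gam]
      congr 1
      apply MonoidAlgebra.coeff_injective
      ext m
      rw [MonoidAlgebra.coeff_mapRingHom]
      exact hc1 m
    · rw [pb_whiskerLeft_gam]
      congr 1
      apply MonoidAlgebra.coeff_injective
      ext m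
      rw [MonoidAlgebra.coeff_mapRingHom]
      exact hc2 m

end Whisker

/-- **Existence of Ferrand squares.** -/
theorem exists_ferr {Y₀ Y₁ Y₂ : Over S} [IsAffine Y₀.left] [IsAffine Y₁.left] [IsAffine Y₂.left] (p : Y₀ ⟶ Y₁)
    (q : Y₀ ⟶ Y₂) (hq : Function.Surjective (pb q)) :
    ∃ (P : Over S) (i : Y₁ ⟶ P) (j : Y₂ ⟶ P), IsFerr p q i j := by
  let C : Subring (Fn Y₁ × Fn Y₂) :=
    RingHom.eqLocus ((pb p).comp (RingHom.fst (Fn Y₁) (Fn Y₂))) ((pb q).comp (RingHom.snd (Fn Y₁) (Fn Y₂)))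
  let β : C →+* Fn Y₁ := (RingHom.fst (Fn Y₁) (Fn Y₂)).comp C.subtype
  let α : C →+* Fn Y₂ := (RingHom.snd (Fn Y₁) (Fn Y₂)).comp C.subtype
  let P₀ : Scheme.{u} := Spec (CommRingCat.of C)
  let i₀ : Y₁.left ⟶ P₀ := toS (B := C) β
  let j₀ : Y₂.left ⟶ P₀ := toS (B := C) α
  let ε : C →+* Γ(P₀, ⊤) := (Scheme.ΓSpecIso (CommRingCat.of C)).inv.hom
  have hε : Function.Bijective ε := ConcreteCategory.bijective_of_isIso (Scheme.ΓSpecIso (CommRingCat.of C)).inv
  have hi : ∀ c, i₀.appTop.hom (ε c) = β c := fun c => congr($(fnS_toS (B := C) β) c)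
  have hj : ∀ c, j₀.appTop.hom (ε c) = α c := fun c => congr($(fnS_toS (B := C) α) c)
  have hw₀ : p.left ≫ i₀ = q.left ≫ j₀ := by
    apply ext_of_isAffine
    ext1
    apply RingHom.ext
    intro x
    obtain ⟨c, rfl⟩ := hε.2 x
    rw [Scheme.Hom.comp_appTop, Scheme.Hom.comp_appTop, CommRingCat.hom_comp, CommRingCat.hom_comp,
      RingHom.comp_apply, RingHom.comp_apply, hi, hj]
    exact c.2
  have hpo : IsPushout q.left p.left j₀ i₀ := by
    refine isPushout_of_affine q.left p.left j₀ i₀ ?_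
    refine isPushout_Spec_of_isPullback hq (isPullback_ring (j₀.appTop.hom) (i₀.appTop.hom) (pb q) (pb p) ?_ ?_ ?_)
    · have := congrArg (fun f => f.appTop.hom) hw₀
      simp only [Scheme.Hom.comp_appTop, CommRingCat.hom_comp] at this
      exact this.symm
    · intro b b' e1 e2
      obtain ⟨c, rfl⟩ := hε.2 b
      obtain ⟨c', rfl⟩ := hε.2 b'
      rw [hi, hi] at e2
      rw [hj, hj] at e1
      congr 1
      exact Subtype.ext (Prod.ext e2 e1)
    · intro a c e
      refine ⟨ε ⟨(c, a), e.symm⟩, ?_, ?_⟩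
      · rw [hj]; rfl
      · rw [hi]; rfl
  have hh : q.left ≫ Y₂.hom = p.left ≫ Y₁.hom := by rw [Over.w, Over.w]
  let P : Over S := Over.mk (hpo.desc Y₂.hom Y₁.hom hh)
  let i : Y₁ ⟶ P := Over.homMk i₀ (hpo.inr_desc _ _ _)
  let j : Y₂ ⟶ P := Over.homMk j₀ (hpo.inl_desc _ _ _)
  refine ⟨P, i, j, ⟨?_, ‹_›, ‹_›, ‹_›, inferInstanceAs (IsAffine P₀), hq, ?_, ?_⟩⟩
  · ext1
    exact hw₀
  · intro b b' e1 e2
    obtain ⟨c, rfl⟩ := hε.2 b
    obtain ⟨c', rfl⟩ := hε.2 b'
    have e1' : β c = β c' := (hi c).symm.trans (e1.trans (hi c'))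
    have e2' : α c = α c' := (hj c).symm.trans (e2.trans (hj c'))
    congr 1
    exact Subtype.ext (Prod.ext e1' e2')
  · intro f g e
    exact ⟨ε ⟨(f, g), e⟩, hi _, hj _⟩

section Action

variable {M : Type} [AddCommMonoid M] {Y₀ Y₁ Y₂ P : Over S} {p : Y₀ ⟶ Y₁} {q : Y₀ ⟶ Y₂} {i : Y₁ ⟶ P} {j : Y₂ ⟶ P}
  {a₀ : MonAct (AMonS S M) Y₀} {a₁ : MonAct (AMonS S M) Y₁} {a₂ : MonAct (AMonS S M) Y₂}

/-- **Actions on Ferrand pushouts.** -/
theorem IsFerr.exists_action (h : IsFerr p q i j) (hp : IsEquivariant a₀ a₁ p) (hq : IsEquivariant a₀ a₂ q) :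
    ∃ aP : MonAct (AMonS S M) P, IsEquivariant a₁ aP i ∧ IsEquivariant a₂ aP j := by
  have hpo := h.isPushout
  have hpo1 := (h.whisker M).isPushout
  have hpo2 := ((h.whisker M).whisker M).isPushout
  have hw : (AMonS S M ◁ p) ≫ a₁.act ≫ i = (AMonS S M ◁ q) ≫ a₂.act ≫ j := by
    unfold IsEquivariant at hp hq
    rw [← reassoc_of% hp, ← reassoc_of% hq, h.w]
  let k : AMonS S M ⊗ P ⟶ P := hpo1.desc (a₁.act ≫ i) (a₂.act ≫ j) hw
  have hk1 : (AMonS S M ◁ i) ≫ k = a₁.act ≫ i := hpo1.inl_desc _ _ _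
  have hk2 : (AMonS S M ◁ j) ≫ k = a₂.act ≫ j := hpo1.inr_desc _ _ _
  have hk1' : ∀ {T : Over S} (g : T ⟶ AMonS S M) (y : T ⟶ Y₁), lift g (y ≫ i) ≫ k = lift g y ≫ a₁.act ≫ i := by
    intro T g y
    rw [← hk1, lift_whiskerLeft_assoc]
  have hk2' : ∀ {T : Over S} (g : T ⟶ AMonS S M) (y : T ⟶ Y₂), lift g (y ≫ j) ≫ k = lift g y ≫ a₂.act ≫ j := by
    intro T g y
    rw [← hk2, lift_whiskerLeft_assoc]
  have hone : lift (1 : P ⟶ AMonS S M) (𝟙 P) ≫ k = 𝟙 P := by
    apply hpo.hom_ext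
    · rw [comp_lift_assoc, Category.comp_id, MonObj.comp_one]
      have := hk1' (1 : Y₁ ⟶ AMonS S M) (𝟙 Y₁)
      rw [Category.id_comp] at this
      rw [this, a₁.lift_one_act_assoc, Category.id_comp]
    · rw [comp_lift_assoc, Category.comp_id, MonObj.comp_one]
      have := hk2' (1 : Y₂ ⟶ AMonS S M) (𝟙 Y₂)
      rw [Category.id_comp] at this
      rw [this, a₂.lift_one_act_assoc, Category.id_comp]
  have hmul : lift ((fst (AMonS S M) (AMonS S M ⊗ P)) * (snd _ _ ≫ fst (AMonS S M) P)) (snd _ _ ≫ snd _ _) ≫ k =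
      (AMonS S M ◁ k) ≫ k := by
    apply hpo2.hom_ext
    · apply hom_ext_lift₂
      intro T g z
      rw [← lift_comp_fst_snd z, lift_whiskerLeft_assoc, lift_whiskerLeft_assoc, lift_whiskerLeft_assoc,
        comp_lift_assoc, MonObj.comp_mul, lift_fst, lift_snd_assoc, lift_whiskerLeft, lift_fst, lift_snd_assoc,
        lift_snd, hk1', hk1', a₁.lift_mul_act_assoc]
      have := hk1' g (lift (z ≫ fst _ _) (z ≫ snd _ _) ≫ a₁.act)
      rw [← this, Category.assoc]
    · apply hom_ext_lift₂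
      intro T g z
      rw [← lift_comp_fst_snd z, lift_whiskerLeft_assoc, lift_whiskerLeft_assoc, lift_whiskerLeft_assoc,
        comp_lift_assoc, MonObj.comp_mul, lift_fst, lift_snd_assoc, lift_whiskerLeft, lift_fst, lift_snd_assoc,
        lift_snd, hk2', hk2', a₂.lift_mul_act_assoc]
      have := hk2' g (lift (z ≫ fst _ _) (z ≫ snd _ _) ≫ a₂.act)
      rw [← this, Category.assoc]
  refine ⟨MonAct.mk' k ?_ ?_, hk1.symm, hk2.symm⟩
  · intro T x
    have : lift (1 : T ⟶ AMonS S M) x = x ≫ lift 1 (𝟙 P) := by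
      rw [comp_lift, MonObj.comp_one, Category.comp_id]
    rw [this, Category.assoc, hone, Category.comp_id]
  · intro T g g' x
    have e := congrArg (fun m => lift g (lift g' x) ≫ m) hmul
    rw [lift_whiskerLeft_assoc, comp_lift_assoc, MonObj.comp_mul, lift_fst, lift_snd_assoc, lift_snd_assoc, lift_fst,
      lift_snd] at e
    exact e

/-- Equivariance of a morphism out of a Ferrand pushout. -/
theorem IsFerr.isEquivariant_of (h : IsFerr p q i j) {aP : MonAct (AMonS S M) P} (hi : IsEquivariant a₁ aP i)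
    (hj : IsEquivariant a₂ aP j) {X : Over S} {aX : MonAct (AMonS S M) X} (f : P ⟶ X)
    (h₁ : IsEquivariant a₁ aX (i ≫ f)) (h₂ : IsEquivariant a₂ aX (j ≫ f)) : IsEquivariant aP aX f := by
  have hpo1 := (h.whisker M).isPushout
  unfold IsEquivariant at hi hj h₁ h₂ ⊢
  apply hpo1.hom_ext
  · rw [← reassoc_of% hi, h₁, ← MonoidalCategory.whiskerLeft_comp_assoc]
  · rw [← reassoc_of% hj, h₂, ← MonoidalCategory.whiskerLeft_comp_assoc]

end Action

end K950.Ferr
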