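import Mathlib.Algebra.MonoidAlgebra.MapDomain
import Mathlib.Algebra.MonoidAlgebra.Module
import Mathlib.LinearAlgebra.FreeModule.Basic
import Mathlib.RingTheory.Flat.FaithfullyFlat.Basic
import Mathlib.RingTheory.RingHom.FaithfullyFlat

/-!
# Free extensions of monoid algebras

If `φ : N →* N'` is a homomorphism of commutative monoids making `N'` a free `N`-set (with basis `s : ι → N'`), then
`R[N']` is a free `R[N]`-module; in particular `R[N] → R[N']` is faithfully flat if `R` is nonzero and `ι` nonempty.
-/

set_option autoImplicit false

universe u v w x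

namespace K950.FreeExt

variable (R : Type u) [CommRing R] {N : Type v} {N' : Type w} [CommMonoid N] [CommMonoid N'] (φ : N →* N')
  {ι : Type x} (s : ι → N')

/-- `R[N']` is free over `R[N]` when `N'` is a free `N`-set with basis `s`. -/
theorem bijective_linearCombination (h : Function.Bijective fun p : ι × N => s p.1 * φ p.2) :
    let _ : Algebra (MonoidAlgebra R N) (MonoidAlgebra R N') := (MonoidAlgebra.mapDomainRingHom R φ).toAlgebra
    Function.Bijective (Finsupp.linearCombination (MonoidAlgebra R N)
      fun i : ι => (MonoidAlgebra.single (s i) (1 : R) : MonoidAlgebra R N')) := by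
  intro _
  classical
  set L := Finsupp.linearCombination (MonoidAlgebra R N)
      fun i : ι => (MonoidAlgebra.single (s i) (1 : R) : MonoidAlgebra R N') with hL
  have hs : ∀ (i : ι) (n : N) (r : R), L (Finsupp.single i (MonoidAlgebra.single n r)) =
      MonoidAlgebra.single (s i * φ n) r := by
    intro i n r
    rw [hL, Finsupp.linearCombination_single, Algebra.smul_def, RingHom.algebraMap_toAlgebra]
    rw [MonoidAlgebra.mapDomainRingHom_apply, MonoidAlgebra.mapDomain_single, MonoidAlgebra.single_mul_single,
      mul_one, mul_comm]
  constructor
  · rw [injective_iff_map_eq_zero]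
    intro c hc
    have key : ∀ (c : ι →₀ MonoidAlgebra R N) (i₀ : ι) (n₀ : N),
        (L c).coeff (s i₀ * φ n₀) = (c i₀).coeff n₀ := by
      intro c i₀ n₀
      induction c using Finsupp.induction_linear with
      | zero => simp
      | add c d hc hd => rw [map_add, MonoidAlgebra.coeff_add, Finsupp.add_apply, hc, hd]; simp
      | single i x =>
        induction x using MonoidAlgebra.induction_linear with
        | zero => simp
        | add x y hx hy => rw [Finsupp.single_add, map_add, MonoidAlgebra.coeff_add, Finsupp.add_apply, hx, hy]; simp
        | single n r =>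
          rw [hs]
          by_cases hin : i = i₀ ∧ n = n₀
          · obtain ⟨rfl, rfl⟩ := hin
            simp
          · have hne : s i * φ n ≠ s i₀ * φ n₀ := fun e => hin (by
              have := h.1 (a₁ := (i, n)) (a₂ := (i₀, n₀)) e
              simpa using this)
            rw [MonoidAlgebra.coeff_single, Finsupp.single_apply, if_neg hne]
            by_cases hi : i = i₀
            · subst hi
              have hn : n ≠ n₀ := fun e => hin ⟨rfl, e⟩
              simp [hn]
            · rw [Finsupp.single_apply, if_neg hi]
              simp
    ext i n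
    rw [← key, hc]
    simp
  · intro x
    induction x using MonoidAlgebra.induction_linear with
    | zero => exact ⟨0, map_zero _⟩
    | add x y hx hy =>
      obtain ⟨a, rfl⟩ := hx
      obtain ⟨b, rfl⟩ := hy
      exact ⟨a + b, map_add _ _ _⟩
    | single n' r =>
      obtain ⟨⟨i, n⟩, rfl⟩ := h.2 n'
      exact ⟨_, hs i n r⟩

/-- The ring map `R[N] → R[N']` is faithfully flat when `N'` is a nonempty free `N`-set. -/
theorem faithfullyFlat [Nonempty ι] (h : Function.Bijective fun p : ι × N => s p.1 * φ p.2) :
    (MonoidAlgebra.mapDomainRingHom R φ).FaithfullyFlat := by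
  let _ : Algebra (MonoidAlgebra R N) (MonoidAlgebra R N') := (MonoidAlgebra.mapDomainRingHom R φ).toAlgebra
  have hb := bijective_linearCombination R φ s h
  let e : (ι →₀ MonoidAlgebra R N) ≃ₗ[MonoidAlgebra R N] MonoidAlgebra R N' := LinearEquiv.ofBijective _ hb
  have : Module.FaithfullyFlat (MonoidAlgebra R N) (MonoidAlgebra R N') :=
    Module.FaithfullyFlat.of_linearEquiv _ _ e.symm
  exact this

end K950.FreeExt
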