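import Groth.Prelude.Def_Magnet2
import Groth.Agent.Magnet.K950.FreeExt
import Groth.Agent.Magnet.K951.Dense
import Mathlib.AlgebraicGeometry.Morphisms.Flat
import Mathlib.AlgebraicGeometry.Sites.Fpqc

/-!
# Base change, affineness and faithful flatness of the morphisms `A(M)_S ⟶ A(N)_S`
-/

set_option autoImplicit false

universe u

open CategoryTheory MonoidalCategory CartesianMonoidalCategory MonObj AlgebraicGeometry Opposite Limits

namespace K950.FlatMap

open Magnet

/-- The square of the base change of a morphism `k` over `k`. -/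
theorem isPullback_pullback_map {S₀ S : Scheme.{u}} (t : S ⟶ S₀) {A B : Over S₀} (k : A ⟶ B) :
    IsPullback (pullback.fst A.hom t) ((Over.pullback t).map k).left k.left (pullback.fst B.hom t) := by
  have h1 : IsPullback (pullback.fst B.hom t) (pullback.snd B.hom t) B.hom t := IsPullback.of_hasPullback _ _
  have h2 : IsPullback (pullback.fst A.hom t) (pullback.snd A.hom t) A.hom t := IsPullback.of_hasPullback _ _
  have e1 : ((Over.pullback t).map k).left ≫ pullback.snd B.hom t = pullback.snd A.hom t :=
    Over.w ((Over.pullback t).map k)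
  have e2 : ((Over.pullback t).map k).left ≫ pullback.fst B.hom t = pullback.fst A.hom t ≫ k.left := by
    dsimp only [Over.pullback]; exact pullback.lift_fst _ _ _
  refine IsPullback.of_bot (v₂₁ := pullback.snd B.hom t) (v₂₂ := B.hom) (h₃₁ := t) ?_ e2.symm h1
  rw [e1, Over.w]
  exact h2

/-- Any property of morphisms of schemes stable under base change passes from `k` to its base change along `t`. -/
theorem prop_pullback_map (P : MorphismProperty Scheme.{u}) [P.IsStableUnderBaseChange] {S₀ S : Scheme.{u}}
    (t : S ⟶ S₀) {A B : Over S₀} (k : A ⟶ B) (h : P k.left) : P ((Over.pullback t).map k).left :=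
  P.of_isPullback (isPullback_pullback_map t k) h

/-- Any property of morphisms of schemes stable under base change passes from `k` to `k ▷ T`. -/
theorem prop_whiskerRight (P : MorphismProperty Scheme.{u}) [P.IsStableUnderBaseChange] {S : Scheme.{u}}
    {A B : Over S} (k : A ⟶ B) (T : Over S) (h : P k.left) : P (k ▷ T).left :=
  P.of_isPullback (K951.Dense.isPullback_whiskerRight_left k T) h

/-- Any property of morphisms of schemes stable under base change passes from `A(M)_ℤ ⟶ A(N)_ℤ` to
`A(M)_S ×_S T ⟶ A(N)_S ×_S T`. -/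
theorem prop_map_whiskerRight (P : MorphismProperty Scheme.{u}) [P.IsStableUnderBaseChange] {S : Scheme.{u}}
    {M N : Type} [AddCommMonoid M] [AddCommMonoid N] (f : N →+ M) (T : Over S)
    (h : P (AMon.map (ULift.{u} ℤ) f).left) : P (AMonS.map S f ▷ T).left :=
  prop_whiskerRight P _ T (prop_pullback_map P _ _ h)

variable {M N : Type} [AddCommMonoid M] [AddCommMonoid N] (f : N →+ M)

theorem AMon_map_left (R : Type u) [CommRing R] : (AMon.map R f).left = Spec.map (CommRingCat.ofHom
    (MonoidAlgebra.mapDomainRingHom R (AddMonoidHom.toMultiplicative f))) := rfl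

instance isAffineHom_map (R : Type u) [CommRing R] : IsAffineHom (AMon.map R f).left :=
  inferInstanceAs (IsAffineHom (Spec.map (CommRingCat.ofHom
    (MonoidAlgebra.mapDomainRingHom R (AddMonoidHom.toMultiplicative f)))))

/-- `A(M)_S ×_S T ⟶ A(N)_S ×_S T` is affine. -/
instance isAffineHom_map_whiskerRight {S : Scheme.{u}} (T : Over S) : IsAffineHom (AMonS.map S f ▷ T).left :=
  prop_map_whiskerRight @IsAffineHom f T (isAffineHom_map f _)

instance quasiCompact_map_whiskerRight {S : Scheme.{u}} (T : Over S) : QuasiCompact (AMonS.map S f ▷ T).left :=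
  prop_map_whiskerRight @QuasiCompact f T inferInstance

/-- `A(M)_S ×_S T ⟶ A(N)_S ×_S T` is flat and surjective when `M` is a free `N`-set. -/
theorem flat_surjective {S : Scheme.{u}} (T : Over S) {I : Type} [Nonempty I] (s : I → M)
    (h : Function.Bijective fun p : I × N => s p.1 + f p.2) :
    Flat (AMonS.map S f ▷ T).left ∧ Surjective (AMonS.map S f ▷ T).left := by
  have h1 : (MonoidAlgebra.mapDomainRingHom (ULift.{u} ℤ) (AddMonoidHom.toMultiplicative f)).FaithfullyFlat :=
    K950.FreeExt.faithfullyFlat (ULift.{u} ℤ) (AddMonoidHom.toMultiplicative f)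
      (fun i => Multiplicative.ofAdd (s i)) h
  have h2 := (flat_and_surjective_SpecMap_iff (CommRingCat.ofHom
    (MonoidAlgebra.mapDomainRingHom (ULift.{u} ℤ) (AddMonoidHom.toMultiplicative f)))).2 h1
  rw [← AMon_map_left] at h2
  exact ⟨prop_map_whiskerRight @Flat f T h2.1, prop_map_whiskerRight @Surjective f T h2.2⟩

/-- The inclusion of a subgroup makes the group a free set. -/
theorem flat_surjective_subgroup {S : Scheme.{u}} (T : Over S) {M : Type} [AddCommGroup M] (Z : AddSubgroup M) :
    Flat (AMonS.map S Z.toAddSubmonoid.subtype ▷ T).left ∧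
      Surjective (AMonS.map S Z.toAddSubmonoid.subtype ▷ T).left := by
  refine flat_surjective _ T (I := M ⧸ Z) Quotient.out ⟨?_, ?_⟩
  · rintro ⟨i, z⟩ ⟨j, w⟩ h
    have h' : (Quotient.out i : M) + (z : M) = Quotient.out j + (w : M) := h
    have e : i = j := by
      rw [← QuotientAddGroup.out_eq' i, ← QuotientAddGroup.out_eq' j, QuotientAddGroup.eq]
      have hz : (z : M) ∈ Z := z.2
      have hw : (w : M) ∈ Z := w.2
      have : -(Quotient.out i : M) + Quotient.out j = (z : M) - w := by
        rw [sub_eq_add_neg, eq_add_neg_iff_add_eq, add_assoc, ← h']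
        abel
      rw [this]
      exact Z.sub_mem hz hw
    subst e
    have : z = w := Subtype.ext (add_left_cancel h')
    rw [this]
  · intro m
    have h1 : -(Quotient.out (QuotientAddGroup.mk m : M ⧸ Z) : M) + m ∈ Z := by
      rw [← QuotientAddGroup.eq, QuotientAddGroup.out_eq']
    exact ⟨(QuotientAddGroup.mk m, ⟨_, h1⟩), by
      change (Quotient.out (QuotientAddGroup.mk m : M ⧸ Z) : M) + (-_ + m) = m
      abel⟩

/-- An fpqc covering `p : P ⟶ Q` over `S` is an effective epimorphism: a morphism `Φ : P ⟶ X` that identifies the pairs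
of points identified by `p` descends to `Q`. -/
theorem exists_desc {S : Scheme.{u}} {P Q X : Over S} (p : P ⟶ Q) [Flat p.left] [Surjective p.left]
    [QuasiCompact p.left] (Φ : P ⟶ X)
    (h : ∀ (W : Over S) (u v : W ⟶ P), u ≫ p = v ≫ p → u ≫ Φ = v ≫ Φ) : ∃ Ψ : Q ⟶ X, p ≫ Ψ = Φ := by
  have h' : ∀ {W : Scheme.{u}} (u v : W ⟶ P.left), u ≫ p.left = v ≫ p.left → u ≫ Φ.left = v ≫ Φ.left := by
    intro W u v huv
    let W' : Over S := Over.mk (u ≫ P.hom)
    have hv : v ≫ P.hom = u ≫ P.hom := by
      rw [← Over.w p, reassoc_of% huv]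
    have := h W' (Over.homMk u) (Over.homMk v hv) (by ext1; exact huv)
    exact congrArg CommaMorphism.left this
  let ψ : Q.left ⟶ X.left := EffectiveEpi.desc p.left Φ.left h'
  have hψ : p.left ≫ ψ = Φ.left := EffectiveEpi.fac p.left Φ.left h'
  have hepi : Epi p.left := inferInstance
  refine ⟨Over.homMk ψ ?_, ?_⟩
  · rw [← cancel_epi p.left, reassoc_of% hψ, Over.w, Over.w]
  · ext1
    exact hψ

/-- An fpqc covering is an epimorphism. -/
theorem epi_of_fpqc {S : Scheme.{u}} {P Q : Over S} (p : P ⟶ Q) [Flat p.left] [Surjective p.left]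
    [QuasiCompact p.left] : Epi p := by
  have : Epi p.left := inferInstance
  exact Over.epi_of_epi_left p

end K950.FlatMap
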