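import Groth.Prelude.Def_Magnet
import Mathlib.CategoryTheory.Limits.Shapes.Pullback.IsPullback.Basic

/-!
# Testing equivariance of `Φ : B ⊗ T ⟶ X` on a jointly epimorphic family `B' ⊗ (A ⊗ T) ⟶ B ⊗ (A ⊗ T)`
-/

set_option autoImplicit false

universe v₁ u₁

open CategoryTheory MonoidalCategory CartesianMonoidalCategory MonObj Opposite Limits

namespace K950.Joint

open Magnet Magnet.MonAct

variable {C : Type u₁} [Category.{v₁} C] [CartesianMonoidalCategory C] {A B B' X T : C} [MonObj A]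

/-- `(b, (g, t)) ↦ Φ (g • b, t)`. -/
def u (ρ : MonAct A B) (Φ : B ⊗ T ⟶ X) : B ⊗ (A ⊗ T) ⟶ X :=
  lift (lift (snd B (A ⊗ T) ≫ fst A T) (fst B (A ⊗ T)) ≫ ρ.act) (snd B (A ⊗ T) ≫ snd A T) ≫ Φ

/-- `(b, (g, t)) ↦ g • Φ (b, t)`. -/
def v (a : MonAct A X) (Φ : B ⊗ T ⟶ X) : B ⊗ (A ⊗ T) ⟶ X :=
  lift (snd B (A ⊗ T) ≫ fst A T) (lift (fst B (A ⊗ T)) (snd B (A ⊗ T) ≫ snd A T) ≫ Φ) ≫ a.act

theorem lift_u (ρ : MonAct A B) (Φ : B ⊗ T ⟶ X) {W : C} (b : W ⟶ B) (g : W ⟶ A) (t : W ⟶ T) :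
    lift b (lift g t) ≫ u ρ Φ = lift (lift g b ≫ ρ.act) t ≫ Φ := by
  simp only [u, comp_lift_assoc, lift_snd_assoc, lift_fst, lift_snd]

theorem lift_v (a : MonAct A X) (Φ : B ⊗ T ⟶ X) {W : C} (b : W ⟶ B) (g : W ⟶ A) (t : W ⟶ T) :
    lift b (lift g t) ≫ v a Φ = lift g (lift b t ≫ Φ) ≫ a.act := by
  simp only [v, comp_lift_assoc, lift_snd_assoc, lift_fst, lift_snd]

theorem isEquivariant_iff_eq (ρ : MonAct A B) (a : MonAct A X) (Φ : B ⊗ T ⟶ X) :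
    IsEquivariant (ρ.prod (MonAct.trivial A T)) a Φ ↔ u ρ Φ = v a Φ := by
  rw [mem_eqvHom_iff]
  constructor
  · intro h
    apply hom_ext_lift₂
    intro W b z
    rw [← lift_comp_fst_snd z, lift_u, lift_v, h]
  · intro h W g b t
    rw [← lift_u, ← lift_v, h]

theorem whisker_u {ρ : MonAct A B} {ρ' : MonAct A B'} {ψ : B' ⟶ B} (hψ : IsEquivariant ρ' ρ ψ) (Φ : B ⊗ T ⟶ X) :
    (ψ ▷ (A ⊗ T)) ≫ u ρ Φ = u ρ' ((ψ ▷ T) ≫ Φ) := by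
  rw [isEquivariant_iff] at hψ
  apply hom_ext_lift₂
  intro W b z
  rw [← lift_comp_fst_snd z, lift_whiskerRight_assoc, lift_u, lift_u, lift_whiskerRight_assoc, Category.assoc, hψ]

theorem whisker_v (a : MonAct A X) (ψ : B' ⟶ B) (Φ : B ⊗ T ⟶ X) :
    (ψ ▷ (A ⊗ T)) ≫ v a Φ = v a ((ψ ▷ T) ≫ Φ) := by
  apply hom_ext_lift₂
  intro W b z
  rw [← lift_comp_fst_snd z, lift_whiskerRight_assoc, lift_v, lift_v, lift_whiskerRight_assoc]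

/-- Equivariance on a pushout: if `B₁ ⊗ (A ⊗ T) ⟵ B₀ ⊗ (A ⊗ T) ⟶ B₂ ⊗ (A ⊗ T)` has pushout `B ⊗ (A ⊗ T)`, then
`Φ : B ⊗ T ⟶ X` is equivariant as soon as its restrictions to `B₁ ⊗ T` and `B₂ ⊗ T` are. -/
theorem isEquivariant_of_isPushout {B₀ B₁ B₂ : C} {ρ : MonAct A B} {ρ₁ : MonAct A B₁} {ρ₂ : MonAct A B₂}
    {p : B₀ ⟶ B₁} {q : B₀ ⟶ B₂} {i : B₁ ⟶ B} {j : B₂ ⟶ B}
    (h : IsPushout (p ▷ (A ⊗ T)) (q ▷ (A ⊗ T)) (i ▷ (A ⊗ T)) (j ▷ (A ⊗ T)))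
    (hi : IsEquivariant ρ₁ ρ i) (hj : IsEquivariant ρ₂ ρ j) {a : MonAct A X} (Φ : B ⊗ T ⟶ X)
    (h₁ : IsEquivariant (ρ₁.prod (MonAct.trivial A T)) a ((i ▷ T) ≫ Φ))
    (h₂ : IsEquivariant (ρ₂.prod (MonAct.trivial A T)) a ((j ▷ T) ≫ Φ)) :
    IsEquivariant (ρ.prod (MonAct.trivial A T)) a Φ := by
  rw [isEquivariant_iff_eq] at h₁ h₂ ⊢
  apply h.hom_ext
  · rw [whisker_u hi, whisker_v, h₁]
  · rw [whisker_u hj, whisker_v, h₂]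

end K950.Joint
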