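import Groth.Agent.Magnet.K950.StabG
import Groth.Agent.Magnet.K950.FlatMap
import Groth.Agent.Magnet.K951.Psh

/-!
# Stable opens containing the idempotent section of the units; attractors of open immersions
-/

set_option autoImplicit false

universe u

open CategoryTheory MonoidalCategory CartesianMonoidalCategory MonObj AlgebraicGeometry Opposite Limits

namespace K950.StabUnit

open Magnet Magnet.MonAct K951.Stab K951.Psh

variable {S : Scheme.{u}} {M : Type} [AddCommGroup M]

/-- A stable open of `A(Z) × Y` containing the unit section is everything, for `Z` a subgroup. -/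
theorem eq_top_subgroup (Z : AddSubgroup M) (Q : AddSubmonoid M) (hZ : Z.toAddSubmonoid = Q) (Y : Over S)
    (W : (AMonS S Q ⊗ Y).left.Opens)
    (hW : IsStable ((subAct S M Q).prod (MonAct.trivial (AMonS S M) Y)) W)
    (h1 : (lift (toUnit Y ≫ η[AMonS S Q]) (𝟙 Y)).left ⁻¹ᵁ W = ⊤) : W = ⊤ := by
  subst hZ
  rw [eq_top_iff]
  intro p _
  obtain ⟨-, hsurj⟩ := K950.FlatMap.flat_surjective_subgroup (S := S) Y Z
  obtain ⟨q, rfl⟩ := hsurj.surj p
  let s : Y ⟶ AMonS S Z.toAddSubmonoid ⊗ Y := lift (toUnit Y ≫ η[AMonS S Z.toAddSubmonoid]) (𝟙 Y)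
  have hk2 : (AMonS S M ◁ s) ≫ ((subAct S M Z.toAddSubmonoid).prod (MonAct.trivial (AMonS S M) Y)).act =
      AMonS.map S Z.toAddSubmonoid.subtype ▷ Y := by
    apply hom_ext_lift₂
    intro T' g t
    rw [lift_whiskerLeft_assoc, lift_whiskerRight, comp_lift, Category.comp_id, lift_prod_act, lift_trivial_act]
    congr 1
    change lift g _ ≫ ((MonAct.regular _).restrict _).act = _
    rw [lift_restrict_act, lift_regular_act]
    have h2 : t ≫ toUnit Y ≫ η[AMonS S Z.toAddSubmonoid] = 1 := by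
      change _ = toUnit T' ≫ η[AMonS S Z.toAddSubmonoid]
      rw [← Category.assoc]
      congr 1
      exact toUnit_unique _ _
    rw [h2, _root_.mul_one]
  have h3 : (AMonS S M ◁ s).left q ∈ (snd (AMonS S M) (AMonS S Z.toAddSubmonoid ⊗ Y)).left ⁻¹ᵁ W := by
    change (snd (AMonS S M) (AMonS S Z.toAddSubmonoid ⊗ Y)).left ((AMonS S M ◁ s).left q) ∈ W
    rw [← Scheme.Hom.comp_apply, ← Over.comp_left, whiskerLeft_snd, Over.comp_left, Scheme.Hom.comp_apply]
    have h4 : (snd (AMonS S M) Y).left q ∈ s.left ⁻¹ᵁ W := by rw [h1]; trivial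
    exact h4
  have h5 := hW h3
  change (((subAct S M Z.toAddSubmonoid).prod (MonAct.trivial (AMonS S M) Y)).act).left ((AMonS S M ◁ s).left q) ∈ W at h5
  rw [← Scheme.Hom.comp_apply, ← Over.comp_left, hk2] at h5
  exact h5

/-- The units of `N` as a subgroup. -/
def unitSub (N : AddSubmonoid M) : AddSubgroup M where
  toAddSubmonoid := unitFace N
  neg_mem' := by
    rintro x ⟨hx, y, hy, hxy⟩
    obtain rfl : y = -x := (neg_eq_of_add_eq_zero_right hxy).symm
    exact ⟨hy, x, hx, by rw [neg_add_cancel]⟩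

variable (S) in
/-- The idempotent of the units, as a point of `A(N)_S`. -/
noncomputable def idem (N : AddSubmonoid M) : 𝟙_ (Over S) ⟶ AMonS S N :=
  η[AMonS S (unitFace N)] ≫ AMonS.faceMap S (isFace_unitFace N)

/-- `A(Q) × Y ⟶ A(N) × Y` is equivariant. -/
theorem isEquivariant_faceMap_whiskerRight {N Q : AddSubmonoid M} (hQ : IsFace N Q) (Y : Over S) :
    IsEquivariant ((subAct S M Q).prod (MonAct.trivial (AMonS S M) Y))
      ((subAct S M N).prod (MonAct.trivial (AMonS S M) Y)) (AMonS.faceMap S hQ ▷ Y) := by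
  have h := ((eqvHom.precomp ((subAct S M N).prod (MonAct.trivial (AMonS S M) Y)) (AMonS.faceMap S hQ)
    (isEquivariant_faceMapS S hQ)).app (op Y) ⟨𝟙 _, IsEquivariant.id _⟩).2
  have e : (((eqvHom.precomp ((subAct S M N).prod (MonAct.trivial (AMonS S M) Y)) (AMonS.faceMap S hQ)
    (isEquivariant_faceMapS S hQ)).app (op Y) ⟨𝟙 _, IsEquivariant.id _⟩).1 : _ ⟶ _) = AMonS.faceMap S hQ ▷ Y :=
    Category.comp_id _
  rw [e] at h
  exact h

/-- A stable open of `A(N) × Y` containing the section given by the idempotent of the units is everything. -/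
theorem eq_top_of_idem (N : AddSubmonoid M) (Y : Over S) (W : (AMonS S N ⊗ Y).left.Opens)
    (hW : IsStable ((subAct S M N).prod (MonAct.trivial (AMonS S M) Y)) W)
    (h1 : (lift (toUnit Y ≫ idem S N) (𝟙 Y)).left ⁻¹ᵁ W = ⊤) : W = ⊤ := by
  refine K950.StabG.eq_top_of_stable (isFace_unitFace N) Y W hW ?_
  refine eq_top_subgroup (unitSub N) (unitFace N) rfl Y _
    (IsStable.preimage (isEquivariant_faceMap_whiskerRight _ _) hW) ?_
  rw [← Scheme.Hom.comp_preimage, ← Over.comp_left, lift_whiskerRight, Category.assoc]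
  exact h1

variable {X Y : Over S} {aX : MonAct (AMonS S M) X} {aY : MonAct (AMonS S M) Y} {f : X ⟶ Y} [IsOpenImmersion f.left]
  (hf : IsEquivariant aX aY f)

/-- Attractors of an equivariant open immersion. -/
theorem isPullback (N : AddSubmonoid M) :
    haveI := Over.mono_of_mono_left f
    IsPullback (eqvHom.postcomp (subAct S M N) f hf) (eqvHom.evalAt (subAct S M N) aX (idem S N))
      (eqvHom.evalAt (subAct S M N) aY (idem S N)) (yoneda.map f) := by
  have hmono : Mono f := Over.mono_of_mono_left f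
  refine isPullback_postcomp_evalAt _ _ _ f hf _ fun T φ hφ x hx => ?_
  refine exists_factor_open f φ ?_
  refine eq_top_of_idem N T _ (IsStable.preimage hφ (isStable_opensRange hf)) ?_
  rw [← Scheme.Hom.comp_preimage, ← Over.comp_left, hx, Over.comp_left, Scheme.Hom.comp_preimage,
    Scheme.Hom.preimage_opensRange]
  rfl

/-- A cartesian square of presheaves gives a cartesian square of representing objects. -/
theorem isPullback_of_representableBy {C : Type*} [Category.{u} C] {F G : Cᵒᵖ ⥤ Type u} {X Y : C} {f : X ⟶ Y}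
    {t : F ⟶ G} {l : F ⟶ yoneda.obj X} {r : G ⟶ yoneda.obj Y} (h : IsPullback t l r (yoneda.map f))
    {ZX ZY : C} (eX : F.RepresentableBy ZX) (eY : G.RepresentableBy ZY) (j : ZX ⟶ ZY)
    (hj : ∀ (T : C) (z : T ⟶ ZX), eY.homEquiv (z ≫ j) = t.app (op T) (eX.homEquiv z)) :
    IsPullback j (l.app (op ZX) (eX.homEquiv (𝟙 ZX)) : ZX ⟶ X) (r.app (op ZY) (eY.homEquiv (𝟙 ZY)) : ZY ⟶ Y) f := by
  have e1 : yoneda.map j ≫ eY.toIso.hom = eX.toIso.hom ≫ t := by
    ext T z
    exact hj _ z
  have e2 : yoneda.map (l.app (op ZX) (eX.homEquiv (𝟙 ZX)) : ZX ⟶ X) = eX.toIso.hom ≫ l := by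
    ext T z
    change z ≫ (l.app (op ZX) (eX.homEquiv (𝟙 ZX)) : ZX ⟶ X) = l.app T (eX.homEquiv z)
    have h1 := NatTrans.naturality_apply l z.op (eX.homEquiv (𝟙 ZX))
    have h2 : F.map z.op (eX.homEquiv (𝟙 ZX)) = eX.homEquiv z := by
      rw [← eX.homEquiv_comp, Category.comp_id]
    rw [h2] at h1
    exact h1.symm
  have e3 : yoneda.map (r.app (op ZY) (eY.homEquiv (𝟙 ZY)) : ZY ⟶ Y) = eY.toIso.hom ≫ r := by
    ext T z
    change z ≫ (r.app (op ZY) (eY.homEquiv (𝟙 ZY)) : ZY ⟶ Y) = r.app T (eY.homEquiv z)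
    have h1 := NatTrans.naturality_apply r z.op (eY.homEquiv (𝟙 ZY))
    have h2 : G.map z.op (eY.homEquiv (𝟙 ZY)) = eY.homEquiv z := by
      rw [← eY.homEquiv_comp, Category.comp_id]
    rw [h2] at h1
    exact h1.symm
  have h2 : IsPullback (yoneda.map j) (yoneda.map (l.app (op ZX) (eX.homEquiv (𝟙 ZX)) : ZX ⟶ X))
      (yoneda.map (r.app (op ZY) (eY.homEquiv (𝟙 ZY)) : ZY ⟶ Y)) (yoneda.map f) :=
    h.of_iso eX.toIso.symm eY.toIso.symm (Iso.refl _) (Iso.refl _)
      (by rw [Iso.symm_hom, Iso.symm_hom, Iso.comp_inv_eq, Category.assoc, e1, Iso.inv_hom_id_assoc])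
      (by rw [Iso.symm_hom, e2, Iso.inv_hom_id_assoc, Iso.refl_hom, Category.comp_id])
      (by rw [Iso.symm_hom, e3, Iso.inv_hom_id_assoc, Iso.refl_hom, Category.comp_id])
      (by rw [Iso.refl_hom, Iso.refl_hom, Category.comp_id, Category.id_comp])
  refine IsPullback.of_map yoneda ?_ h2
  apply yoneda.map_injective
  rw [Functor.map_comp, Functor.map_comp, h2.w]

end K950.StabUnit
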