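import Groth.Agent.Magnet.K950.Chart
import Groth.Agent.Magnet.K950.StabUnit
import Groth.Agent.Magnet.K951.BBGlue
import Groth.Agent.Magnet.K951.LocS
import Mathlib.LinearAlgebra.SymmetricAlgebra.Basic

/-!
# Open subfunctors of representable functors; from symmetric algebras to schemes
-/

set_option autoImplicit false

universe u

open CategoryTheory MonoidalCategory CartesianMonoidalCategory MonObj AlgebraicGeometry Opposite Limits

namespace K950.OpenRep

section Rep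

variable {C : Type*} [Category.{u} C] {F G : Cᵒᵖ ⥤ Type u} {P X : C} {q : P ⟶ X} {t : F ⟶ G}
  {l : F ⟶ yoneda.obj P} {r : G ⟶ yoneda.obj X} (h : IsPullback t l r (yoneda.map q)) {Z W : C}
  (eG : G.RepresentableBy Z) {k : W ⟶ Z} {w : W ⟶ P}
  (hW : IsPullback k w (r.app (op Z) (eG.homEquiv (𝟙 Z)) : Z ⟶ X) q)

theorem app_homEquiv {G : Cᵒᵖ ⥤ Type u} {X Z : C} (r : G ⟶ yoneda.obj X) (eG : G.RepresentableBy Z) {T : C} (z : T ⟶ Z) :
    r.app (op T) (eG.homEquiv z) = z ≫ (r.app (op Z) (eG.homEquiv (𝟙 Z)) : Z ⟶ X) := by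
  have h1 := NatTrans.naturality_apply r z.op (eG.homEquiv (𝟙 Z))
  have h2 : G.map z.op (eG.homEquiv (𝟙 Z)) = eG.homEquiv z := by
    rw [← eG.homEquiv_comp, Category.comp_id]
  rw [h2] at h1
  exact h1

include h hW in
/-- The fibre product of a representable functor with a representable functor is represented by the fibre product. -/
theorem exists_representableBy : ∃ eF : F.RepresentableBy W,
    (∀ (T : C) (z : T ⟶ W), t.app (op T) (eF.homEquiv z) = eG.homEquiv (z ≫ k)) ∧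
      ∀ (T : C) (z : T ⟶ W), l.app (op T) (eF.homEquiv z) = z ≫ w := by
  have hex : ∀ (T : C) (z : T ⟶ W), ∃ φ : F.obj (op T), t.app (op T) φ = eG.homEquiv (z ≫ k) ∧
      l.app (op T) φ = z ≫ w := by
    intro T z
    refine (K951.Psh.exists_of_isPullback h (op T)).2 _ _ ?_
    rw [app_homEquiv]
    change (z ≫ k) ≫ _ = (z ≫ w) ≫ q
    rw [Category.assoc, Category.assoc, hW.w]
  choose φ hφ1 hφ2 using hex
  have hinj : ∀ (T : C) (x y : F.obj (op T)), t.app (op T) x = t.app (op T) y → l.app (op T) x = l.app (op T) y →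
      x = y := fun T => (K951.Psh.exists_of_isPullback h (op T)).1
  refine ⟨{ homEquiv := fun {T} => Equiv.ofBijective (φ T) ⟨?_, ?_⟩, homEquiv_comp := ?_ }, fun T z => hφ1 T z,
    fun T z => hφ2 T z⟩
  · intro z z' hz
    apply hW.hom_ext
    · apply eG.homEquiv.injective
      rw [← hφ1, ← hφ1, hz]
    · rw [← hφ2, ← hφ2, hz]
  · intro x
    have e1 : eG.homEquiv.symm (t.app (op T) x) ≫ (r.app (op Z) (eG.homEquiv (𝟙 Z)) : Z ⟶ X) = l.app (op T) x ≫ q := by
      rw [← app_homEquiv, Equiv.apply_symm_apply]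
      have := congrArg (fun m => m.app (op T) x) h.w
      exact this
    refine ⟨hW.lift _ _ e1, ?_⟩
    apply hinj
    · rw [hφ1, hW.lift_fst, Equiv.apply_symm_apply]
    · rw [hφ2, hW.lift_snd]
  · intro T T' f g
    change φ T (f ≫ g) = F.map f.op (φ T' g)
    apply hinj
    · rw [hφ1, NatTrans.naturality_apply t f.op, hφ1, Category.assoc, eG.homEquiv_comp]
    · rw [hφ2, NatTrans.naturality_apply l f.op, hφ2, Category.assoc]
      rfl

end Rep

section Sch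

theorem bijective_appLE {W Y : Scheme.{u}} (k : W ⟶ Y) [IsOpenImmersion k] :
    Function.Bijective (k.appLE k.opensRange ⊤ (by rw [Scheme.Hom.preimage_opensRange])).hom := by
  have h1 : IsIso (k.app k.opensRange) := Scheme.Hom.isIso_app k _ le_rfl
  have h2 : IsIso (W.presheaf.map (homOfLE (show (⊤ : W.Opens) ≤ k ⁻¹ᵁ k.opensRange by
      rw [Scheme.Hom.preimage_opensRange])).op) := by
    have : IsIso (homOfLE (show (⊤ : W.Opens) ≤ k ⁻¹ᵁ k.opensRange by
      rw [Scheme.Hom.preimage_opensRange])) := ⟨homOfLE le_top, rfl, rfl⟩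
    infer_instance
  have h3 : IsIso (k.appLE k.opensRange ⊤ (by rw [Scheme.Hom.preimage_opensRange])) := by
    rw [Scheme.Hom.appLE]
    infer_instance
  exact ConcreteCategory.bijective_of_isIso _

theorem bijective_appLE' {W Y : Scheme.{u}} (k : W ⟶ Y) [IsOpenImmersion k] (V : Y.Opens) (h : V = k.opensRange)
    (h' : ⊤ ≤ k ⁻¹ᵁ V) : Function.Bijective (k.appLE V ⊤ h').hom := by
  subst h
  exact bijective_appLE k

/-- Functions pulled back along a commutative square. -/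
theorem appLE_square {A B C D : Scheme.{u}} {kN : A ⟶ B} {j' : A ⟶ C} {j : B ⟶ D} {kQ : C ⟶ D}
    (h : j' ≫ kQ = kN ≫ j) (W : D.Opens) (h1 : ⊤ ≤ kQ ⁻¹ᵁ W) (h2 : ⊤ ≤ kN ⁻¹ᵁ (j ⁻¹ᵁ W)) :
    kQ.appLE W ⊤ h1 ≫ j'.appTop = j.app W ≫ kN.appLE (j ⁻¹ᵁ W) ⊤ h2 := by
  have e1 : j'.appTop = j'.appLE ⊤ ⊤ le_rfl := Scheme.Hom.app_eq_appLE _
  have e2 : j.app W = j.appLE W (j ⁻¹ᵁ W) le_rfl := Scheme.Hom.app_eq_appLE _
  rw [e1, e2, Scheme.Hom.appLE_comp_appLE, Scheme.Hom.appLE_comp_appLE]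
  congr 1

/-- From an isomorphism of algebras to an isomorphism of schemes over an affine open. -/
theorem transfer {Y Z : Scheme.{u}} (j : Y ⟶ Z) (W : Z.Opens) (hW : IsAffineOpen W) (hW' : IsAffineOpen (j ⁻¹ᵁ W))
    (E : Type u) [AddCommGroup E] [Module Γ(Z, W) E] (e : SymmetricAlgebra Γ(Z, W) E ≃+* Γ(Y, j ⁻¹ᵁ W))
    (he : ∀ c, e (algebraMap _ _ c) = (j.app W).hom c) :
    ∃ e' : (↑(j ⁻¹ᵁ W) : Scheme.{u}) ≅ Spec (CommRingCat.of (SymmetricAlgebra Γ(Z, W) E)),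
      e'.hom ≫ Spec.map (CommRingCat.ofHom (algebraMap Γ(Z, W) (SymmetricAlgebra Γ(Z, W) E))) =
        (j ∣_ W) ≫ hW.isoSpec.hom := by
  let i : CommRingCat.of (SymmetricAlgebra Γ(Z, W) E) ≅ Γ(Y, j ⁻¹ᵁ W) := e.toCommRingCatIso
  refine ⟨hW'.isoSpec ≪≫ Scheme.Spec.mapIso i.op, ?_⟩
  have h1 : CommRingCat.ofHom (algebraMap Γ(Z, W) (SymmetricAlgebra Γ(Z, W) E)) ≫ i.hom = j.app W := by
    ext c
    exact he c
  change (hW'.isoSpec.hom ≫ Spec.map i.hom) ≫ _ = _
  rw [Category.assoc, ← Spec.map_comp, h1, ← cancel_mono hW.fromSpec, ← cancel_epi hW'.isoSpec.inv]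
  simp only [Category.assoc, Iso.inv_hom_id_assoc, IsAffineOpen.isoSpec_hom_fromSpec]
  rw [morphismRestrict_ι, IsAffineOpen.isoSpec_inv_ι_assoc, Scheme.Hom.app_eq_appLE, IsAffineOpen.SpecMap_appLE_fromSpec]

end Sch

end K950.OpenRep
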