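import Groth.Agent.Magnet.K950.ClosedDescent
import Groth.Prelude.Def_CGrpSh

/-!
# Closed subfunctors of a scheme are representable if they are so locally

`K950.RepClosed.exists_representableBy`: let `F` be an fppf sheaf on schemes over `S` with a monomorphism `ι` to the
functor of points of `X`, and `f : U ⟶ X` a morphism over `S`, flat, surjective and locally of finite presentation, such
that the points of `U` whose image in `X` lies in `F` are those of a closed subscheme of `U`.  Then `F` is represented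
by a closed subscheme of `X`, compatibly with `ι`.
-/

set_option autoImplicit false

universe u

open CategoryTheory CategoryTheory.Limits AlgebraicGeometry Opposite

namespace K950.RepClosed

open K950.ClosedDescent

variable {S : Scheme.{u}}

/-- A covering sieve of `T.left` defines a covering sieve of `T`. -/
theorem mem_J {K : Precoverage Scheme.{u}} {T : Over S} {R : Sieve T.left} (hR : R ∈ K.toGrothendieck T.left) :
    (Sieve.overEquiv T).symm R ∈ (QuotSh.J K S) T :=
  GrothendieckTopology.overEquiv_symm_mem_over _ _ _ hR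

theorem overEquiv_symm_apply {T : Over S} {R : Sieve T.left} {W : Over S} (w : W ⟶ T)
    (hw : ((Sieve.overEquiv T).symm R) w) : R w.left := by
  rwa [Sieve.overEquiv_symm_iff] at hw

variable {F : (Over S)ᵒᵖ ⥤ Type u} {X : Over S} (ι : F ⟶ yoneda.obj X)

/-- The point `x` of `X` comes from `F`. -/
def Mem {T : Over S} (x : T ⟶ X) : Prop := ∃ φ : F.obj (op T), ι.app (op T) φ = x

theorem Mem.precomp {T T' : Over S} {x : T ⟶ X} (h : Mem ι x) (t : T' ⟶ T) : Mem ι (t ≫ x) := by
  obtain ⟨φ, hφ⟩ := h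
  refine ⟨F.map t.op φ, ?_⟩
  rw [← hφ]
  exact NatTrans.naturality_apply ι t.op φ

theorem Mem.of_sieve (hι : ∀ T : (Over S)ᵒᵖ, Function.Injective (ι.app T)) {J : GrothendieckTopology (Over S)}
    (hF : Presieve.IsSheaf J F) [J.Subcanonical] {T : Over S} {x : T ⟶ X} {R : Sieve T} (hR : R ∈ J T)
    (h : ∀ ⦃W : Over S⦄ (w : W ⟶ T), R w → Mem ι (w ≫ x)) : Mem ι x := by
  choose φ hφ using h
  let fam : Presieve.FamilyOfElements F R.arrows := fun W w hw => φ w hw
  have hfam : fam.Compatible := by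
    rw [Presieve.compatible_iff_sieveCompatible]
    intro W W' w v hw
    apply hι
    have h1 : ι.app (op W') (φ (v ≫ w) (R.downward_closed hw v)) = (v ≫ w) ≫ x := hφ _ _
    have h2 : ι.app (op W') (F.map v.op (φ w hw)) = v ≫ (w ≫ x) := by
      rw [← hφ w hw]
      exact NatTrans.naturality_apply ι v.op _
    exact (h1.trans (Category.assoc _ _ _)).trans h2.symm
  refine ⟨(hF R hR).amalgamate fam hfam, ?_⟩
  have hs := ((GrothendieckTopology.Subcanonical.isSheaf_of_isRepresentable (J := J) (yoneda.obj X)) R hR).isSeparatedFor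
  apply hs.ext
  intro W w hw
  have h1 : F.map w.op ((hF R hR).amalgamate fam hfam) = φ w hw := (hF R hR).valid_glue hfam w hw
  have h2 : ι.app (op W) (F.map w.op ((hF R hR).amalgamate fam hfam)) =
      w ≫ ι.app (op T) ((hF R hR).amalgamate fam hfam) := NatTrans.naturality_apply ι w.op _
  change w ≫ ι.app (op T) ((hF R hR).amalgamate fam hfam) = w ≫ x
  rw [← h2, h1]
  exact hφ w hw

/-- The property of morphisms of schemes to `X` of coming from `F`. -/
def Pred (T : Scheme.{u}) (g : T ⟶ X.left) : Prop :=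
  ∃ (s : T ⟶ S) (hs : g ≫ X.hom = s), Mem ι (Over.homMk (U := Over.mk s) g hs)

theorem pred_iff {T : Over S} (x : T ⟶ X) : Pred ι T.left x.left ↔ Mem ι x := by
  constructor
  · rintro ⟨s, hs, h⟩
    obtain rfl : T.hom = s := by rw [← hs, Over.w]
    exact h
  · intro h
    exact ⟨T.hom, Over.w x, h⟩

theorem isLocalPred (hι : ∀ T : (Over S)ᵒᵖ, Function.Injective (ι.app T))
    (hF : Presieve.IsSheaf (QuotSh.J Scheme.fppfPrecoverage S) F) :
    IsLocalPred (Pred ι) := by
  have key : ∀ {T : Scheme.{u}} (g : T ⟶ X.left) (R : Sieve T), R ∈ Scheme.fppfPrecoverage.toGrothendieck T →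
      (∀ ⦃W : Scheme.{u}⦄ (w : W ⟶ T), R w → Pred ι W (w ≫ g)) → Pred ι T g := by
    intro T g R hR h
    refine ⟨g ≫ X.hom, rfl, ?_⟩
    refine Mem.of_sieve ι hι hF (T := Over.mk (g ≫ X.hom)) (R := (Sieve.overEquiv _).symm R)
      (mem_J (T := Over.mk (g ≫ X.hom)) hR) fun W w hw => ?_
    rw [← pred_iff]
    exact h w.left (overEquiv_symm_apply w hw)
  refine ⟨?_, ?_, ?_⟩
  · rintro T' T h g ⟨s, hs, hg⟩
    exact ⟨h ≫ s, by rw [Category.assoc, hs],
      Mem.precomp ι hg (Over.homMk h : Over.mk (h ≫ s) ⟶ Over.mk s)⟩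
  · intro T g 𝒰 hg
    refine key g (Sieve.generate (Presieve.ofArrows 𝒰.X 𝒰.f)) ?_ ?_
    · exact Precoverage.generate_mem_toGrothendieck
        (Scheme.zariskiPrecoverage_le_fppfPrecoverage _ 𝒰.mem₀)
    · rintro W w ⟨Y, a, b, ⟨i⟩, rfl⟩
      obtain ⟨s, hs, h⟩ := hg i
      refine ⟨a ≫ s, by simp only [Category.assoc, ← hs], ?_⟩
      have := Mem.precomp ι h (Over.homMk a : Over.mk (a ≫ s) ⟶ Over.mk s)
      convert this using 1
      ext
      simp
  · intro T' T h _ _ _ g hg
    refine key g (Sieve.generate (Presieve.singleton h)) ?_ ?_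
    · exact Precoverage.generate_mem_toGrothendieck (Scheme.Hom.singleton_mem_fppfPrecoverage h)
    · rintro W w ⟨Y, a, b, ⟨⟩, rfl⟩
      obtain ⟨s, hs, h'⟩ := hg
      refine ⟨a ≫ s, by simp only [Category.assoc, ← hs], ?_⟩
      have := Mem.precomp ι h' (Over.homMk a : Over.mk (a ≫ s) ⟶ Over.mk s)
      convert this using 1
      ext
      simp

/-- **Closed subfunctors are representable if they are so after an fppf covering.** -/
theorem exists_representableBy (hι : ∀ T : (Over S)ᵒᵖ, Function.Injective (ι.app T))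
    (hF : Presieve.IsSheaf (QuotSh.J Scheme.fppfPrecoverage S) F)
    {U W' : Over S} (f : U ⟶ X) [Flat f.left] [LocallyOfFinitePresentation f.left] [Surjective f.left]
    (i' : W' ⟶ U) [IsClosedImmersion i'.left]
    (h : ∀ (T : Over S) (x : T ⟶ U), Mem ι (x ≫ f) ↔ ∃ w : T ⟶ W', w ≫ i' = x) :
    ∃ (W : Over S) (i : W ⟶ X) (e : F.RepresentableBy W), IsClosedImmersion i.left ∧
      ∀ (T : Over S) (w : T ⟶ W), ι.app (op T) (e.homEquiv w) = w ≫ i := by
  obtain ⟨W, i, hi, hW⟩ := exists_isClosedImmersion (Pred ι) (isLocalPred ι hι hF) f.left i'.left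
    (fun {T} g => by
      let T' : Over S := Over.mk (g ≫ U.hom)
      let x : T' ⟶ U := Over.homMk g
      have h1 := h T' x
      rw [← pred_iff] at h1
      refine h1.trans ⟨?_, ?_⟩
      · rintro ⟨w, hw⟩
        exact ⟨w.left, congrArg CommaMorphism.left hw⟩
      · rintro ⟨w, hw⟩
        refine ⟨Over.homMk w (by
          change w ≫ W'.hom = g ≫ U.hom
          rw [← hw, Category.assoc, Over.w]), ?_⟩
        ext
        exact hw)
  let W₀ : Over S := Over.mk (i ≫ X.hom)
  let i₀ : W₀ ⟶ X := Over.homMk i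
  have hmem : ∀ (T : Over S) (x : T ⟶ X), Mem ι x ↔ ∃ w : T ⟶ W₀, w ≫ i₀ = x := by
    intro T x
    rw [← pred_iff, hW]
    constructor
    · rintro ⟨w, hw⟩
      refine ⟨Over.homMk w (by
          change w ≫ i ≫ X.hom = T.hom
          rw [← Category.assoc, hw, Over.w]), ?_⟩
      ext
      exact hw
    · rintro ⟨w, hw⟩
      exact ⟨w.left, congrArg CommaMorphism.left hw⟩
  have hmono : Mono i₀ := by
    have : Mono i₀.left := inferInstanceAs (Mono i)
    exact Over.mono_of_mono_left i₀
  have hex : ∀ (T : Over S) (w : T ⟶ W₀), ∃ φ : F.obj (op T), ι.app (op T) φ = w ≫ i₀ :=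
    fun T w => (hmem T (w ≫ i₀)).2 ⟨w, rfl⟩
  choose φ hφ using hex
  let e : F.RepresentableBy W₀ :=
    { homEquiv := fun {T} => Equiv.ofBijective (φ T) (by
        constructor
        · intro w w' hww
          rw [← cancel_mono i₀, ← hφ, ← hφ, hww]
        · intro ψ
          obtain ⟨w, hw⟩ := (hmem T (ι.app (op T) ψ)).1 ⟨ψ, rfl⟩
          exact ⟨w, hι _ ((hφ T w).trans hw)⟩)
      homEquiv_comp := fun {T T'} t w => by
        apply hι
        change ι.app (op T) (φ T (t ≫ w)) = ι.app (op T) (F.map t.op (φ T' w))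
        rw [hφ]
        have h2 : ι.app (op T) (F.map t.op (φ T' w)) = t ≫ ι.app (op T') (φ T' w) :=
          NatTrans.naturality_apply ι t.op _
        rw [h2, hφ, Category.assoc] }
  exact ⟨W₀, i₀, e, hi, fun T w => hφ T w⟩

end K950.RepClosed
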