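import Mathlib.AlgebraicGeometry.Sites.BigZariski
import Mathlib.AlgebraicGeometry.Sites.Pretopology
import Mathlib.CategoryTheory.Sites.SubcanonicalOver

/-!
# Morphisms of Zariski sheaves on schemes over `S` may be tested on affine schemes
-/

set_option autoImplicit false

universe v₁ u₁ w u

open CategoryTheory CategoryTheory.Limits AlgebraicGeometry Opposite

namespace K950.ZarAff

section General

variable {C : Type u₁} [Category.{v₁} C] {J : GrothendieckTopology C} {F G : Cᵒᵖ ⥤ Type w} (α : F ⟶ G)

/-- Two elements of a separated presheaf with the same image are equal if they are so on a covering sieve. -/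
theorem ext_of_sieve (hF : Presieve.IsSeparated J F) {T : C} {R : Sieve T} (hR : R ∈ J T)
    (h : ∀ ⦃W : C⦄ (w : W ⟶ T), R w → Function.Injective (α.app (op W))) :
    Function.Injective (α.app (op T)) := by
  intro x y hxy
  apply (hF R hR).ext
  intro W w hw
  apply h w hw
  have h1 := NatTrans.naturality_apply α w.op x
  have h2 := NatTrans.naturality_apply α w.op y
  rw [h1, h2, hxy]

/-- An element of `G` comes from the sheaf `F` if it does so on a covering sieve. -/
theorem mem_range_of_sieve (hF : Presieve.IsSheaf J F) (hG : Presieve.IsSeparated J G)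
    (hα : ∀ T : C, Function.Injective (α.app (op T))) {T : C} {R : Sieve T} (hR : R ∈ J T) (y : G.obj (op T))
    (h : ∀ ⦃W : C⦄ (w : W ⟶ T), R w → ∃ x, α.app (op W) x = G.map w.op y) : ∃ x, α.app (op T) x = y := by
  choose φ hφ using h
  let fam : Presieve.FamilyOfElements F R.arrows := fun W w hw => φ w hw
  have hfam : fam.Compatible := by
    rw [Presieve.compatible_iff_sieveCompatible]
    intro W W' w v hw
    apply hα
    have h1 : α.app (op W') (φ (v ≫ w) (R.downward_closed hw v)) = G.map (v ≫ w).op y := hφ _ _
    have h2 : α.app (op W') (F.map v.op (φ w hw)) = G.map v.op (G.map w.op y) := by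
      rw [← hφ w hw]
      exact NatTrans.naturality_apply α v.op _
    have h3 : G.map (v ≫ w).op y = G.map v.op (G.map w.op y) := by
      rw [op_comp, Functor.map_comp]; rfl
    exact (h1.trans h3).trans h2.symm
  refine ⟨(hF R hR).amalgamate fam hfam, ?_⟩
  apply (hG R hR).ext
  intro W w hw
  have h1 : F.map w.op ((hF R hR).amalgamate fam hfam) = φ w hw := (hF R hR).valid_glue hfam w hw
  have h2 : α.app (op W) (F.map w.op ((hF R hR).amalgamate fam hfam)) =
      G.map w.op (α.app (op T) ((hF R hR).amalgamate fam hfam)) := NatTrans.naturality_apply α w.op _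
  rw [← h2, h1]
  exact hφ w hw

end General

variable {S : Scheme.{u}}

/-- The sieve of the objects over `T` factoring through an affine open of `T`. -/
def affSieve (T : Over S) : Sieve T where
  arrows W w := ∃ (V : Over S) (v : V ⟶ T) (k : W ⟶ V), IsAffine V.left ∧ IsOpenImmersion v.left ∧ k ≫ v = w
  downward_closed := by
    rintro W W' w ⟨V, v, k, h1, h2, rfl⟩ u
    exact ⟨V, v, u ≫ k, h1, h2, Category.assoc _ _ _⟩

theorem affSieve_mem (T : Over S) : affSieve T ∈ (Scheme.zariskiTopology.over S) T := by
  rw [GrothendieckTopology.mem_over_iff]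
  refine Scheme.zariskiTopology.superset_covering ?_ T.left.affineCover.mem_grothendieckTopology
  rintro W w ⟨Y, a, b, ⟨i⟩, rfl⟩
  rw [Sieve.overEquiv_iff]
  refine ⟨Over.mk (T.left.affineCover.f i ≫ T.hom), Over.homMk (T.left.affineCover.f i), Over.homMk a (by simp), ?_, ?_, ?_⟩
  · change IsAffine (T.left.affineCover.X i)
    infer_instance
  · change IsOpenImmersion (T.left.affineCover.f i)
    infer_instance
  · ext
    simp

/-- The sieve of the objects over `T` factoring through an affine open of `T` that maps into an affine open of the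
base. -/
def affSieve' (T : Over S) : Sieve T where
  arrows W w := ∃ (V : Over S) (v : V ⟶ T) (k : W ⟶ V) (A : S.Opens), IsAffine V.left ∧ IsOpenImmersion v.left ∧
    IsAffineOpen A ∧ (∃ m : V.left ⟶ A.toScheme, m ≫ A.ι = V.hom) ∧ k ≫ v = w
  downward_closed := by
    rintro W W' w ⟨V, v, k, A, h1, h2, h3, h4, rfl⟩ u
    exact ⟨V, v, u ≫ k, A, h1, h2, h3, h4, Category.assoc _ _ _⟩

/-- A sheaf for the Zariski topology over `S`: a morphism of sheaves injective on affine objects is injective. -/
theorem app_injective {F G : (Over S)ᵒᵖ ⥤ Type w} (α : F ⟶ G)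
    (hF : Presieve.IsSheaf (Scheme.zariskiTopology.over S) F)
    (h : ∀ V : Over S, IsAffine V.left → Function.Injective (α.app (op V))) (T : Over S) :
    Function.Injective (α.app (op T)) := by
  have h1 : ∀ x y : F.obj (op T), α.app (op T) x = α.app (op T) y → x = y := by
    intro x y hxy
    apply (hF _ (affSieve_mem T)).isSeparatedFor.ext
    rintro W w ⟨V, v, k, hV, hv, rfl⟩
    have h2 : F.map v.op x = F.map v.op y := by
      apply h V hV
      have h1 := NatTrans.naturality_apply α v.op x
      have h2 := NatTrans.naturality_apply α v.op y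
      rw [h1, h2, hxy]
    rw [op_comp, Functor.map_comp]
    exact congrArg (F.map k.op) h2
  exact fun x y => h1 x y

/-- A morphism of Zariski sheaves that is bijective on affine objects is an isomorphism. -/
theorem isIso_of_bijective {F G : (Over S)ᵒᵖ ⥤ Type w} (α : F ⟶ G)
    (hF : Presieve.IsSheaf (Scheme.zariskiTopology.over S) F)
    (hG : Presieve.IsSheaf (Scheme.zariskiTopology.over S) G)
    (h : ∀ V : Over S, IsAffine V.left → Function.Bijective (α.app (op V))) : IsIso α := by
  rw [NatTrans.isIso_iff_isIso_app]
  rintro ⟨T⟩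
  rw [isIso_iff_bijective]
  have hinj := app_injective α hF fun V hV => (h V hV).1
  refine ⟨hinj T, fun y => ?_⟩
  refine mem_range_of_sieve α hF (fun _ R hR => (hG R hR).isSeparatedFor) (fun T => hinj T) (affSieve_mem T) y ?_
  rintro W w ⟨V, v, k, hV, hv, rfl⟩
  obtain ⟨x, hx⟩ := (h V hV).2 (G.map v.op y)
  refine ⟨F.map k.op x, ?_⟩
  have h1 := NatTrans.naturality_apply α k.op x
  rw [h1, hx, op_comp, Functor.map_comp]
  rfl

end K950.ZarAff
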