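import Groth.Agent.Magnet.K950.RepClosed
import Groth.Agent.Magnet.K950.ZarAff

/-!
# Closed subfunctors that are cut out by an ideal over every affine open are representable
-/

set_option autoImplicit false

universe u

open CategoryTheory CategoryTheory.Limits AlgebraicGeometry Opposite TopologicalSpace

namespace K950.RepZar

open K950.ClosedDescent K950.RepClosed

/-- A property of morphisms to `X`, local for the Zariski topology, that is cut out by an ideal over every affine open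
subset is cut out by an ideal sheaf. -/
theorem exists_idealSheafData_of_cutOut {X : Scheme.{u}} (P : ∀ T : Scheme.{u}, (T ⟶ X) → Prop)
    (hpre : ∀ {T' T : Scheme.{u}} (h : T' ⟶ T) (g : T ⟶ X), P _ g → P _ (h ≫ g))
    (hzar : ∀ {T : Scheme.{u}} (g : T ⟶ X) (𝒰 : Scheme.OpenCover.{u} T), (∀ i, P _ (𝒰.f i ≫ g)) → P _ g)
    (h : ∀ V : X.affineOpens, ∃ I : Ideal Γ(X, V), CutOut P V.1 I) :
    ∃ I : X.IdealSheafData, ∀ {T : Scheme.{u}} (g : T ⟶ X), P _ g ↔ I ≤ g.ker := by
  choose I hI using h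
  refine ⟨⟨I, fun V s => ?_, _, rfl⟩, fun {T} g => ?_⟩
  · exact CutOut.unique (X.affineBasicOpen s).2 (CutOut.restrict _ (hI V)) (hI _)
  · have hker : ∀ V : X.affineOpens, P _ ((g ⁻¹ᵁ V.1).ι ≫ g) ↔ I V ≤ RingHom.ker (g.app V.1).hom := by
      intro V
      rw [← morphismRestrict_ι, hI V, topIso_inv_restrict]
      have e : RingHom.ker (g.app V.1 ≫ (g ⁻¹ᵁ V.1).topIso.inv).hom = RingHom.ker (g.app V.1).hom := by
        ext x
        rw [CommRingCat.hom_comp, RingHom.mem_ker, RingHom.comp_apply, RingHom.mem_ker,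
          map_eq_zero_iff _ ((ConcreteCategory.bijective_of_isIso (g ⁻¹ᵁ V.1).topIso.inv).1)]
      rw [e]
    refine Iff.trans ?_ Scheme.IdealSheafData.le_ofIdeals_iff.symm
    constructor
    · intro hg V
      exact (hker V).1 (hpre _ g hg)
    · intro hg
      have hcov : IsOpenCover fun V : X.affineOpens => g ⁻¹ᵁ V.1 :=
        (X.isBasis_affineOpens.isOpenCover).comap g.base.hom
      exact hzar g (T.openCoverOfIsOpenCover _ hcov) fun V => (hker V).2 (hg V)

/-- If moreover it holds on affine schemes, `CutOut` holds in general. -/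
theorem cutOut_of_affine {X : Scheme.{u}} (P : ∀ T : Scheme.{u}, (T ⟶ X) → Prop)
    (hpre : ∀ {T' T : Scheme.{u}} (h : T' ⟶ T) (g : T ⟶ X), P _ g → P _ (h ≫ g))
    (hzar : ∀ {T : Scheme.{u}} (g : T ⟶ X) (𝒰 : Scheme.OpenCover.{u} T), (∀ i, P _ (𝒰.f i ≫ g)) → P _ g)
    (V : X.Opens) (I : Ideal Γ(V.toScheme, ⊤))
    (h : ∀ {T : Scheme.{u}} [IsAffine T] (g : T ⟶ V.toScheme), P _ (g ≫ V.ι) ↔ I ≤ RingHom.ker g.appTop.hom) :
    CutOut P V (I.comap V.topIso.inv.hom) := by
  intro T g
  have hsurj : Function.Surjective V.topIso.inv.hom :=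
    (ConcreteCategory.bijective_of_isIso V.topIso.inv).2
  rw [CommRingCat.hom_comp, ← RingHom.comap_ker, Ideal.comap_le_comap_iff_of_surjective _ hsurj]
  constructor
  · intro hg r hr
    rw [RingHom.mem_ker]
    refine Scheme.zero_of_zero_cover _ T.affineCover fun i => ?_
    have h1 := (h (T.affineCover.f i ≫ g)).1 (by rw [Category.assoc]; exact hpre _ _ hg) hr
    rw [RingHom.mem_ker, Scheme.Hom.comp_appTop] at h1
    exact h1
  · intro hg
    apply hzar _ T.affineCover
    intro i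
    rw [← Category.assoc, h]
    intro r hr
    have h1 := hg hr
    rw [RingHom.mem_ker] at h1 ⊢
    rw [Scheme.Hom.comp_appTop, CommRingCat.hom_comp, RingHom.comp_apply, h1, map_zero]

variable {S : Scheme.{u}} {F : (Over S)ᵒᵖ ⥤ Type u} {X : Over S} (ι : F ⟶ yoneda.obj X)

theorem pred_precomp {T' T : Scheme.{u}} (h : T' ⟶ T) (g : T ⟶ X.left) (hg : Pred ι T g) : Pred ι T' (h ≫ g) := by
  obtain ⟨s, hs, hg⟩ := hg
  exact ⟨h ≫ s, by rw [Category.assoc, hs],
    Mem.precomp ι hg (Over.homMk h : Over.mk (h ≫ s) ⟶ Over.mk s)⟩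

theorem pred_zariski (hι : ∀ T : (Over S)ᵒᵖ, Function.Injective (ι.app T))
    (hF : Presieve.IsSheaf (Scheme.zariskiTopology.over S) F) {T : Scheme.{u}} (g : T ⟶ X.left)
    (𝒰 : Scheme.OpenCover.{u} T) (hg : ∀ i, Pred ι _ (𝒰.f i ≫ g)) : Pred ι T g := by
  refine ⟨g ≫ X.hom, rfl, ?_⟩
  refine Mem.of_sieve ι hι hF (T := Over.mk (g ≫ X.hom)) (R := (Sieve.overEquiv _).symm
    (Sieve.generate (Presieve.ofArrows 𝒰.X 𝒰.f)))
    (GrothendieckTopology.overEquiv_symm_mem_over _ _ _ 𝒰.mem_grothendieckTopology) fun W w hw => ?_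
  rw [← pred_iff]
  obtain ⟨Y, a, b, ⟨i⟩, hab⟩ := (Sieve.overEquiv_symm_iff _ _).1 hw
  have : (w ≫ (Over.homMk g : Over.mk (g ≫ X.hom) ⟶ X)).left = a ≫ 𝒰.f i ≫ g := by
    rw [Over.comp_left, ← hab, Category.assoc]
    rfl
  rw [this]
  exact pred_precomp ι a _ (hg i)

/-- **Closed subfunctors that are cut out by an ideal over every affine open are representable.**  The condition need
only be tested on affine schemes. -/
theorem exists_representableBy (hι : ∀ T : (Over S)ᵒᵖ, Function.Injective (ι.app T))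
    (hF : Presieve.IsSheaf (Scheme.zariskiTopology.over S) F)
    (h : ∀ (U : Over S) (f : U ⟶ X) [IsAffine U.left] [IsOpenImmersion f.left], ∃ I : Ideal Γ(U.left, ⊤),
      ∀ (T : Over S) [IsAffine T.left] (x : T ⟶ U), Mem ι (x ≫ f) ↔ I ≤ RingHom.ker x.left.appTop.hom) :
    ∃ (W : Over S) (i : W ⟶ X) (e : F.RepresentableBy W), IsClosedImmersion i.left ∧
      ∀ (T : Over S) (w : T ⟶ W), ι.app (op T) (e.homEquiv w) = w ≫ i := by
  obtain ⟨I, hI⟩ := exists_idealSheafData_of_cutOut (Pred ι) (pred_precomp ι) (pred_zariski ι hι hF) (by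
    intro V
    let U : Over S := Over.mk (V.1.ι ≫ X.hom)
    let f : U ⟶ X := Over.homMk V.1.ι
    have h1 : IsAffine U.left := V.2
    have h2 : IsOpenImmersion f.left := inferInstanceAs (IsOpenImmersion V.1.ι)
    obtain ⟨I, hI⟩ := h U f
    refine ⟨_, cutOut_of_affine (Pred ι) (pred_precomp ι) (pred_zariski ι hι hF) V.1 I ?_⟩
    intro T _ g
    let T' : Over S := Over.mk (g ≫ U.hom)
    have hT' : IsAffine T'.left := ‹IsAffine T›
    let x : T' ⟶ U := Over.homMk g
    exact (pred_iff ι (x ≫ f)).trans (hI T' x))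
  let W₀ : Over S := Over.mk (I.subschemeι ≫ X.hom)
  let i₀ : W₀ ⟶ X := Over.homMk I.subschemeι
  have hmem : ∀ (T : Over S) (x : T ⟶ X), Mem ι x ↔ ∃ w : T ⟶ W₀, w ≫ i₀ = x := by
    intro T x
    rw [← pred_iff, hI]
    constructor
    · intro hx
      refine ⟨Over.homMk (IsClosedImmersion.lift I.subschemeι x.left (by
          rwa [Scheme.IdealSheafData.ker_subschemeι])) (by
          change _ ≫ I.subschemeι ≫ X.hom = T.hom
          rw [IsClosedImmersion.lift_fac_assoc, Over.w]), ?_⟩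
      ext
      exact IsClosedImmersion.lift_fac _ _ _
    · rintro ⟨w, rfl⟩
      have := Scheme.Hom.le_ker_comp w.left I.subschemeι
      rwa [Scheme.IdealSheafData.ker_subschemeι] at this
  have hmono : Mono i₀ := by
    have : Mono i₀.left := inferInstanceAs (Mono I.subschemeι)
    exact Over.mono_of_mono_left i₀
  have hex : ∀ (T : Over S) (w : T ⟶ W₀), ∃ φ : F.obj (op T), ι.app (op T) φ = w ≫ i₀ :=
    fun T w => (hmem T (w ≫ i₀)).2 ⟨w, rfl⟩
  choose φ hφ using hex
  let e : F.RepresentableBy W₀ :=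
    { homEquiv := fun {T} => Equiv.ofBijective (φ T) (by
        constructor
        · intro w w' hww
          rw [← cancel_mono i₀, ← hφ, ← hφ, hww]
        · intro ψ
          obtain ⟨w, hw⟩ := (hmem T (ι.app (op T) ψ)).1 ⟨ψ, rfl⟩
          exact ⟨w, hι _ ((hφ T w).trans hw)⟩)
      homEquiv_comp := fun {T T'} t w => by
        apply hι
        change ι.app (op T) (φ T (t ≫ w)) = ι.app (op T) (F.map t.op (φ T' w))
        rw [hφ]
        have h2 : ι.app (op T) (F.map t.op (φ T' w)) = t ≫ ι.app (op T') (φ T' w) :=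
          NatTrans.naturality_apply ι t.op _
        rw [h2, hφ, Category.assoc] }
  exact ⟨W₀, i₀, e, inferInstanceAs (IsClosedImmersion I.subschemeι), fun T w => hφ T w⟩

end K950.RepZar
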