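import Groth.Prelude.Def_Magnet4
import Groth.Agent.Magnet.K951.Stab
import Groth.Agent.Magnet.K951.Pts
import Groth.Agent.Magnet.K949.Dominant
import Mathlib.AlgebraicGeometry.Morphisms.Immersion
import Mathlib.AlgebraicGeometry.Morphisms.UniversallyOpen
import Mathlib.RingTheory.FiniteType
import Mathlib.RingTheory.FinitePresentation

/-!
# Stable subsets for the actions of `D(M)_S` over an arbitrary base, `M` a commutative group
-/

set_option autoImplicit false

universe u

open CategoryTheory MonoidalCategory CartesianMonoidalCategory MonObj AlgebraicGeometry Opposite Limits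

namespace K950.StabG

open Magnet Magnet.MonAct K951.Pts K951.Stab

section FP

/-- `A(M)_S` is flat over `S`. -/
instance flat_amonS (S : Scheme.{u}) (M : Type) [AddCommMonoid M] : Flat (AMonS S M).hom := by
  have : Flat (AMon (ULift.{u} ℤ) M).hom := by
    change Flat (Spec.map (CommRingCat.ofHom (algebraMap (ULift.{u} ℤ) (MonoidAlgebra (ULift.{u} ℤ) (Multiplicative M)))))
    rw [HasRingHomProperty.Spec_iff (P := @Flat)]
    change (algebraMap (ULift.{u} ℤ) (MonoidAlgebra (ULift.{u} ℤ) (Multiplicative M))).Flat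
    rw [RingHom.flat_algebraMap_iff]
    infer_instance
  exact MorphismProperty.pullback_snd (P := @Flat) _ _ this

/-- `A(M)_S` is locally of finite presentation over `S` for `M` finitely generated. -/
theorem lfp_amonS (S : Scheme.{u}) (M : Type) [AddCommMonoid M] [AddMonoid.FG M] :
    LocallyOfFinitePresentation (AMonS S M).hom := by
  have : LocallyOfFinitePresentation (AMon (ULift.{u} ℤ) M).hom := by
    change LocallyOfFinitePresentation
      (Spec.map (CommRingCat.ofHom (algebraMap (ULift.{u} ℤ) (MonoidAlgebra (ULift.{u} ℤ) (Multiplicative M)))))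
    rw [HasRingHomProperty.Spec_iff (P := @LocallyOfFinitePresentation)]
    change (algebraMap (ULift.{u} ℤ) (MonoidAlgebra (ULift.{u} ℤ) (Multiplicative M))).FinitePresentation
    rw [RingHom.finitePresentation_algebraMap]
    have h1 : IsNoetherianRing (ULift.{u} ℤ) := isNoetherianRing_of_ringEquiv ℤ (ULift.ringEquiv).symm
    have h2 : Monoid.FG (Multiplicative M) := inferInstance
    exact Algebra.FinitePresentation.of_finiteType.1 inferInstance
  exact MorphismProperty.pullback_snd (P := @LocallyOfFinitePresentation) _ _ this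

theorem isOpenMap_snd (S : Scheme.{u}) (M : Type) [AddCommMonoid M] [AddMonoid.FG M] (X : Over S) :
    IsOpenMap (snd (AMonS S M) X).left := by
  have h1 := lfp_amonS S M
  have h2 : Flat (snd (AMonS S M) X).left := MorphismProperty.pullback_snd (P := @Flat) _ _ (flat_amonS S M)
  have h3 : LocallyOfFinitePresentation (snd (AMonS S M) X).left :=
    MorphismProperty.pullback_snd (P := @LocallyOfFinitePresentation) _ _ h1
  exact Scheme.Hom.isOpenMap _

end FP

variable {S : Scheme.{u}} {M : Type} [AddCommGroup M] {X : Over S}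

variable (S M) in
/-- Inversion of `D(M)_S`. -/
noncomputable def iv : AMonS S M ⟶ AMonS S M := AMonS.map S (negAddMonoidHom : M →+ M)

theorem chi_iv {W : Over S} (g : W ⟶ AMonS S M) (m : M) :
    chi (g ≫ iv S M) (Multiplicative.ofAdd m) = chi g (Multiplicative.ofAdd (-m)) := by
  rw [iv, chi_map_apply]
  rfl

theorem iv_mul {W : Over S} (g : W ⟶ AMonS S M) : (g ≫ iv S M) * g = 1 := by
  apply chi_injective
  rw [chi_mul, chi_one]
  refine MonoidHom.ext fun m => ?_
  have h := chi_iv g (Multiplicative.toAdd m)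
  rw [MonoidHom.mul_apply, MonoidHom.one_apply]
  rw [ofAdd_toAdd] at h
  rw [h]
  change chi g (Multiplicative.ofAdd (-(Multiplicative.toAdd m))) * chi g (Multiplicative.ofAdd (Multiplicative.toAdd m)) = 1
  rw [← map_mul, ← ofAdd_add, neg_add_cancel, ofAdd_zero, map_one]

theorem iv_iv {W : Over S} (g : W ⟶ AMonS S M) : (g ≫ iv S M) ≫ iv S M = g := by
  apply chi_injective
  refine MonoidHom.ext fun m => ?_
  have h := chi_iv (g ≫ iv S M) (Multiplicative.toAdd m)
  rw [ofAdd_toAdd] at h
  rw [h, chi_iv, neg_neg, ofAdd_toAdd]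

variable (a : MonAct (AMonS S M) X)

/-- The automorphism `(g, x) ↦ (g⁻¹, g x)`. -/
noncomputable def sh : AMonS S M ⊗ X ⟶ AMonS S M ⊗ X := lift (fst _ _ ≫ iv S M) a.act

theorem lift_sh {T : Over S} (g : T ⟶ AMonS S M) (x : T ⟶ X) :
    lift g x ≫ sh a = lift (g ≫ iv S M) (lift g x ≫ a.act) := by
  rw [sh, comp_lift, lift_fst_assoc]

theorem sh_snd : sh a ≫ snd _ X = a.act := by rw [sh, lift_snd]

theorem sh_act : sh a ≫ a.act = snd _ X := by
  apply hom_ext_lift₂
  intro T g x
  rw [← Category.assoc, lift_sh, ← a.lift_mul_act, iv_mul, a.lift_one_act, lift_snd]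

theorem sh_sh : sh a ≫ sh a = 𝟙 _ := by
  apply hom_ext_lift₂
  intro T g x
  rw [← Category.assoc, lift_sh, lift_sh, ← a.lift_mul_act, iv_mul, a.lift_one_act, iv_iv,
    Category.comp_id]

theorem isIso_sh_left : IsIso (sh a).left := ⟨(sh a).left, by rw [← Over.comp_left, sh_sh, Over.id_left],
  by rw [← Over.comp_left, sh_sh, Over.id_left]⟩

theorem isOpenMap_act [AddGroup.FG M] : IsOpenMap a.act.left := by
  have h1 : a.act.left = (sh a).left ≫ (snd _ X).left := by rw [← Over.comp_left, sh_snd]
  have := isIso_sh_left a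
  rw [h1]
  have h2 : IsOpenMap (sh a).left := (sh a).left.homeomorph.isOpenMap
  have h3 : AddMonoid.FG M := AddGroup.fg_iff_addMonoid_fg.1 ‹_›
  exact (isOpenMap_snd S M X).comp h2

/-- A subset stable under a group action has the same preimage under the action and under the projection. -/
theorem preimage_eq (E : Set X.left) (h : ∀ q : (AMonS S M ⊗ X).left, (snd _ X).left q ∈ E → a.act.left q ∈ E) :
    (snd (AMonS S M) X).left ⁻¹' E = a.act.left ⁻¹' E := by
  ext q
  refine ⟨fun hq => h q hq, fun hq => ?_⟩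
  have h1 := h ((sh a).left q)
  rw [← Scheme.Hom.comp_apply, ← Scheme.Hom.comp_apply, ← Over.comp_left, ← Over.comp_left, sh_act, sh_snd] at h1
  exact h1 hq

theorem mem_iff {a : MonAct (AMonS S M) X} {W : X.left.Opens} (h : IsStable a W) (q : (AMonS S M ⊗ X).left) :
    (snd _ X).left q ∈ W ↔ a.act.left q ∈ W := by
  have h1 := preimage_eq a (W : Set X.left) (fun q hq => h hq)
  exact Set.ext_iff.1 h1 q

/-- The coborder of a stable subset is stable. -/
theorem coborder_stable [AddGroup.FG M] (E : Set X.left)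
    (h : ∀ q : (AMonS S M ⊗ X).left, (snd _ X).left q ∈ E → a.act.left q ∈ E)
    (q : (AMonS S M ⊗ X).left) (hq : (snd _ X).left q ∈ coborder E) : a.act.left q ∈ coborder E := by
  have h3 : AddMonoid.FG M := AddGroup.fg_iff_addMonoid_fg.1 ‹_›
  have h1 := coborder_preimage (isOpenMap_snd S M X) (snd (AMonS S M) X).left.continuous E
  have h2 := coborder_preimage (isOpenMap_act a) a.act.left.continuous E
  rw [preimage_eq a E h, h2] at h1
  have h3 : q ∈ (snd (AMonS S M) X).left ⁻¹' coborder E := hq
  rw [← h1] at h3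
  exact h3

section Face

variable {N Q : AddSubmonoid M} (hQ : IsFace N Q)

/-- The product of the distinguished point of the face with any point lies in the face. -/
theorem one_faceMap_mul {W : Over S} (b : W ⟶ AMonS S N) :
    ((1 : W ⟶ AMonS S Q) ≫ AMonS.faceMap S hQ) * b =
      (b ≫ AMonS.map S (AddSubmonoid.inclusion hQ.le)) ≫ AMonS.faceMap S hQ := by
  classical
  apply chi_injective
  rw [chi_mul]
  refine MonoidHom.ext fun n => ?_
  have h1 := chi_faceMap hQ (1 : W ⟶ AMonS S Q) (Multiplicative.toAdd n)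
  have h2 := chi_faceMap hQ (b ≫ AMonS.map S (AddSubmonoid.inclusion hQ.le)) (Multiplicative.toAdd n)
  rw [MonoidHom.mul_apply]
  rw [ofAdd_toAdd] at h1 h2
  rw [h1, h2]
  by_cases h : ((Multiplicative.toAdd n : N) : M) ∈ Q
  · rw [dif_pos h, dif_pos h, chi_one, MonoidHom.one_apply, _root_.one_mul, chi_map_apply]
    rfl
  · rw [dif_neg h, dif_neg h, zero_mul]

/-- **A stable open subset of `A(N)_S ×_S Y` containing `A(Q)_S ×_S Y`, for `Q` a face of `N`, is everything.** -/
theorem eq_top_of_stable (Y : Over S) (W : (AMonS S N ⊗ Y).left.Opens)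
    (hW : IsStable ((subAct S M N).prod (MonAct.trivial (AMonS S M) Y)) W)
    (h0 : (AMonS.faceMap S hQ ▷ Y).left ⁻¹ᵁ W = ⊤) : W = ⊤ := by
  rw [eq_top_iff]
  intro p _
  let T := resOver (AMonS S N ⊗ Y) p
  let w : T ⟶ AMonS S N ⊗ Y := resMap (AMonS S N ⊗ Y) p
  obtain ⟨pt, hpt⟩ : p ∈ Set.range w.left := by
    change _ ∈ Set.range ((AMonS S N ⊗ Y).left.fromSpecResidueField _)
    rw [Scheme.range_fromSpecResidueField]
    rfl
  have hsub : Subsingleton T.left := inferInstanceAs (Subsingleton (PrimeSpectrum _))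
  -- the orbit map of `w`
  let h : AMonS S N ⊗ T ⟶ AMonS S N ⊗ Y := lift (fst _ T * (snd _ T ≫ w ≫ fst _ Y)) (snd _ T ≫ w ≫ snd _ Y)
  let e : T ⟶ AMonS S N := (1 : T ⟶ AMonS S Q) ≫ AMonS.faceMap S hQ
  -- it meets `W`
  have hne : (lift e (𝟙 T)).left pt ∈ h.left ⁻¹ᵁ W := by
    have h1 : lift e (𝟙 T) ≫ h =
        lift ((w ≫ fst _ Y) ≫ AMonS.map S (AddSubmonoid.inclusion hQ.le)) (w ≫ snd _ Y) ≫
          (AMonS.faceMap S hQ ▷ Y) := by
      simp only [h]
      rw [comp_lift, MonObj.comp_mul, lift_fst, lift_snd_assoc, lift_snd_assoc, Category.id_comp,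
        Category.id_comp, lift_whiskerRight]
      congr 1
      exact one_faceMap_mul hQ _
    change h.left ((lift e (𝟙 T)).left pt) ∈ W
    rw [← Scheme.Hom.comp_apply, ← Over.comp_left, h1, Over.comp_left, Scheme.Hom.comp_apply]
    have h2 : (lift ((w ≫ fst _ Y) ≫ AMonS.map S (AddSubmonoid.inclusion hQ.le)) (w ≫ snd _ Y)).left pt ∈
        (AMonS.faceMap S hQ ▷ Y).left ⁻¹ᵁ W := by rw [h0]; trivial
    exact h2
  have hdom' := K949.Dominant.dominant_map (S := S) N.subtype Subtype.val_injective T
  have haff := K949.Dominant.isAffineHom_map (S := S) N.subtype T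
  have hdom : IsDominant (AMonS.map S N.subtype ▷ T).left := inferInstance
  obtain ⟨_, hq1, ⟨q, rfl⟩⟩ := hdom.denseRange.inter_open_nonempty _ (h.left ⁻¹ᵁ W).isOpen ⟨_, hne⟩
  have h3 : (AMonS.map S N.subtype ▷ T) ≫ h =
      (AMonS S M ◁ w) ≫ ((subAct S M N).prod (MonAct.trivial (AMonS S M) Y)).act := by
    apply hom_ext_lift₂
    intro T' g t
    simp only [h]
    rw [lift_whiskerRight_assoc, lift_whiskerLeft_assoc, comp_lift, MonObj.comp_mul, lift_fst, lift_snd_assoc,
      lift_snd_assoc]
    conv_rhs => rw [← lift_comp_fst_snd (t ≫ w), lift_prod_act, lift_trivial_act]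
    congr 1
    change _ = lift g _ ≫ ((MonAct.regular _).restrict _).act
    rw [lift_restrict_act, lift_regular_act, Category.assoc]
  have h4 : ((subAct S M N).prod (MonAct.trivial (AMonS S M) Y)).act.left ((AMonS S M ◁ w).left q) ∈ W := by
    rw [← Scheme.Hom.comp_apply, ← Over.comp_left, ← h3, Over.comp_left, Scheme.Hom.comp_apply]
    exact hq1
  rw [← mem_iff hW, ← Scheme.Hom.comp_apply, ← Over.comp_left, whiskerLeft_snd, Over.comp_left,
    Scheme.Hom.comp_apply] at h4
  have h5 : (snd (AMonS S M) T).left q = pt := Subsingleton.elim _ _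
  rw [h5, hpt] at h4
  exact h4

end Face

/-- The locus where two morphisms agree. -/
noncomputable def eqz {P : Over S} (f g : P ⟶ X) : Over S :=
  Over.mk (equalizer.ι f.left g.left ≫ P.hom)

/-- Its inclusion. -/
noncomputable def eqzι {P : Over S} (f g : P ⟶ X) : eqz f g ⟶ P :=
  Over.homMk (equalizer.ι f.left g.left) rfl

theorem eqzι_condition {P : Over S} (f g : P ⟶ X) : eqzι f g ≫ f = eqzι f g ≫ g := by
  ext1
  exact equalizer.condition f.left g.left

theorem exists_eqz {P T : Over S} (f g : P ⟶ X) (t : T ⟶ P) (h : t ≫ f = t ≫ g) :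
    ∃ s : T ⟶ eqz f g, s ≫ eqzι f g = t := by
  have h' : t.left ≫ f.left = t.left ≫ g.left := congr(($h).left)
  refine ⟨Over.homMk (equalizer.lift t.left h') ?_, ?_⟩
  · change equalizer.lift t.left h' ≫ equalizer.ι f.left g.left ≫ P.hom = T.hom
    rw [equalizer.lift_ι_assoc, Over.w]
  · ext1
    exact equalizer.lift_ι _ _

/-- The locus where two `S`-morphisms agree is a subscheme. -/
theorem isImmersion_eqzι {P : Over S} (f g : P ⟶ X) : IsImmersion (eqzι f g).left := by
  have hp : IsPullback (eqzι f g).left ((eqzι f g).left ≫ f.left)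
      (pullback.lift f.left g.left (by rw [Over.w, Over.w])) (pullback.diagonal X.hom) := by
    refine ⟨⟨?_⟩, ⟨PullbackCone.IsLimit.mk _ (fun s => equalizer.lift s.fst ?_) ?_ ?_ ?_⟩⟩
    · apply pullback.hom_ext
      · rw [Category.assoc, Category.assoc, Category.assoc, pullback.lift_fst, pullback.diagonal_fst, Category.comp_id]
      · rw [Category.assoc, Category.assoc, Category.assoc, pullback.lift_snd, pullback.diagonal_snd, Category.comp_id]
        exact (equalizer.condition f.left g.left).symm
    · have h1 := congrArg (fun k => k ≫ pullback.fst _ _) s.condition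
      have h2 := congrArg (fun k => k ≫ pullback.snd _ _) s.condition
      simp only [Category.assoc, pullback.lift_fst, pullback.diagonal_fst, Category.comp_id] at h1
      simp only [Category.assoc, pullback.lift_snd, pullback.diagonal_snd, Category.comp_id] at h2
      rw [h1, h2]
    · intro s
      exact equalizer.lift_ι _ _
    · intro s
      have h1 := congrArg (fun k => k ≫ pullback.fst _ _) s.condition
      simp only [Category.assoc, pullback.lift_fst, pullback.diagonal_fst, Category.comp_id] at h1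
      change equalizer.lift _ _ ≫ equalizer.ι _ _ ≫ f.left = _
      rw [equalizer.lift_ι_assoc, h1]
    · intro s m h1 _
      apply equalizer.hom_ext
      rw [equalizer.lift_ι]
      exact h1
  exact MorphismProperty.of_isPullback (P := @IsImmersion) hp.flip inferInstance

/-- **Two equivariant maps on `A(N)_S ×_S Y` agreeing on `A(Q)_S ×_S Y`, for `Q` a face of `N`, agree on a closed
subscheme.** -/
theorem isClosedImmersion_eqz [AddGroup.FG M] {N Q : AddSubmonoid M} (hQ : IsFace N Q) {Y : Over S}
    (f g : AMonS S N ⊗ Y ⟶ X)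
    (hf : IsEquivariant ((subAct S M N).prod (MonAct.trivial (AMonS S M) Y)) a f)
    (hg : IsEquivariant ((subAct S M N).prod (MonAct.trivial (AMonS S M) Y)) a g)
    (h0 : (AMonS.faceMap S hQ ▷ Y) ≫ f = (AMonS.faceMap S hQ ▷ Y) ≫ g) : IsClosedImmersion (eqzι f g).left := by
  have himm := isImmersion_eqzι f g
  apply IsClosedImmersion.of_isPreimmersion
  set E : Set (AMonS S N ⊗ Y).left := Set.range (eqzι f g).left with hE
  set ρ := (subAct S M N).prod (MonAct.trivial (AMonS S M) Y) with hρ
  have hst : ∀ q : (AMonS S M ⊗ (AMonS S N ⊗ Y)).left, (snd _ (AMonS S N ⊗ Y)).left q ∈ E → ρ.act.left q ∈ E := by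
    rintro q ⟨u, hu⟩
    obtain ⟨r, -, hr⟩ := Scheme.exists_preimage_of_isPullback (isPullback_whiskerLeft_left (AMonS S M) (eqzι f g)) u q hu
    obtain ⟨s, hs⟩ := exists_eqz f g ((AMonS S M ◁ eqzι f g) ≫ ρ.act) (by
      rw [Category.assoc, Category.assoc, hf, hg, ← Category.assoc, ← Category.assoc,
        ← MonoidalCategory.whiskerLeft_comp, ← MonoidalCategory.whiskerLeft_comp, eqzι_condition])
    refine ⟨s.left r, ?_⟩
    rw [← hr, ← Scheme.Hom.comp_apply, ← Over.comp_left, hs, Over.comp_left, Scheme.Hom.comp_apply]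
  have hlc : IsLocallyClosed E := (eqzι f g).left.isLocallyClosed_range
  let W : (AMonS S N ⊗ Y).left.Opens := ⟨coborder E, hlc.isOpen_coborder⟩
  have hW : W = ⊤ := by
    refine eq_top_of_stable hQ Y W (fun q hq => coborder_stable ρ E hst q hq) ?_
    rw [eq_top_iff]
    intro y _
    obtain ⟨s, hs⟩ := exists_eqz f g _ h0
    change (AMonS.faceMap S hQ ▷ Y).left y ∈ coborder E
    apply subset_coborder
    rw [← hs]
    exact ⟨s.left y, (Scheme.Hom.comp_apply _ _ _).symm⟩
  rw [← coborder_eq_univ_iff]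
  exact congrArg (fun U : (AMonS S N ⊗ Y).left.Opens => (U : Set (AMonS S N ⊗ Y).left)) hW

end K950.StabG
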