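import Mathlib.RingTheory.Smooth.Basic
import Mathlib.LinearAlgebra.SymmetricAlgebra.Basic
import Mathlib.RingTheory.Ideal.Cotangent
import Mathlib.Algebra.TrivSqZeroExt.Basic
import Mathlib.RingTheory.FinitePresentation

/-!
# Algebras with a retraction, formally smooth over a smaller ring: lifting, the conormal module is projective
-/

set_option autoImplicit false

namespace K950.SymA

universe u v w

section Lift

variable {R : Type u} {C : Type v} {B : Type w} [CommRing R] [CommRing C] [CommRing B] [Algebra R C] [Algebra R B]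
  [Algebra C B] [IsScalarTower R C B] (π : B →ₐ[C] C)

include R in
/-- Lifting of `C`-algebra maps out of an algebra `B` with a retraction to `C`, formally smooth over a smaller ring. -/
theorem exists_lift [Algebra.FormallySmooth R B] {E E' : Type*} [CommRing E] [CommRing E'] [Algebra C E]
    [Algebra C E'] (g : E →ₐ[C] E') (hg : Function.Surjective g) (ε : E →ₐ[C] C)
    (h1 : ∀ x y, ε x = 0 → g y = 0 → x * y = 0) (h2 : ∀ y, g y = 0 → ε y = 0)
    (f : B →ₐ[C] E') (hf : ∀ b e, g e = f b → ε e = π b) :
    ∃ f' : B →ₐ[C] E, ∀ b, g (f' b) = f b := by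
  let _ : Algebra R E := ((algebraMap C E).comp (algebraMap R C)).toAlgebra
  let _ : Algebra R E' := ((algebraMap C E').comp (algebraMap R C)).toAlgebra
  have : IsScalarTower R C E := .of_algebraMap_eq (fun _ => rfl)
  have : IsScalarTower R C E' := .of_algebraMap_eq (fun _ => rfl)
  have hnil : IsNilpotent (RingHom.ker (g.restrictScalars R : E →+* E')) := ⟨2, by
    rw [pow_two, Ideal.zero_eq_bot, eq_bot_iff, Ideal.mul_le]
    intro x hx y hy
    exact h1 x y (h2 x hx) hy⟩
  let t : B →ₐ[R] E :=
    Algebra.FormallySmooth.liftOfSurjective (f.restrictScalars R) (g.restrictScalars R) hg hnil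
  have ht : ∀ b, g (t b) = f b := fun b =>
    Algebra.FormallySmooth.liftOfSurjective_apply (f.restrictScalars R) (g.restrictScalars R) hg hnil b
  have hε : ∀ b, ε (t b) = π b := fun b => hf b (t b) (ht b)
  let q : B → E := fun b => t b - t (algebraMap C B (π b)) + algebraMap C E (π b)
  have hq : ∀ b, g (q b) = f b := by
    intro b
    simp only [q]
    rw [map_add, map_sub, ht, ht, AlgHom.commutes, AlgHom.commutes, sub_add_cancel]
  have hπ : ∀ c, π (algebraMap C B c) = c := fun c => π.commutes c
  let f' : B →ₐ[C] E :=
    { toFun := q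
      map_one' := by
        simp only [q]
        rw [map_one, map_one, map_one, map_one, map_one, sub_self, zero_add]
      map_zero' := by
        simp only [q]
        rw [map_zero, map_zero, map_zero, map_zero, map_zero, sub_self, zero_add]
      map_add' := fun b b' => by
        simp only [q]
        rw [map_add, map_add, map_add, map_add, map_add]
        ring
      map_mul' := fun b b' => by
        have e1 : (t b - t (algebraMap C B (π b))) * (t (algebraMap C B (π b')) - algebraMap C E (π b')) = 0 := by
          apply h1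
          · rw [map_sub, hε, hε, hπ, sub_self]
          · rw [map_sub, ht, AlgHom.commutes, AlgHom.commutes, sub_self]
        have e2 : (t b' - t (algebraMap C B (π b'))) * (t (algebraMap C B (π b)) - algebraMap C E (π b)) = 0 := by
          apply h1
          · rw [map_sub, hε, hε, hπ, sub_self]
          · rw [map_sub, ht, AlgHom.commutes, AlgHom.commutes, sub_self]
        simp only [q]
        rw [map_mul, map_mul, map_mul, map_mul, map_mul]
        linear_combination e1 + e2
      commutes' := fun c => by
        simp only [q]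
        rw [hπ, sub_self, zero_add] }
  exact ⟨f', hq⟩

end Lift

section Proj

variable {R : Type u} {C : Type v} {B : Type w} [CommRing R] [CommRing C] [CommRing B] [Algebra R C] [Algebra R B]
  [Algebra C B] [IsScalarTower R C B] (π : B →ₐ[C] C)

/-- The conormal module of the retraction. -/
abbrev Cn : Type w := (RingHom.ker π).Cotangent

/-- The canonical map from the quotient by the square of the augmentation ideal. -/
noncomputable def aug2 : B ⧸ (RingHom.ker π) ^ 2 →ₐ[C] C :=
  Ideal.Quotient.liftₐ _ π (fun b hb => by
    have := Ideal.pow_le_self (two_ne_zero) hb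
    exact this)

theorem aug2_mk (b : B) : aug2 π (Ideal.Quotient.mk _ b) = π b := rfl

/-- The inclusion of the conormal module. -/
noncomputable def incl : Cn π →ₗ[C] B ⧸ (RingHom.ker π) ^ 2 :=
  (RingHom.ker π).cotangentToQuotientSquare.restrictScalars C

theorem incl_toCotangent (x : RingHom.ker π) :
    incl π ((RingHom.ker π).toCotangent x) = Ideal.Quotient.mk _ (x : B) := rfl

theorem incl_injective : Function.Injective (incl π) :=
  Ideal.cotangentToQuotientSquare_injective _

theorem aug2_incl (p : Cn π) : aug2 π (incl π p) = 0 := by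
  obtain ⟨x, rfl⟩ := Ideal.toCotangent_surjective _ p
  rw [incl_toCotangent, aug2_mk]
  exact x.2

theorem incl_mul_incl (p p' : Cn π) : incl π p * incl π p' = 0 := by
  obtain ⟨x, rfl⟩ := Ideal.toCotangent_surjective _ p
  obtain ⟨x', rfl⟩ := Ideal.toCotangent_surjective _ p'
  rw [incl_toCotangent, incl_toCotangent, ← map_mul, Ideal.Quotient.eq_zero_iff_mem, pow_two]
  exact Ideal.mul_mem_mul x.2 x'.2

include R in
/-- **The conormal module of the retraction is projective.** -/
theorem projective [Algebra.FormallySmooth R B] : Module.Projective C (Cn π) := by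
  let F := Cn π →₀ C
  let γ : F →ₗ[C] Cn π := Finsupp.linearCombination C id
  have hγ : Function.Surjective γ := Finsupp.linearCombination_id_surjective C (Cn π)
  let g : TrivSqZeroExt C F →ₐ[C] B ⧸ (RingHom.ker π) ^ 2 :=
    TrivSqZeroExt.liftEquivOfComm ⟨incl π ∘ₗ γ, fun x y => incl_mul_incl π _ _⟩
  have hg : ∀ x, g x = algebraMap C _ x.fst + incl π (γ x.snd) := fun x => rfl
  let ε : TrivSqZeroExt C F →ₐ[C] C := TrivSqZeroExt.fstHom C C F
  have hgε : ∀ x, aug2 π (g x) = ε x := by
    intro x
    rw [hg, map_add, aug2_incl, add_zero, AlgHom.commutes]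
    rfl
  obtain ⟨f', hf'⟩ := exists_lift (R := R) π g (by
    intro y
    obtain ⟨b, rfl⟩ := Ideal.Quotient.mk_surjective y
    have hb : b - algebraMap C B (π b) ∈ RingHom.ker π := by
      rw [RingHom.mem_ker, map_sub, AlgHom.commutes]
      exact sub_self _
    obtain ⟨z, hz⟩ := hγ ((RingHom.ker π).toCotangent ⟨_, hb⟩)
    refine ⟨TrivSqZeroExt.inl (π b) + TrivSqZeroExt.inr z, ?_⟩
    rw [hg, TrivSqZeroExt.fst_add, TrivSqZeroExt.snd_add, TrivSqZeroExt.fst_inl, TrivSqZeroExt.fst_inr,
      TrivSqZeroExt.snd_inl, TrivSqZeroExt.snd_inr, add_zero, zero_add, hz, incl_toCotangent]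
    change algebraMap C _ (π b) + (Ideal.Quotient.mk _ (b - algebraMap C B (π b))) = _
    rw [map_sub]
    change Ideal.Quotient.mk _ (algebraMap C B (π b)) + _ = _
    ring) ε (by
    intro x y hx hy
    have hy' : ε y = 0 := by rw [← hgε, hy, map_zero]
    change x.fst = 0 at hx
    change y.fst = 0 at hy'
    ext
    · rw [TrivSqZeroExt.fst_mul, hx, zero_mul]; rfl
    · rw [TrivSqZeroExt.snd_mul, hx, hy']
      simp) (fun y hy => by rw [← hgε, hy, map_zero]) (Ideal.Quotient.mkₐ C _) (by
    intro b e he
    rw [← hgε, he]
    rfl)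
  have hfst : ∀ b, (f' b).fst = π b := by
    intro b
    have := congrArg (aug2 π) (hf' b)
    rw [hgε] at this
    exact this
  let s : Cn π →ₗ[C] F := Ideal.Cotangent.lift
    ((TrivSqZeroExt.sndHom C F) ∘ₗ f'.toLinearMap ∘ₗ ((RingHom.ker π).subtype.restrictScalars C)) (by
      intro x y
      change (f' ((x : B) * (y : B))).snd = 0
      have hx : π (x : B) = 0 := x.2
      have hy : π (y : B) = 0 := y.2
      rw [map_mul, TrivSqZeroExt.snd_mul, hfst, hfst, hx, hy]
      simp)
  refine ⟨⟨s, fun p => ?_⟩⟩
  obtain ⟨x, rfl⟩ := Ideal.toCotangent_surjective _ p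
  apply incl_injective
  have h1 := hf' (x : B)
  rw [hg, hfst] at h1
  have hx : π (x : B) = 0 := x.2
  rw [hx, map_zero, zero_add] at h1
  exact h1

/-- The `B`-module structure of the conormal module factors through the retraction. -/
theorem smul_eq (b : B) (p : Cn π) : b • p = π b • p := by
  obtain ⟨x, rfl⟩ := Ideal.toCotangent_surjective _ p
  have h1 : π b • (RingHom.ker π).toCotangent x = (RingHom.ker π).toCotangent (algebraMap C B (π b) • x) := by
    rw [map_smul, algebraMap_smul]
  rw [h1, ← map_smul, Ideal.toCotangent_eq, pow_two]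
  have h2 : ((b • x : RingHom.ker π) : B) - ((algebraMap C B (π b) • x : RingHom.ker π) : B) =
      (b - algebraMap C B (π b)) * x := by
    change b * (x : B) - algebraMap C B (π b) * x = _
    ring
  rw [h2]
  refine Ideal.mul_mem_mul ?_ x.2
  rw [RingHom.mem_ker, map_sub, AlgHom.commutes]
  exact sub_self _

theorem finite (h : (RingHom.ker π).FG) : Module.Finite C (Cn π) := by
  have : Module.Finite B (RingHom.ker π) := Module.Finite.iff_fg.2 h
  have h1 : Module.Finite B (Cn π) := Module.Finite.of_surjective _ (Ideal.toCotangent_surjective _)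
  obtain ⟨S, hS⟩ := h1.1
  refine ⟨⟨S, ?_⟩⟩
  rw [eq_top_iff]
  intro p _
  have hp : p ∈ Submodule.span B (S : Set (Cn π)) := by rw [hS]; trivial
  induction hp using Submodule.span_induction with
  | mem x hx => exact Submodule.subset_span hx
  | zero => exact Submodule.zero_mem _
  | add x y _ _ hx hy => exact Submodule.add_mem _ (hx trivial) (hy trivial)
  | smul b x _ hx =>
    rw [smul_eq]
    exact Submodule.smul_mem _ _ (hx trivial)

theorem ker_fg [Algebra.FiniteType C B] : (RingHom.ker π).FG := by
  obtain ⟨n, f, hf⟩ := Algebra.FiniteType.iff_quotient_mvPolynomial''.1 ‹Algebra.FiniteType C B›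
  have hsurj : Function.Surjective (π.comp f) := by
    intro c
    obtain ⟨x, hx⟩ := hf (algebraMap C B c)
    exact ⟨x, by rw [AlgHom.comp_apply, hx]; exact π.commutes c⟩
  have h1 := (Algebra.FinitePresentation.ker_fg_of_mvPolynomial (π.comp f) hsurj).map f.toRingHom
  convert h1 using 1
  ext b
  constructor
  · intro hb
    obtain ⟨x, rfl⟩ := hf b
    exact Ideal.mem_map_of_mem _ hb
  · intro hb
    have : (RingHom.ker (π.comp f).toRingHom).map f.toRingHom ≤ RingHom.ker π := by
      rw [Ideal.map_le_iff_le_comap]
      intro x hx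
      exact hx
    exact this hb

end Proj

end K950.SymA
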