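import Groth.Agent.Magnet.K950.SymA
import Mathlib.RingTheory.Ideal.Quotient.Operations

/-!
# Positively graded formally smooth algebras are symmetric algebras
-/

set_option autoImplicit false

namespace K950.SymB

universe u v w

open Polynomial K950.SymA

section Grade

variable {C : Type v} {B : Type w} [CommRing C] [CommRing B] [Algebra C B] (π : B →ₐ[C] C)
  (δ : B →ₐ[C] B[X])

/-- The component of degree `k`. -/
noncomputable def cc (k : ℕ) : B →ₗ[C] B := ((lcoeff B k).restrictScalars C) ∘ₗ δ.toLinearMap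

theorem cc_apply (k : ℕ) (b : B) : cc δ k b = (δ b).coeff k := rfl

theorem cc_mul (k : ℕ) (b b' : B) :
    cc δ k (b * b') = ∑ x ∈ Finset.antidiagonal k, cc δ x.1 b * cc δ x.2 b' := by
  rw [cc_apply, map_mul, coeff_mul]
  rfl

variable {δ}

section

variable (h1 : ∀ b, (δ b).eval 1 = b) (h2 : ∀ b k, δ ((δ b).coeff k) = monomial k ((δ b).coeff k))
  (h3 : ∀ b, (δ b).coeff 0 = algebraMap C B (π b))

include h2 in
theorem cc_cc (k l : ℕ) (b : B) : cc δ k (cc δ l b) = if l = k then cc δ l b else 0 := by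
  rw [cc_apply, cc_apply, h2, coeff_monomial]

include h3 in
theorem cc_zero (b : B) : cc δ 0 b = algebraMap C B (π b) := h3 b

include h2 h3 in
theorem π_cc {k : ℕ} (hk : k ≠ 0) (b : B) : π (cc δ k b) = 0 := by
  have e1 := cc_zero π h3 (cc δ k b)
  rw [cc_cc h2, if_neg hk] at e1
  have e2 := congrArg π e1
  rw [map_zero] at e2
  exact ((π.commutes _).symm.trans e2.symm)

include h1 in
theorem sum_cc (b : B) (n : ℕ) (hn : (δ b).natDegree < n) : ∑ k ∈ Finset.range n, cc δ k b = b := by
  conv_rhs => rw [← h1 b, eval_eq_sum_range' hn]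
  refine Finset.sum_congr rfl fun k _ => ?_
  rw [one_pow, mul_one]
  rfl

include h2 h3 in
theorem cc_mem (k : ℕ) {x : B} (hx : x ∈ RingHom.ker π) : cc δ k x ∈ RingHom.ker π := by
  by_cases hk : k = 0
  · subst hk
    rw [cc_zero π h3]
    have : π x = 0 := hx
    rw [this, map_zero]
    exact zero_mem _
  · exact π_cc π h2 h3 hk x

include h2 h3 in
theorem cc_mem_sq (k : ℕ) {y : B} (hy : y ∈ (RingHom.ker π) ^ 2) : cc δ k y ∈ (RingHom.ker π) ^ 2 := by
  rw [pow_two] at hy ⊢
  induction hy using Submodule.mul_induction_on' with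
  | mem_mul_mem x hx x' hx' =>
    rw [cc_mul]
    exact Ideal.sum_mem _ fun i _ => Ideal.mul_mem_mul (cc_mem π h2 h3 _ hx) (cc_mem π h2 h3 _ hx')
  | add x _ y _ hx hy =>
    rw [map_add]
    exact Ideal.add_mem _ hx hy

/-- The components on the augmentation ideal. -/
noncomputable def ccI (h2 : ∀ b k, δ ((δ b).coeff k) = monomial k ((δ b).coeff k))
    (h3 : ∀ b, (δ b).coeff 0 = algebraMap C B (π b)) (k : ℕ) : RingHom.ker π →ₗ[C] RingHom.ker π where
  toFun x := ⟨cc δ k x, cc_mem π h2 h3 k x.2⟩
  map_add' x y := Subtype.ext (map_add _ _ _)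
  map_smul' c x := Subtype.ext ((cc δ k).map_smul c (x : B))

/-- The components on the conormal module. -/
noncomputable def cbar (h2 : ∀ b k, δ ((δ b).coeff k) = monomial k ((δ b).coeff k))
    (h3 : ∀ b, (δ b).coeff 0 = algebraMap C B (π b)) (k : ℕ) : Cn π →ₗ[C] Cn π :=
  Ideal.Cotangent.lift (((RingHom.ker π).toCotangent.restrictScalars C) ∘ₗ ccI π h2 h3 k) (by
    rintro ⟨x, hx⟩ ⟨y, hy⟩
    refine ((RingHom.ker π).toCotangent_eq_zero _).2 ?_
    refine cc_mem_sq π h2 h3 k ?_
    rw [pow_two]
    exact Ideal.mul_mem_mul hx hy)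

theorem cbar_toCotangent (k : ℕ) (x : RingHom.ker π) :
    cbar π h2 h3 k ((RingHom.ker π).toCotangent x) = (RingHom.ker π).toCotangent (ccI π h2 h3 k x) := rfl

theorem ccI_ccI (k l : ℕ) (x : RingHom.ker π) :
    ccI π h2 h3 k (ccI π h2 h3 l x) = if l = k then ccI π h2 h3 l x else 0 := by
  apply Subtype.ext
  refine (cc_cc h2 k l (x : B)).trans ?_
  split_ifs <;> rfl

theorem cbar_cbar (k l : ℕ) (p : Cn π) :
    cbar π h2 h3 k (cbar π h2 h3 l p) = if l = k then cbar π h2 h3 l p else 0 := by
  obtain ⟨x, rfl⟩ := Ideal.toCotangent_surjective _ p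
  rw [cbar_toCotangent, cbar_toCotangent, ccI_ccI]
  split_ifs <;> simp

include h1 in
theorem exists_bound (h : Module.Finite C (Cn π)) :
    ∃ n : ℕ, ∀ p, ∑ k ∈ Finset.range n, cbar π h2 h3 k p = p := by
  classical
  obtain ⟨S, hS⟩ := h.1
  have key : ∀ p : Cn π, ∃ n₀ : ℕ, ∀ n, n₀ ≤ n → ∑ k ∈ Finset.range n, cbar π h2 h3 k p = p := by
    intro p
    obtain ⟨x, rfl⟩ := Ideal.toCotangent_surjective _ p
    refine ⟨(δ (x : B)).natDegree + 1, fun n hn => ?_⟩
    have e1 : ∑ k ∈ Finset.range n, ccI π h2 h3 k x = x := by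
      apply Subtype.ext
      rw [AddSubmonoidClass.coe_finsetSum]
      exact sum_cc h1 (x : B) n (by omega)
    conv_rhs => rw [← e1, map_sum]
    rfl
  choose f hf using key
  let n := S.sup f
  refine ⟨n, ?_⟩
  have e : (∑ k ∈ Finset.range n, cbar π h2 h3 k) = LinearMap.id := by
    apply LinearMap.ext_on hS
    intro p hp
    rw [LinearMap.sum_apply]
    exact hf p n (Finset.le_sup hp)
  intro p
  have := congrArg (fun l : Cn π →ₗ[C] Cn π => l p) e
  simp only [LinearMap.sum_apply] at this
  exact this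

include h1 h2 h3 in
/-- **Graded sections.** -/
theorem exists_section (h : Module.Finite C (Cn π)) (h' : Module.Projective C (Cn π)) :
    ∃ s : Cn π →ₗ[C] RingHom.ker π, (∀ p, (RingHom.ker π).toCotangent (s p) = p) ∧
      ∀ p k, ∃ p', cc δ k (s p : B) = s p' := by
  obtain ⟨n, hn⟩ := exists_bound π h1 h2 h3 h
  obtain ⟨s₀, hs₀⟩ := Module.projective_lifting_property ((RingHom.ker π).toCotangent.restrictScalars C)
    LinearMap.id (Ideal.toCotangent_surjective _)
  have hs₀' : ∀ p, (RingHom.ker π).toCotangent (s₀ p) = p := fun p => congrArg (fun l => l p) hs₀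
  let s : Cn π →ₗ[C] RingHom.ker π := ∑ k ∈ Finset.range n, ccI π h2 h3 k ∘ₗ s₀ ∘ₗ cbar π h2 h3 k
  have hs : ∀ p, s p = ∑ k ∈ Finset.range n, ccI π h2 h3 k (s₀ (cbar π h2 h3 k p)) := by
    intro p
    simp only [s, LinearMap.sum_apply]
    rfl
  refine ⟨s, fun p => ?_, fun p k => ?_⟩
  · rw [hs, map_sum]
    conv_rhs => rw [← hn p]
    refine Finset.sum_congr rfl fun k _ => ?_
    rw [← cbar_toCotangent, hs₀', cbar_cbar, if_pos rfl]
  · have e1 : ccI π h2 h3 k (s p) = if k ∈ Finset.range n then ccI π h2 h3 k (s₀ (cbar π h2 h3 k p)) else 0 := by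
      rw [hs, map_sum]
      simp only [ccI_ccI]
      rw [Finset.sum_ite_eq' (Finset.range n) k]
    by_cases hk : k ∈ Finset.range n
    · refine ⟨cbar π h2 h3 k p, ?_⟩
      rw [if_pos hk] at e1
      have e2 : s (cbar π h2 h3 k p) = ccI π h2 h3 k (s₀ (cbar π h2 h3 k p)) := by
        rw [hs]
        rw [Finset.sum_eq_single_of_mem k hk]
        · rw [cbar_cbar, if_pos rfl]
        · intro j _ hj
          rw [cbar_cbar, if_neg (Ne.symm hj), map_zero, map_zero]
      rw [e2, ← e1]
      rfl
    · refine ⟨0, ?_⟩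
      rw [if_neg hk] at e1
      rw [map_zero]
      exact congrArg Subtype.val e1

include h1 h2 h3 in
/-- **Surjectivity.** -/
theorem lift_surjective (s : Cn π →ₗ[C] RingHom.ker π) (hs : ∀ p, (RingHom.ker π).toCotangent (s p) = p)
    (hs' : ∀ p k, ∃ p', cc δ k (s p : B) = s p') :
    Function.Surjective (SymmetricAlgebra.lift (((RingHom.ker π).subtype.restrictScalars C) ∘ₗ s) :
      SymmetricAlgebra C (Cn π) →ₐ[C] B) := by
  set θ : SymmetricAlgebra C (Cn π) →ₐ[C] B :=
    SymmetricAlgebra.lift (((RingHom.ker π).subtype.restrictScalars C) ∘ₗ s) with hθ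
  have hι : ∀ p, θ (SymmetricAlgebra.ι C _ p) = (s p : B) := fun p => SymmetricAlgebra.lift_ι_apply _ p
  have key : ∀ k b, cc δ k b ∈ θ.range := by
    intro k
    induction k using Nat.strong_induction_on with
    | _ k ih =>
    intro b
    by_cases hk : k = 0
    · subst hk
      rw [cc_zero π h3]
      exact Subalgebra.algebraMap_mem _ _
    · have hb : b - algebraMap C B (π b) ∈ RingHom.ker π := by
        rw [RingHom.mem_ker, map_sub, AlgHom.commutes]
        exact sub_self _
      let p := (RingHom.ker π).toCotangent ⟨_, hb⟩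
      have hy : (b - algebraMap C B (π b)) - s p ∈ (RingHom.ker π) ^ 2 :=
        ((RingHom.ker π).toCotangent_eq (x := ⟨_, hb⟩) (y := s p)).1 (hs p).symm
      have hc : cc δ k (algebraMap C B (π b)) = 0 := by
        have e1 := congrArg (cc δ k) (cc_zero π h3 b)
        rw [← e1, cc_cc h2, if_neg (Ne.symm hk)]
      have e : b = algebraMap C B (π b) + s p + ((b - algebraMap C B (π b)) - s p) := by ring
      rw [e, map_add, map_add, hc, zero_add]
      refine Subalgebra.add_mem _ ?_ ?_
      · obtain ⟨p', hp'⟩ := hs' p k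
        rw [hp', ← hι]
        exact ⟨_, rfl⟩
      · generalize (b - algebraMap C B (π b)) - (s p : B) = y at hy
        rw [pow_two] at hy
        induction hy using Submodule.mul_induction_on' with
        | mem_mul_mem x hx x' hx' =>
          rw [cc_mul]
          refine Subalgebra.sum_mem _ fun i hi => ?_
          have hx0 : cc δ 0 x = 0 := by
            rw [cc_zero π h3]
            have : π x = 0 := hx
            rw [this, map_zero]
          have hx0' : cc δ 0 x' = 0 := by
            rw [cc_zero π h3]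
            have : π x' = 0 := hx'
            rw [this, map_zero]
          have hi' := Finset.mem_antidiagonal.1 hi
          by_cases h₁ : i.1 = 0
          · rw [h₁, hx0, zero_mul]
            exact Subalgebra.zero_mem _
          by_cases h₂ : i.2 = 0
          · rw [h₂, hx0', mul_zero]
            exact Subalgebra.zero_mem _
          exact Subalgebra.mul_mem _ (ih _ (by omega) _) (ih _ (by omega) _)
        | add x _ y _ hx hy =>
          rw [map_add]
          exact Subalgebra.add_mem _ hx hy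
  intro b
  have hb : b ∈ θ.range := by
    rw [← sum_cc h1 b _ (Nat.lt_succ_self _)]
    exact Subalgebra.sum_mem _ fun k _ => key k b
  exact hb

end

end Grade

end K950.SymB
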