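import Groth.Agent.Magnet.K950.SymB

/-!
# Positively graded formally smooth algebras are symmetric algebras: injectivity and the theorem
-/

set_option autoImplicit false

namespace K950.SymC

universe u v w

open Polynomial K950.SymA K950.SymB

section Sym

variable {C : Type v} [CommRing C] {P : Type w} [AddCommGroup P] [Module C P]

/-- The augmentation ideal of the symmetric algebra. -/
noncomputable abbrev J (C : Type v) [CommRing C] (P : Type w) [AddCommGroup P] [Module C P] :
    Ideal (SymmetricAlgebra C P) :=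
  RingHom.ker (SymmetricAlgebra.algebraMapInv : SymmetricAlgebra C P →ₐ[C] C)

theorem ι_mem (p : P) : SymmetricAlgebra.ι C P p ∈ J C P := SymmetricAlgebra.algebraMapInv_ι p

theorem sub_mem_span (x : SymmetricAlgebra C P) :
    x - algebraMap C _ (SymmetricAlgebra.algebraMapInv x) ∈ Ideal.span (Set.range (SymmetricAlgebra.ι C P)) := by
  induction x using SymmetricAlgebra.induction with
  | algebraMap r =>
    rw [AlgHom.commutes]
    change algebraMap C _ r - algebraMap C _ r ∈ _
    rw [sub_self]
    exact zero_mem _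
  | ι p =>
    rw [SymmetricAlgebra.algebraMapInv_ι, map_zero, sub_zero]
    exact Ideal.subset_span ⟨p, rfl⟩
  | mul a b ha hb =>
    have e : a * b - algebraMap C _ (SymmetricAlgebra.algebraMapInv (a * b)) =
        (a - algebraMap C _ (SymmetricAlgebra.algebraMapInv a)) * b +
          algebraMap C _ (SymmetricAlgebra.algebraMapInv a) * (b - algebraMap C _ (SymmetricAlgebra.algebraMapInv b)) := by
      rw [map_mul, map_mul]
      ring
    rw [e]
    exact Ideal.add_mem _ (Ideal.mul_mem_right _ _ ha) (Ideal.mul_mem_left _ _ hb)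
  | add a b ha hb =>
    have e : a + b - algebraMap C _ (SymmetricAlgebra.algebraMapInv (a + b)) =
        (a - algebraMap C _ (SymmetricAlgebra.algebraMapInv a)) +
          (b - algebraMap C _ (SymmetricAlgebra.algebraMapInv b)) := by
      rw [map_add, map_add]
      ring
    rw [e]
    exact Ideal.add_mem _ ha hb

theorem J_eq : J C P = Ideal.span (Set.range (SymmetricAlgebra.ι C P)) := by
  apply le_antisymm
  · intro x hx
    have h := sub_mem_span x
    have hx' : SymmetricAlgebra.algebraMapInv x = 0 := hx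
    rwa [hx', map_zero, sub_zero] at h
  · rw [Ideal.span_le]
    rintro _ ⟨p, rfl⟩
    exact ι_mem p

/-- The standard grading of the symmetric algebra. -/
noncomputable def δs : SymmetricAlgebra C P →ₐ[C] (SymmetricAlgebra C P)[X] :=
  SymmetricAlgebra.lift (((monomial 1).restrictScalars C) ∘ₗ SymmetricAlgebra.ι C P)

theorem δs_ι (p : P) : δs (SymmetricAlgebra.ι C P p) = monomial 1 (SymmetricAlgebra.ι C P p) :=
  SymmetricAlgebra.lift_ι_apply _ p

theorem eval_δs (x : SymmetricAlgebra C P) : (δs x).eval 1 = x := by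
  have h : ((Polynomial.aeval (R := SymmetricAlgebra C P) (1 : SymmetricAlgebra C P)).restrictScalars C).comp δs =
      AlgHom.id C _ := by
    apply SymmetricAlgebra.algHom_ext
    ext p
    change Polynomial.aeval (1 : SymmetricAlgebra C P) (δs (SymmetricAlgebra.ι C P p)) = _
    rw [δs_ι, aeval_monomial]
    simp
  have := congrArg (fun f : SymmetricAlgebra C P →ₐ[C] SymmetricAlgebra C P => f x) h
  rw [← Polynomial.coe_aeval_eq_eval]
  exact this

theorem dvd_δs {x : SymmetricAlgebra C P} (hx : x ∈ J C P) : X ∣ δs x := by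
  rw [J_eq] at hx
  induction hx using Submodule.span_induction with
  | mem y hy =>
    obtain ⟨p, rfl⟩ := hy
    rw [δs_ι]
    exact ⟨Polynomial.C (SymmetricAlgebra.ι C P p), by rw [← Polynomial.C_mul_X_pow_eq_monomial, pow_one, mul_comm]⟩
  | zero => rw [map_zero]; exact dvd_zero _
  | add y z _ _ hy hz => rw [map_add]; exact dvd_add hy hz
  | smul a y _ hy =>
    rw [smul_eq_mul, map_mul]
    exact Dvd.dvd.mul_left hy _

theorem pow_dvd_δs (k : ℕ) {x : SymmetricAlgebra C P} (hx : x ∈ (J C P) ^ k) : X ^ k ∣ δs x := by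
  induction k generalizing x with
  | zero => rw [pow_zero]; exact one_dvd _
  | succ k ih =>
    rw [pow_succ] at hx
    induction hx using Submodule.mul_induction_on' with
    | mem_mul_mem y hy z hz =>
      rw [map_mul, pow_succ]
      exact mul_dvd_mul (ih hy) (dvd_δs hz)
    | add y _ z _ hy hz =>
      rw [map_add]
      exact dvd_add hy hz

theorem eq_zero_of_forall {x : SymmetricAlgebra C P} (hx : ∀ k, x ∈ (J C P) ^ k) : x = 0 := by
  have h : δs x = 0 := by
    ext k
    have h1 := pow_dvd_δs (k + 1) (hx (k + 1))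
    rw [Polynomial.X_pow_dvd_iff] at h1
    exact (h1 k (Nat.lt_succ_self k)).trans (Polynomial.coeff_zero k).symm
  rw [← eval_δs x, h, Polynomial.eval_zero]

/-- Two ring maps out of the symmetric algebra agreeing to first order agree on the graded pieces. -/
theorem sub_mem_pow {Q : Type*} [CommRing Q] (I : Ideal Q) (α β : SymmetricAlgebra C P →+* Q)
    (h0 : ∀ x, α x - β x ∈ I) (h1 : ∀ p, β (SymmetricAlgebra.ι C P p) ∈ I)
    (h2 : ∀ p, α (SymmetricAlgebra.ι C P p) - β (SymmetricAlgebra.ι C P p) ∈ I ^ 2)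
    (k : ℕ) {x : SymmetricAlgebra C P} (hx : x ∈ (J C P) ^ k) : α x - β x ∈ I ^ (k + 1) ∧ β x ∈ I ^ k := by
  have hJ : ∀ y ∈ J C P, α y - β y ∈ I ^ 2 ∧ β y ∈ I := by
    intro y hy
    rw [J_eq] at hy
    induction hy using Submodule.span_induction with
    | mem y hy =>
      obtain ⟨p, rfl⟩ := hy
      exact ⟨h2 p, h1 p⟩
    | zero => rw [map_zero, map_zero, sub_zero]; exact ⟨zero_mem _, zero_mem _⟩
    | add y z _ _ hy hz =>
      have e : α (y + z) - β (y + z) = (α y - β y) + (α z - β z) := by rw [map_add, map_add]; ring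
      rw [e, map_add]
      exact ⟨Ideal.add_mem _ hy.1 hz.1, Ideal.add_mem _ hy.2 hz.2⟩
    | smul a y _ hy =>
      have e : α (a * y) - β (a * y) = (α a - β a) * (α y - β y) + (α a - β a) * β y + β a * (α y - β y) := by
        rw [map_mul, map_mul]; ring
      rw [smul_eq_mul, e, map_mul]
      refine ⟨Ideal.add_mem _ (Ideal.add_mem _ (Ideal.mul_mem_left _ _ hy.1) ?_) (Ideal.mul_mem_left _ _ hy.1),
        Ideal.mul_mem_left _ _ hy.2⟩
      rw [pow_two]
      exact Ideal.mul_mem_mul (h0 a) hy.2
  induction k generalizing x with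
  | zero => exact ⟨by rw [zero_add, pow_one]; exact h0 x, by rw [pow_zero, Ideal.one_eq_top]; trivial⟩
  | succ k ih =>
    rw [pow_succ] at hx
    induction hx using Submodule.mul_induction_on' with
    | mem_mul_mem y hy z hz =>
      obtain ⟨a1, a2⟩ := ih hy
      obtain ⟨b1, b2⟩ := hJ z hz
      have e : α (y * z) - β (y * z) = (α y - β y) * (α z - β z) + (α y - β y) * β z + β y * (α z - β z) := by
        rw [map_mul, map_mul]; ring
      have b1' : α z - β z ∈ I := Ideal.pow_le_self two_ne_zero b1
      rw [e, map_mul]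
      refine ⟨Ideal.add_mem _ (Ideal.add_mem _ ?_ ?_) ?_, ?_⟩
      · rw [pow_succ]; exact Ideal.mul_mem_mul a1 b1'
      · rw [pow_succ]; exact Ideal.mul_mem_mul a1 b2
      · have e2 : I ^ (k + 1 + 1) = I ^ k * I ^ 2 := by rw [← pow_add]
        rw [e2]; exact Ideal.mul_mem_mul a2 b1
      · rw [pow_succ]; exact Ideal.mul_mem_mul a2 b2
    | add y _ z _ hy hz =>
      have e : α (y + z) - β (y + z) = (α y - β y) + (α z - β z) := by rw [map_add, map_add]; ring
      rw [e, map_add]
      exact ⟨Ideal.add_mem _ hy.1 hz.1, Ideal.add_mem _ hy.2 hz.2⟩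

/-- The truncations of the symmetric algebra. -/
abbrev Tr (C : Type v) [CommRing C] (P : Type w) [AddCommGroup P] [Module C P] (n : ℕ) : Type _ :=
  SymmetricAlgebra C P ⧸ (J C P) ^ n

/-- The augmentation of the truncations. -/
noncomputable def augT (n : ℕ) : Tr C P (n + 1) →ₐ[C] C :=
  Ideal.Quotient.liftₐ _ SymmetricAlgebra.algebraMapInv (fun b hb => by
    have := Ideal.pow_le_self (Nat.succ_ne_zero n) hb
    exact this)

theorem augT_mk (n : ℕ) (x : SymmetricAlgebra C P) :
    augT n (Ideal.Quotient.mk _ x) = SymmetricAlgebra.algebraMapInv x := rfl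

/-- The transition maps of the truncations. -/
noncomputable def fac (m n : ℕ) (h : n ≤ m) : Tr C P m →ₐ[C] Tr C P n :=
  Ideal.Quotient.liftₐ _ (Ideal.Quotient.mkₐ C _) (fun b hb => by
    refine Ideal.Quotient.eq_zero_iff_mem.2 ?_
    exact Ideal.pow_le_pow_right h hb)

theorem fac_mk (m n : ℕ) (h : n ≤ m) (x : SymmetricAlgebra C P) :
    fac m n h (Ideal.Quotient.mk _ x) = Ideal.Quotient.mk _ x := rfl

end Sym

section Main

variable {R : Type u} {C : Type v} {B : Type w} [CommRing R] [CommRing C] [CommRing B] [Algebra R C] [Algebra R B]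
  [Algebra C B] [IsScalarTower R C B] (π : B →ₐ[C] C)

/-- The projection to the conormal module. -/
noncomputable def pr : B →ₗ[C] Cn π where
  toFun b := (RingHom.ker π).toCotangent ⟨b - algebraMap C B (π b), by
    rw [RingHom.mem_ker, map_sub, AlgHom.commutes]
    exact sub_self _⟩
  map_add' b b' := by
    rw [← map_add]
    congr 1
    apply Subtype.ext
    change b + b' - algebraMap C B (π (b + b')) = (b - algebraMap C B (π b)) + (b' - algebraMap C B (π b'))
    rw [map_add, map_add]
    ring
  map_smul' c b := by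
    rw [RingHom.id_apply]
    have e : ∀ x : RingHom.ker π, c • (RingHom.ker π).toCotangent x = (RingHom.ker π).toCotangent (c • x) := by
      intro x
      exact (((RingHom.ker π).toCotangent.restrictScalars C).map_smul c x).symm
    rw [e]
    congr 1
    apply Subtype.ext
    change c • b - algebraMap C B (π (c • b)) = c • (b - algebraMap C B (π b))
    rw [map_smul, smul_eq_mul, map_mul, smul_sub, Algebra.smul_def, Algebra.smul_def]

theorem pr_coe (x : RingHom.ker π) : pr π (x : B) = (RingHom.ker π).toCotangent x := by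
  change (RingHom.ker π).toCotangent _ = _
  congr 1
  apply Subtype.ext
  change (x : B) - algebraMap C B (π x) = x
  have : π (x : B) = 0 := x.2
  rw [this, map_zero, sub_zero]

theorem pr_algebraMap (c : C) : pr π (algebraMap C B c) = 0 := by
  change (RingHom.ker π).toCotangent _ = _
  rw [Ideal.toCotangent_eq_zero]
  change algebraMap C B c - algebraMap C B (π (algebraMap C B c)) ∈ _
  rw [AlgHom.commutes]
  change algebraMap C B c - algebraMap C B c ∈ _
  rw [sub_self]
  exact zero_mem _

theorem pr_mul (b b' : B) : pr π (b * b') = π b • pr π b' + π b' • pr π b := by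
  rw [← map_smul, ← map_smul, ← map_add]
  change (RingHom.ker π).toCotangent _ = (RingHom.ker π).toCotangent _
  rw [Ideal.toCotangent_eq, pow_two]
  have e : (b * b' - algebraMap C B (π (b * b'))) -
      ((π b • b' + π b' • b) - algebraMap C B (π (π b • b' + π b' • b))) =
      (b - algebraMap C B (π b)) * (b' - algebraMap C B (π b')) := by
    rw [map_mul, map_add, map_smul, map_smul, Algebra.smul_def, Algebra.smul_def, smul_eq_mul, smul_eq_mul, map_mul,
      map_add, map_mul, map_mul]
    ring
  refine (congrArg (· ∈ _) e).mpr ?_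
  have h : ∀ b : B, b - algebraMap C B (π b) ∈ RingHom.ker π := by
    intro b
    rw [RingHom.mem_ker, map_sub, AlgHom.commutes]
    exact sub_self _
  exact Ideal.mul_mem_mul (h b) (h b')

/-- The first order approximation of the inverse. -/
noncomputable def tau1 : B →ₐ[C] Tr C (Cn π) 2 :=
  AlgHom.ofLinearMap
    ((Ideal.Quotient.mkₐ C _).toLinearMap ∘ₗ
      (Algebra.linearMap C (SymmetricAlgebra C (Cn π)) ∘ₗ π.toLinearMap + SymmetricAlgebra.ι C _ ∘ₗ pr π))
    (by
      change Ideal.Quotient.mk _ (algebraMap C _ (π 1) + SymmetricAlgebra.ι C _ (pr π 1)) = 1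
      have : pr π 1 = 0 := by rw [← map_one (algebraMap C B), pr_algebraMap]
      rw [this, map_zero, add_zero, map_one, map_one, map_one])
    (by
      intro b b'
      change Ideal.Quotient.mk _ (algebraMap C _ (π (b * b')) + SymmetricAlgebra.ι C _ (pr π (b * b'))) =
        Ideal.Quotient.mk _ (algebraMap C _ (π b) + SymmetricAlgebra.ι C _ (pr π b)) *
          Ideal.Quotient.mk _ (algebraMap C _ (π b') + SymmetricAlgebra.ι C _ (pr π b'))
      rw [← map_mul, Ideal.Quotient.eq]
      have e : (algebraMap C _ (π (b * b')) + SymmetricAlgebra.ι C _ (pr π (b * b'))) -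
          (algebraMap C _ (π b) + SymmetricAlgebra.ι C _ (pr π b)) *
            (algebraMap C _ (π b') + SymmetricAlgebra.ι C _ (pr π b')) =
          - (SymmetricAlgebra.ι C _ (pr π b) * SymmetricAlgebra.ι C _ (pr π b')) := by
        rw [pr_mul, map_mul, map_mul, map_add, map_smul, map_smul, Algebra.smul_def, Algebra.smul_def]
        ring
      rw [e, pow_two]
      exact neg_mem (Ideal.mul_mem_mul (ι_mem _) (ι_mem _)))

theorem tau1_apply (b : B) :
    tau1 π b = Ideal.Quotient.mk _ (algebraMap C _ (π b) + SymmetricAlgebra.ι C _ (pr π b)) := rfl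

theorem augT_tau1 (b : B) : augT 1 (tau1 π b) = π b := by
  rw [tau1_apply, augT_mk, map_add, SymmetricAlgebra.algebraMapInv_ι, add_zero, AlgHom.commutes]
  rfl

include R in
theorem exists_tau [Algebra.FormallySmooth R B] (n : ℕ) :
    ∃ τ : B →ₐ[C] Tr C (Cn π) (n + 2), ∀ b, fac (n + 2) 2 (by omega) (τ b) = tau1 π b := by
  induction n with
  | zero =>
    refine ⟨tau1 π, fun b => ?_⟩
    obtain ⟨x, hx⟩ := Ideal.Quotient.mk_surjective (tau1 π b)
    rw [← hx, fac_mk]
  | succ n ih =>
    obtain ⟨τ, hτ⟩ := ih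
    have hsurj : Function.Surjective (fac (C := C) (P := Cn π) (n + 1 + 2) (n + 2) (by omega)) := by
      intro y
      obtain ⟨x, rfl⟩ := Ideal.Quotient.mk_surjective y
      exact ⟨Ideal.Quotient.mk _ x, rfl⟩
    obtain ⟨f', hf'⟩ := exists_lift (R := R) π (fac (C := C) (P := Cn π) (n + 1 + 2) (n + 2) (by omega)) hsurj
      (augT (n + 2)) (by
        intro x y hx hy
        obtain ⟨x, rfl⟩ := Ideal.Quotient.mk_surjective x
        obtain ⟨y, rfl⟩ := Ideal.Quotient.mk_surjective y
        rw [augT_mk] at hx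
        rw [fac_mk, Ideal.Quotient.eq_zero_iff_mem] at hy
        have hx' : x ∈ J C (Cn π) := hx
        have h := Ideal.mul_mem_mul hy hx'
        rw [← pow_succ, mul_comm y x] at h
        rw [← map_mul, Ideal.Quotient.eq_zero_iff_mem]
        exact h) (by
        intro y hy
        obtain ⟨y, rfl⟩ := Ideal.Quotient.mk_surjective y
        rw [fac_mk, Ideal.Quotient.eq_zero_iff_mem] at hy
        rw [augT_mk]
        exact Ideal.pow_le_self (by omega) hy) τ (by
        intro b e he
        obtain ⟨x, rfl⟩ := Ideal.Quotient.mk_surjective e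
        rw [fac_mk] at he
        rw [augT_mk, ← augT_tau1 π b, ← hτ b, ← he, fac_mk, augT_mk])
    refine ⟨f', fun b => ?_⟩
    rw [← hτ b, ← hf' b]
    obtain ⟨x, hx⟩ := Ideal.Quotient.mk_surjective (f' b)
    rw [← hx, fac_mk, fac_mk, fac_mk]

include R in
/-- **Injectivity.** -/
theorem lift_injective [Algebra.FormallySmooth R B] (s : Cn π →ₗ[C] RingHom.ker π)
    (hs : ∀ p, (RingHom.ker π).toCotangent (s p) = p) :
    Function.Injective (SymmetricAlgebra.lift (((RingHom.ker π).subtype.restrictScalars C) ∘ₗ s) :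
      SymmetricAlgebra C (Cn π) →ₐ[C] B) := by
  set θ : SymmetricAlgebra C (Cn π) →ₐ[C] B :=
    SymmetricAlgebra.lift (((RingHom.ker π).subtype.restrictScalars C) ∘ₗ s) with hθ
  have hι : ∀ p, θ (SymmetricAlgebra.ι C _ p) = (s p : B) := fun p => SymmetricAlgebra.lift_ι_apply _ p
  rw [injective_iff_map_eq_zero]
  intro x hx
  have hπθ : π.comp θ = SymmetricAlgebra.algebraMapInv := by
    apply SymmetricAlgebra.algHom_ext
    ext p
    change π (θ (SymmetricAlgebra.ι C _ p)) = SymmetricAlgebra.algebraMapInv (SymmetricAlgebra.ι C _ p)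
    rw [hι, SymmetricAlgebra.algebraMapInv_ι]
    exact (s p).2
  have hπθ' : ∀ y, π (θ y) = SymmetricAlgebra.algebraMapInv y := fun y =>
    congrArg (fun f : SymmetricAlgebra C (Cn π) →ₐ[C] C => f y) hπθ
  apply eq_zero_of_forall
  intro k
  induction k with
  | zero => rw [pow_zero, Ideal.one_eq_top]; trivial
  | succ k ih =>
    by_cases hk : k = 0
    · subst hk
      rw [zero_add, pow_one]
      change SymmetricAlgebra.algebraMapInv x = 0
      rw [← hπθ', hx, map_zero]
    obtain ⟨n, rfl⟩ := Nat.exists_eq_succ_of_ne_zero hk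
    obtain ⟨τ, hτ⟩ := exists_tau (R := R) π n
    let I : Ideal (Tr C (Cn π) (n + 2)) := (J C (Cn π)).map (Ideal.Quotient.mk _)
    have hI : ∀ (m : ℕ) (y : SymmetricAlgebra C (Cn π)), m ≤ n + 2 →
        ((Ideal.Quotient.mk _ y : Tr C (Cn π) (n + 2)) ∈ I ^ m ↔ y ∈ (J C (Cn π)) ^ m) := by
      intro m y hm
      rw [← Ideal.map_pow]
      constructor
      · intro hy
        obtain ⟨z, hz, hzy⟩ := (Ideal.mem_map_iff_of_surjective _ Ideal.Quotient.mk_surjective).1 hy
        rw [Ideal.Quotient.eq] at hzy
        have := Ideal.pow_le_pow_right hm hzy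
        have e : y = z - (z - y) := by ring
        rw [e]
        exact Ideal.sub_mem _ hz this
      · intro hy
        exact Ideal.mem_map_of_mem _ hy
    have h := sub_mem_pow I (τ.toRingHom.comp θ.toRingHom) (Ideal.Quotient.mk _) (by
        intro y
        change τ (θ y) - Ideal.Quotient.mk _ y ∈ I
        obtain ⟨z, hz⟩ := Ideal.Quotient.mk_surjective (τ (θ y))
        have e1 := hτ (θ y)
        rw [← hz, fac_mk] at e1
        have e2 := congrArg (augT 1) e1
        rw [augT_mk, augT_tau1, hπθ'] at e2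
        rw [← hz, ← map_sub, ← pow_one I, hI 1 _ (by omega), pow_one]
        change SymmetricAlgebra.algebraMapInv (z - y) = 0
        rw [map_sub, e2, sub_self]) (by
        intro p
        exact Ideal.mem_map_of_mem _ (ι_mem p)) (by
        intro p
        change τ (θ (SymmetricAlgebra.ι C _ p)) - Ideal.Quotient.mk _ (SymmetricAlgebra.ι C _ p) ∈ I ^ 2
        obtain ⟨z, hz⟩ := Ideal.Quotient.mk_surjective (τ (θ (SymmetricAlgebra.ι C _ p)))
        have e1 := hτ (θ (SymmetricAlgebra.ι C _ p))
        rw [← hz, fac_mk, hι, tau1_apply, pr_coe, hs] at e1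
        have e2 : π (s p : B) = 0 := (s p).2
        rw [e2, map_zero, zero_add, Ideal.Quotient.eq] at e1
        rw [← hz, ← map_sub, hI 2 _ (by omega)]
        exact e1) (n + 1) ih
    have h1 : -(Ideal.Quotient.mk _ x : Tr C (Cn π) (n + 2)) ∈ I ^ (n + 2) := by
      have := h.1
      change τ (θ x) - Ideal.Quotient.mk _ x ∈ _ at this
      rwa [hx, map_zero, zero_sub] at this
    have h2 := neg_mem h1
    rw [neg_neg, hI _ _ le_rfl] at h2
    exact h2

variable (R) in
/-- **Positively graded formally smooth algebras of finite type are symmetric algebras of projective modules.** -/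
theorem exists_equiv [Algebra.FormallySmooth R B] [Algebra.FiniteType C B] (δ : B →ₐ[C] B[X])
    (h1 : ∀ b, (δ b).eval 1 = b) (h2 : ∀ b k, δ ((δ b).coeff k) = monomial k ((δ b).coeff k))
    (h3 : ∀ b, (δ b).coeff 0 = algebraMap C B (π b)) :
    Module.Finite C (Cn π) ∧ Module.Projective C (Cn π) ∧ Nonempty (SymmetricAlgebra C (Cn π) ≃ₐ[C] B) := by
  have hf : Module.Finite C (Cn π) := finite π (ker_fg π)
  have hp : Module.Projective C (Cn π) := projective (R := R) π
  obtain ⟨s, hs, hs'⟩ := exists_section π h1 h2 h3 hf hp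
  exact ⟨hf, hp, ⟨AlgEquiv.ofBijective _ ⟨lift_injective (R := R) π s hs, lift_surjective π h1 h2 h3 s hs hs'⟩⟩⟩

end Main

end K950.SymC
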