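import Groth.Agent.Magnet.K950.ZarAff
import Groth.Agent.Magnet.K951.Psh

/-!
# Cartesian squares of Zariski sheaves may be tested on affine schemes
-/

set_option autoImplicit false

universe w u

open CategoryTheory CategoryTheory.Limits AlgebraicGeometry Opposite

namespace K950.ZarPull

open K950.ZarAff

variable {S : Scheme.{u}} {F₁ F₂ F₃ F₄ : (Over S)ᵒᵖ ⥤ Type w} {t : F₁ ⟶ F₂} {l : F₁ ⟶ F₃} {r : F₂ ⟶ F₄} {b : F₃ ⟶ F₄}

/-- A commutative square of Zariski sheaves on schemes over `S` is cartesian as soon as it is so on the affine ones. -/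
theorem isPullback_of_affine (hw : t ≫ r = l ≫ b)
    (h₁ : Presieve.IsSheaf (Scheme.zariskiTopology.over S) F₁)
    (h₂ : Presieve.IsSheaf (Scheme.zariskiTopology.over S) F₂)
    (h₃ : Presieve.IsSheaf (Scheme.zariskiTopology.over S) F₃)
    (hinj : ∀ V : Over S, IsAffine V.left → ∀ (x y : F₁.obj (op V)), t.app (op V) x = t.app (op V) y →
      l.app (op V) x = l.app (op V) y → x = y)
    (hsurj : ∀ V : Over S, IsAffine V.left → ∀ (x : F₂.obj (op V)) (y : F₃.obj (op V)),
      r.app (op V) x = b.app (op V) y → ∃ z : F₁.obj (op V), t.app (op V) z = x ∧ l.app (op V) z = y) :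
    IsPullback t l r b := by
  have hinj' : ∀ (T : Over S) (x y : F₁.obj (op T)), t.app (op T) x = t.app (op T) y →
      l.app (op T) x = l.app (op T) y → x = y := by
    intro T x y hx hy
    apply (h₁ _ (affSieve_mem T)).isSeparatedFor.ext
    rintro W w ⟨V, v, k, hV, hv, rfl⟩
    have h2 : F₁.map v.op x = F₁.map v.op y := by
      apply hinj V hV
      · have e1 := NatTrans.naturality_apply t v.op x
        have e2 := NatTrans.naturality_apply t v.op y
        rw [e1, e2, hx]
      · have e1 := NatTrans.naturality_apply l v.op x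
        have e2 := NatTrans.naturality_apply l v.op y
        rw [e1, e2, hy]
    rw [op_comp, Functor.map_comp]
    exact congrArg (F₁.map k.op) h2
  refine K951.Psh.isPullback_of hw (fun T => hinj' (unop T)) ?_
  rintro ⟨T⟩ x y hxy
  have key : ∀ ⦃W : Over S⦄ (w : W ⟶ T), affSieve T w →
      ∃ z : F₁.obj (op W), t.app (op W) z = F₂.map w.op x ∧ l.app (op W) z = F₃.map w.op y := by
    rintro W w ⟨V, v, k, hV, hv, rfl⟩
    obtain ⟨z, hz1, hz2⟩ := hsurj V hV (F₂.map v.op x) (F₃.map v.op y) (by
      have e1 := NatTrans.naturality_apply r v.op x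
      have e2 := NatTrans.naturality_apply b v.op y
      rw [e1, e2, hxy])
    refine ⟨F₁.map k.op z, ?_, ?_⟩
    · have e1 := NatTrans.naturality_apply t k.op z
      rw [e1, hz1, op_comp, Functor.map_comp]
      rfl
    · have e1 := NatTrans.naturality_apply l k.op z
      rw [e1, hz2, op_comp, Functor.map_comp]
      rfl
  choose z hz1 hz2 using key
  let fam : Presieve.FamilyOfElements F₁ (affSieve T).arrows := fun W w hw => z w hw
  have hfam : fam.Compatible := by
    rw [Presieve.compatible_iff_sieveCompatible]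
    intro W W' w v hw
    have e3 : ∀ (F : (Over S)ᵒᵖ ⥤ Type w) (s : F.obj (op T)), F.map (v ≫ w).op s = F.map v.op (F.map w.op s) := by
      intro F s
      rw [op_comp, Functor.map_comp]
      rfl
    apply hinj' W'
    · have e1 : t.app (op W') (z (v ≫ w) ((affSieve T).downward_closed hw v)) = F₂.map (v ≫ w).op x := hz1 _ _
      have e2 : t.app (op W') (F₁.map v.op (z w hw)) = F₂.map v.op (F₂.map w.op x) := by
        rw [← hz1 w hw]
        exact NatTrans.naturality_apply t v.op _
      exact (e1.trans (e3 F₂ x)).trans e2.symm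
    · have e1 : l.app (op W') (z (v ≫ w) ((affSieve T).downward_closed hw v)) = F₃.map (v ≫ w).op y := hz2 _ _
      have e2 : l.app (op W') (F₁.map v.op (z w hw)) = F₃.map v.op (F₃.map w.op y) := by
        rw [← hz2 w hw]
        exact NatTrans.naturality_apply l v.op _
      exact (e1.trans (e3 F₃ y)).trans e2.symm
  have hR := affSieve_mem T
  refine ⟨(h₁ _ hR).amalgamate fam hfam, ?_, ?_⟩
  · apply (h₂ _ hR).isSeparatedFor.ext
    intro W w hw
    have e1 : F₁.map w.op ((h₁ _ hR).amalgamate fam hfam) = z w hw := (h₁ _ hR).valid_glue hfam w hw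
    have e2 : t.app (op W) (F₁.map w.op ((h₁ _ hR).amalgamate fam hfam)) =
        F₂.map w.op (t.app (op T) ((h₁ _ hR).amalgamate fam hfam)) := NatTrans.naturality_apply t w.op _
    rw [← e2, e1]
    exact hz1 w hw
  · apply (h₃ _ hR).isSeparatedFor.ext
    intro W w hw
    have e1 : F₁.map w.op ((h₁ _ hR).amalgamate fam hfam) = z w hw := (h₁ _ hR).valid_glue hfam w hw
    have e2 : l.app (op W) (F₁.map w.op ((h₁ _ hR).amalgamate fam hfam)) =
        F₃.map w.op (l.app (op T) ((h₁ _ hR).amalgamate fam hfam)) := NatTrans.naturality_apply l w.op _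
    rw [← e2, e1]
    exact hz2 w hw

end K950.ZarPull
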